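import Cfsg.Agent.FittingPQ.Linear
import Cfsg.Agent.FixedPointFree.Prime
import Cfsg.Agent.Coprime.Action

/-!
Automorphisms of an abelian group: Frobenius arguments, linearisation and the group form of the
theorem of Hall and Higman.

* `eq_bot_of_frobenius` : `x` of prime order fixed-point-free on `W` and on `X` forces `X = 1`.
* `commute_of_frobenius` : `x` fixed-point-free on `W` centralises every abelian invariant `X`.
* `hh_aut` : the class two case, for a subgroup of `MulAut W`.
-/

set_option autoImplicit false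

namespace Cfsg.Agent.FittingPQ

open Module Subgroup SemidirectProduct
open scoped commutatorElement TensorProduct Pointwise

universe u v

variable {W : Type u} [CommGroup W] [Finite W]

omit [Finite W] in
theorem pow_apply_fixed {x : MulAut W} {w : W} (hw : x w = w) :
    ∀ g ∈ zpowers x, g w = w := by
  intro g hg
  have h : x ∈ MulAction.stabilizer (MulAut W) w := hw
  exact (zpowers_le.mpr h) hg

/-- `x` of prime order without fixed points on `W` and on `X`: then `X` is trivial. -/
theorem eq_bot_of_frobenius {q : ℕ} (hq : q.Prime) {x : MulAut W} (hx : x ^ q = 1)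
    (hfix : ∀ w, x w = w → w = 1) {X : Subgroup (MulAut W)}
    (hxX : x ∈ normalizer (X : Set (MulAut W))) (hXW : (Nat.card X).Coprime (Nat.card W))
    (hXx : X ⊓ centralizer {x} = ⊥) : X = ⊥ := by
  let φ := MonoidHom.id (MulAut W)
  have := Coprime.finite_semidirect φ
  let U := Coprime.inG φ
  let X' : Subgroup (W ⋊[φ] MulAut W) := X.map inr
  have hU : IsMulCommutative U := ⟨⟨by
    rintro ⟨_, a, rfl⟩ ⟨_, b, rfl⟩
    exact Subtype.ext (show (inl a * inl b : W ⋊[φ] MulAut W) = inl b * inl a by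
      rw [← map_mul, ← map_mul, mul_comm])⟩⟩
  have hUn := Coprime.inG_normal φ
  have hcU : X' ≤ centralizer (U : Set (W ⋊[φ] MulAut W)) := by
    refine FixedPointFree.le_centralizer_of_frobenius hq (c := inr x)
      (by rw [← map_pow, hx, map_one]) le_normalizer_of_normal
      (le_normalizer_of_normal (mem_top _)) ?_ ?_ ?_ ?_
    · apply Coprime.mem_normalizer_of_conj_smul_eq
      rw [Coprime.conj_smul_eq_map, Subgroup.map_map]
      rw [show (MulAut.conj (inr x : W ⋊[φ] MulAut W)).toMonoidHom.comp inr =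
          (inr : MulAut W →* W ⋊[φ] MulAut W).comp (MulAut.conj x).toMonoidHom from
        MonoidHom.ext fun g => by simp, ← Subgroup.map_map, ← Coprime.conj_smul_eq_map,
        Coprime.conj_smul_eq_self_of_mem_normalizer hxX]
    · rw [card_map_of_injective inr_injective, Coprime.card_inG]
      exact hXW
    · rw [eq_bot_iff]
      rintro _ ⟨⟨w, rfl⟩, hw⟩
      have h1 : (inr x * inl w * (inr x)⁻¹ : W ⋊[φ] MulAut W) = inl w := by
        rw [← mem_centralizer_singleton_iff.mp hw, mul_inv_cancel_right]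
      rw [Coprime.inr_conj_inl] at h1
      rw [hfix w (inl_injective h1), map_one]
      exact one_mem _
    · rw [eq_bot_iff]
      rintro _ ⟨⟨y, hy, rfl⟩, hyc⟩
      have h1 : y * x = x * y := inr_injective (φ := φ) (by
        rw [map_mul, map_mul]
        exact mem_centralizer_singleton_iff.mp hyc)
      have hy1 : y ∈ X ⊓ centralizer {x} := ⟨hy, mem_centralizer_singleton_iff.mpr h1⟩
      rw [hXx, mem_bot] at hy1
      rw [hy1, map_one]
      exact one_mem _
  rw [eq_bot_iff]
  intro y hy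
  refine mem_bot.mpr (MulEquiv.ext fun w => ?_)
  have h := mem_centralizer_iff.mp (hcU (mem_map_of_mem _ hy)) (inl w) ⟨w, rfl⟩
  have h1 : (inr y * inl w * (inr y)⁻¹ : W ⋊[φ] MulAut W) = inl w := by
    rw [← h, mul_inv_cancel_right]
  rw [Coprime.inr_conj_inl] at h1
  exact inl_injective h1

/-- `x` of prime order without fixed points on `W` centralises every abelian invariant subgroup of
coprime order. -/
theorem commute_of_frobenius {q : ℕ} (hq : q.Prime) {x : MulAut W} (hx : x ^ q = 1)
    (hfix : ∀ w, x w = w → w = 1) {X : Subgroup (MulAut W)} [IsMulCommutative X]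
    (hxX : x ∈ normalizer (X : Set (MulAut W))) (hXW : (Nat.card X).Coprime (Nat.card W))
    (hXq : (Nat.card X).Coprime q) : ∀ y ∈ X, x * y = y * x := by
  have hz : zpowers x ≤ normalizer (X : Set (MulAut W)) := zpowers_le.mpr hxX
  have hle : ⁅X, zpowers x⁆ ≤ X := Coprime.commutator_le_of_le_normalizer hz
  have hcop : (Nat.card (zpowers x)).Coprime (Nat.card X) := by
    rw [Nat.card_zpowers]
    exact (hXq.symm).coprime_dvd_left (orderOf_dvd_of_pow_eq_one hx)
  have hbot : ⁅X, zpowers x⁆ = ⊥ := by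
    refine eq_bot_of_frobenius hq hx hfix
      (normalizer_commutator_ge_right X (zpowers x) (mem_zpowers x))
      (hXW.coprime_dvd_left (card_dvd_of_le hle)) ?_
    rw [← FixedPointFree.centralizer_zpowers, eq_bot_iff]
    rintro y ⟨hy, hyc⟩
    exact (Coprime.centralizer_inf_commutator_eq_bot hz hcop).le ⟨⟨hle hy, hyc⟩, hy⟩
  intro y hy
  have h := commutatorElement_eq_one_iff_mul_comm.mp
    (mem_bot.mp (hbot ▸ commutator_mem_commutator hy (mem_zpowers x)))
  exact h.symm

section Lin

variable {r : ℕ} [Fact r.Prime] [Module (ZMod r) (Additive W)]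

/-- Automorphisms as linear maps. -/
noncomputable def linAut : MulAut W →* Module.End (ZMod r) (Additive W) where
  toFun f := (MonoidHom.toAdditive f.toMonoidHom).toZModLinearMap r
  map_one' := rfl
  map_mul' _ _ := rfl

variable (K : Type) [Field K] [Algebra (ZMod r) K]

/-- Automorphisms as linear maps after extension of scalars. -/
noncomputable def tensorRep : MulAut W →* Module.End K (K ⊗[ZMod r] Additive W) :=
  (Module.End.baseChangeHom (ZMod r) K (Additive W)).toRingHom.toMonoidHom.comp linAut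

omit [Finite W] in
theorem tensorRep_tmul (f : MulAut W) (k : K) (w : W) :
    tensorRep (r := r) K f (k ⊗ₜ Additive.ofMul w) = k ⊗ₜ Additive.ofMul (f w) := rfl

/-- Absence of fixed points survives extension of scalars. -/
theorem tensor_fixed_zero (H : Subgroup (MulAut W)) (hfix : ∀ w, (∀ h ∈ H, h w = w) → w = 1)
    (hH : (Nat.card H : K) ≠ 0) (v : K ⊗[ZMod r] Additive W)
    (hv : ∀ h ∈ H, tensorRep (r := r) K h v = v) : v = 0 := by
  have := Fintype.ofFinite H
  have hprod : ∀ w : W, ∏ h : H, (h : MulAut W) w = 1 := fun w => hfix _ fun g hg => by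
    rw [map_prod]
    exact Fintype.prod_equiv (Equiv.mulLeft (⟨g, hg⟩ : H)) _ _ fun h => rfl
  have hzero : ∑ h : H, linAut (r := r) (h : MulAut W) = 0 := LinearMap.ext fun a => by
    obtain ⟨w, rfl⟩ := Additive.ofMul.surjective a
    rw [LinearMap.coe_sum, Finset.sum_apply, LinearMap.zero_apply]
    exact (ofMul_prod Finset.univ fun h : H => (h : MulAut W) w).symm.trans (by rw [hprod]; rfl)
  have h1 : ∑ h : H, tensorRep (r := r) K (h : MulAut W) v = 0 := by
    have h2 := congrArg (Module.End.baseChangeHom (ZMod r) K (Additive W)) hzero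
    rw [map_sum, map_zero] at h2
    have h3 := LinearMap.congr_fun h2 v
    rw [LinearMap.coe_sum, Finset.sum_apply] at h3
    exact h3
  have h5 : ∑ h : H, tensorRep (r := r) K (h : MulAut W) v = ∑ _h : H, v :=
    Finset.sum_congr rfl fun h _ => hv _ h.2
  rw [h5, Finset.sum_const, Finset.card_univ,
    ← Nat.card_eq_fintype_card, ← Nat.cast_smul_eq_nsmul K] at h1
  exact (smul_eq_zero.mp h1).resolve_left hH

end Lin

omit [CommGroup W] [Finite W] in
theorem prime_pow_ne_zero {K : Type} [Field K] {r : ℕ} [CharP K r] {n : ℕ} (h : n.Coprime r)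
    (hr : r.Prime) : (n : K) ≠ 0 := by
  rw [Ne, CharP.cast_eq_zero_iff K r]
  exact fun hd => hr.not_dvd_one (h ▸ Nat.dvd_gcd hd dvd_rfl)

/-- If `e` is fixed modulo the centre by `x`, it commutes with the image of `[E, x]`. -/
theorem commute_of_fixed_mod {G : Type*} [Group G] {E : Subgroup G} {x : G}
    (hxE : x ∈ normalizer (E : Set G)) (hcl : ⁅E, E⁆ ≤ centralizer (E : Set G))
    (hxc : ∀ z ∈ ⁅E, E⁆, x * z = z * x) {e : G} (he : e ∈ E)
    (hfix : e⁻¹ * (x⁻¹ * e * x) ∈ centralizer (E : Set G)) {h : G} (hh : h ∈ E) :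
    e * (h⁻¹ * (x * h * x⁻¹)) = h⁻¹ * (x * h * x⁻¹) * e := by
  have hxh : x * h * x⁻¹ ∈ E := (mem_normalizer_iff.mp hxE h).mp hh
  set ζ := e⁻¹ * (x⁻¹ * e * x) with hζ
  have hζh : ζ * h = h * ζ := (mem_centralizer_iff.mp hfix h hh).symm
  have h1 : ⁅e, x * h * x⁻¹⁆ = ⁅e, h⁆ := by
    have e1 : ⁅e, x * h * x⁻¹⁆ = x * ⁅x⁻¹ * e * x, h⁆ * x⁻¹ := by
      simp only [commutatorElement_def]; group
    have e2 : ⁅x⁻¹ * e * x, h⁆ = ⁅e, h⁆ := by
      rw [show x⁻¹ * e * x = e * ζ by rw [hζ, mul_inv_cancel_left]]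
      simp only [commutatorElement_def, mul_inv_rev]
      calc e * ζ * h * (ζ⁻¹ * e⁻¹) * h⁻¹ = e * (ζ * h) * ζ⁻¹ * e⁻¹ * h⁻¹ := by group
        _ = e * h * e⁻¹ * h⁻¹ := by rw [hζh]; group
    rw [e1, e2, hxc _ (commutator_mem_commutator he hh), mul_inv_cancel_right]
  have hc1 : ⁅e, h⁻¹⁆ = ⁅e, h⁆⁻¹ := by
    have e3 : ⁅e, h⁻¹⁆ = h⁻¹ * ⁅e, h⁆⁻¹ * h := by simp only [commutatorElement_def]; group
    rw [e3, mem_centralizer_iff.mp (hcl (inv_mem (commutator_mem_commutator he hh))) h⁻¹
      (inv_mem hh), inv_mul_cancel_right]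
  rw [← commutatorElement_eq_one_iff_mul_comm]
  have e4 : ⁅e, h⁻¹ * (x * h * x⁻¹)⁆ = ⁅e, h⁻¹⁆ * (h⁻¹ * ⁅e, x * h * x⁻¹⁆ * h) := by
    simp only [commutatorElement_def]; group
  rw [e4, h1, hc1, mul_assoc h⁻¹, ← mem_centralizer_iff.mp (hcl (commutator_mem_commutator he hh)) h hh,
    inv_mul_cancel_left, inv_mul_cancel]

/-- Elements of `E` commuting with all `h⁻¹ x h x⁻¹` commute with `[E, x]`. -/
theorem mem_centralizer_commutator {E : Subgroup (MulAut W)} {x e : MulAut W}
    (hxE : x ∈ normalizer (E : Set (MulAut W)))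
    (h : ∀ h ∈ E, e * (h⁻¹ * (x * h * x⁻¹)) = h⁻¹ * (x * h * x⁻¹) * e) :
    ⁅E, zpowers x⁆ ≤ centralizer {e} := by
  rw [commutator_le]
  intro g hg y hy
  obtain ⟨i, rfl⟩ := mem_zpowers_iff.mp hy
  have hzn : ∀ n : ℤ, ∀ g ∈ E, x ^ n * g * x ^ (-n) ∈ E := fun n g hg => by
    rw [zpow_neg]
    exact (mem_normalizer_iff.mp (zpow_mem hxE n) g).mp hg
  have key : ∀ n : ℕ, ∀ g ∈ E, g⁻¹ * (x ^ n * g * (x ^ n)⁻¹) ∈ centralizer {e} := by
    intro n
    induction n with
    | zero => intro g hg; simp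
    | succ n ih =>
      intro g hg
      have hg' : x ^ n * g * (x ^ n)⁻¹ ∈ E := (mem_normalizer_iff.mp (pow_mem hxE n) g).mp hg
      have e1 : g⁻¹ * (x ^ (n + 1) * g * (x ^ (n + 1))⁻¹) =
          g⁻¹ * (x ^ n * g * (x ^ n)⁻¹) *
            ((x ^ n * g * (x ^ n)⁻¹)⁻¹ * (x * (x ^ n * g * (x ^ n)⁻¹) * x⁻¹)) := by
        simp only [pow_succ']; group
      rw [e1]
      exact mul_mem (ih g hg) (mem_centralizer_singleton_iff.mpr (h _ hg').symm)
  rw [mem_centralizer_singleton_iff]
  obtain ⟨n, hn⟩ := mem_powers_iff_mem_zpowers.mpr hy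
  change x ^ n = x ^ i at hn
  rw [← hn]
  have := mem_centralizer_singleton_iff.mp (key n g⁻¹ (inv_mem hg))
  have e2 : g⁻¹⁻¹ * (x ^ n * g⁻¹ * (x ^ n)⁻¹) = ⁅g, x ^ n⁆ := by
    simp only [commutatorElement_def]; group
  rwa [e2] at this

/-- **Hall-Higman**, class two, group form: if `x` acts without fixed points on the elementary
abelian `W` and centralises `E'`, whose nontrivial elements have no fixed points, then `[E, x]` is
central or it generates modulo the centre a subgroup of order `(q - 1)²`. -/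
theorem hh_aut {r q : ℕ} (hr : r.Prime) (hq : q.Prime) (hqr : q ≠ r) (hexp : ∀ w : W, w ^ r = 1)
    [Nontrivial W] (E : Subgroup (MulAut W)) (x : MulAut W) (hx : x ^ q = 1)
    (hxE : x ∈ normalizer (E : Set (MulAut W))) (hfix : ∀ w, x w = w → w = 1)
    (hEW : (Nat.card E).Coprime (Nat.card W)) (hEq : (Nat.card E).Coprime q)
    (hcl : ⁅E, E⁆ ≤ centralizer (E : Set (MulAut W))) (hxc : ∀ z ∈ ⁅E, E⁆, x * z = z * x)
    (hfree : ∀ z ∈ ⁅E, E⁆, z ≠ 1 → ∀ w, z w = w → w = 1) :
    ⁅E, zpowers x⁆ ≤ centralizer (E : Set (MulAut W)) ∨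
      (E ⊓ centralizer (E : Set (MulAut W))).relIndex
        ((E ⊓ centralizer (E : Set (MulAut W))) ⊔ ⁅E, zpowers x⁆) = (q - 1) ^ 2 := by
  by_cases hcen : ⁅E, zpowers x⁆ ≤ centralizer (E : Set (MulAut W))
  · exact Or.inl hcen
  refine Or.inr ?_
  set Zc := E ⊓ centralizer (E : Set (MulAut W)) with hZc
  set D := ⁅E, zpowers x⁆ with hD
  set E1 := Zc ⊔ D with hE1
  have hzE : zpowers x ≤ normalizer (E : Set (MulAut W)) := zpowers_le.mpr hxE
  have hDE : D ≤ E := Coprime.commutator_le_of_le_normalizer hzE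
  have hE1E : E1 ≤ E := sup_le inf_le_left hDE
  have hcopz : (Nat.card (zpowers x)).Coprime (Nat.card E) := by
    rw [Nat.card_zpowers]
    exact hEq.symm.coprime_dvd_left (orderOf_dvd_of_pow_eq_one hx)
  have hsolv : Group.IsSolvable (zpowers x) :=
    Group.isSolvable_of_comm fun a b => IsMulCommutative.is_comm.comm a b
  have hED : E = D ⊔ (E ⊓ centralizer (zpowers x : Set (MulAut W))) :=
    (Coprime.commutator_sup_centralizer hzE hcopz (Or.inl hsolv)).symm
  -- `x` centralises the centre of `E`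
  have hZab : IsMulCommutative Zc := ⟨⟨fun a b => Subtype.ext
    (mem_centralizer_iff.mp b.2.2 a a.2.1)⟩⟩
  have hxZ : ∀ z ∈ Zc, x * z = z * x := by
    refine commute_of_frobenius hq hx hfix ?_ (hEW.coprime_dvd_left (card_dvd_of_le inf_le_left))
      (hEq.coprime_dvd_left (card_dvd_of_le inf_le_left))
    have : zpowers x ≤ normalizer (Zc : Set (MulAut W)) :=
      Coprime.le_normalizer_inf hzE (Coprime.le_normalizer_centralizer hzE)
    exact this (mem_zpowers x)
  -- elements fixed modulo the centre commute with `D`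
  have horth : ∀ e ∈ E, e⁻¹ * (x⁻¹ * e * x) ∈ centralizer (E : Set (MulAut W)) →
      D ≤ centralizer {e} := fun e he hf => mem_centralizer_commutator hxE fun h hh =>
    commute_of_fixed_mod hxE hcl hxc he hf hh
  have hcenter : ∀ e ∈ E1, D ≤ centralizer {e} → e ∈ Zc := by
    intro e he hD1
    refine ⟨hE1E he, mem_centralizer_iff.mpr fun g hg => ?_⟩
    rw [SetLike.mem_coe, hED] at hg
    have hle : D ⊔ (E ⊓ centralizer (zpowers x : Set (MulAut W))) ≤ centralizer {e} := by
      refine sup_le hD1 ?_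
      rintro f ⟨hf, hfx⟩
      have hfxc : x * f = f * x := mem_centralizer_iff.mp hfx x (mem_zpowers x)
      have hDf : D ≤ centralizer {f} := horth f hf (by
        rw [mul_assoc x⁻¹, ← hfxc, inv_mul_cancel_left, inv_mul_cancel]; exact one_mem _)
      have hle : Zc ⊔ D ≤ centralizer {f} := sup_le (fun z hz => mem_centralizer_singleton_iff.mpr
        (mem_centralizer_iff.mp hz.2 f hf).symm) hDf
      exact mem_centralizer_singleton_iff.mpr (mem_centralizer_singleton_iff.mp (hle he)).symm
    exact mem_centralizer_singleton_iff.mp (hle hg)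
  -- the automorphism
  have hxE1 : x ∈ normalizer (E1 : Set (MulAut W)) :=
    Coprime.le_normalizer_sup (Coprime.le_normalizer_inf hzE (Coprime.le_normalizer_centralizer hzE))
      (normalizer_commutator_ge_right E (zpowers x)) (mem_zpowers x)
  let σ : MulAut E1 := E1.normalizerMonoidHom ⟨x, hxE1⟩
  have hσ : ∀ e : E1, ((σ e : E1) : MulAut W) = x * e * x⁻¹ := fun e => rfl
  have hctr : ∀ e : E1, e ∈ center E1 ↔ (e : MulAut W) ∈ Zc := by
    intro e
    constructor
    · intro he
      refine hcenter e e.2 fun d hd => mem_centralizer_singleton_iff.mpr ?_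
      exact congrArg Subtype.val (mem_center_iff.mp he ⟨d, mem_sup_right hd⟩)
    · intro he
      exact mem_center_iff.mpr fun g => Subtype.ext (mem_centralizer_iff.mp he.2 g (hE1E g.2))
  have hcomm : (commutator E1).map E1.subtype ≤ ⁅E, E⁆ := by
    rw [map_subtype_commutator]
    exact commutator_mono hE1E hE1E
  have hindex : (center E1).index = Zc.relIndex E1 := by
    rw [relIndex, show center E1 = Zc.subgroupOf E1 from Subgroup.ext fun e => hctr e]
  rw [← hindex]
  have := Fact.mk hr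
  suffices key : ∀ [Module (ZMod r) (Additive W)] (K : Type) [Field K] [Algebra (ZMod r) K]
      [IsAlgClosed K], (center E1).index = (q - 1) ^ 2 from
    @key (AddCommGroup.zmodModule fun a => Additive.toMul.injective (by simpa using hexp a.toMul))
      (AlgebraicClosure (ZMod r)) _ _ _
  intro _ K _ _ _
  have : CharP K r := charP_of_injective_algebraMap' (ZMod r) r
  have : Module.Finite (ZMod r) (Additive W) := Module.Finite.of_finite
  have hpos : 0 < Module.finrank K (K ⊗[ZMod r] Additive W) := (by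
    rw [Module.finrank_baseChange]
    exact Module.finrank_pos)
  have : Nontrivial (K ⊗[ZMod r] Additive W) := Module.nontrivial_of_finrank_pos hpos
  have hE1c : (Nat.card E1).Coprime r := by
    obtain ⟨w, hw⟩ := exists_ne (1 : W)
    have hwr : orderOf w = r := orderOf_eq_prime (hexp w) hw
    exact (hEW.coprime_dvd_left (card_dvd_of_le hE1E)).coprime_dvd_right (hwr ▸ orderOf_dvd_natCard w)
  have hrq : q.Coprime r := (Nat.coprime_primes hq hr).mpr hqr
  refine index_center_eq_sq ((tensorRep (r := r) K).comp E1.subtype) σ (tensorRep (r := r) K x) hq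
    (prime_pow_ne_zero hrq hr) (fun e => ?_) (by rw [← map_pow, hx, map_one]) ?_ ?_ ?_ ?_ ?_ ?_ ?_
  · rw [MonoidHom.comp_apply, MonoidHom.comp_apply, ← map_mul, ← map_mul]
    congr 1
    show x * (e : MulAut W) = (σ e : MulAut W) * x
    rw [hσ, inv_mul_cancel_right]
  · rw [← map_pow, ← map_one E1.normalizerMonoidHom]
    exact congrArg _ (Subtype.ext (by simpa using hx))
  · intro v hv
    refine tensor_fixed_zero K (zpowers x) (fun w hw => hfix w (hw x (mem_zpowers x))) ?_ v ?_
    · refine prime_pow_ne_zero ?_ hr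
      rw [Nat.card_zpowers]
      exact hrq.coprime_dvd_left (orderOf_dvd_of_pow_eq_one hx)
    · intro h hh
      obtain ⟨n, rfl⟩ := mem_powers_iff_mem_zpowers.mpr hh
      simp only [map_pow]
      clear hh
      induction n with
      | zero => simp
      | succ n ih => rw [pow_succ, Module.End.mul_apply, hv, ih]
  · intro z hz
    refine (hctr z).mpr ⟨hE1E z.2, hcl (hcomm (mem_map_of_mem _ hz))⟩
  · intro z hz
    refine Subtype.ext ?_
    rw [hσ, hxZ _ ((hctr z).mp hz), mul_inv_cancel_right]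
  · intro e he
    rw [hctr]
    refine hcenter e e.2 (horth e (hE1E e.2) ?_)
    have h1 : x * (e : MulAut W) * x⁻¹ * (e : MulAut W)⁻¹ ∈ Zc := by
      have := (hctr _).mp he
      simpa [hσ] using this
    set ζ := x * (e : MulAut W) * x⁻¹ * (e : MulAut W)⁻¹ with hζ
    have hxζ := hxZ ζ h1
    have heζ : (e : MulAut W) * ζ = ζ * e := mem_centralizer_iff.mp h1.2 e (hE1E e.2)
    have e1 : x * (e : MulAut W) = ζ * e * x := by rw [hζ]; group
    have e2 : x⁻¹ * (e : MulAut W) * x = ζ⁻¹ * e := by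
      calc x⁻¹ * (e : MulAut W) * x = x⁻¹ * ζ⁻¹ * (ζ * e * x) := by group
        _ = x⁻¹ * ζ⁻¹ * (x * e) := by rw [e1]
        _ = x⁻¹ * ζ⁻¹ * x * e := by group
        _ = ζ⁻¹ * e := by
          rw [mul_assoc x⁻¹ ζ⁻¹, show ζ⁻¹ * x = x * ζ⁻¹ from
            (Commute.inv_right hxζ).eq.symm, inv_mul_cancel_left]
    rw [e2, ← mul_assoc]
    have : (e : MulAut W)⁻¹ * ζ⁻¹ * e = ζ⁻¹ := by
      rw [mul_assoc, show ζ⁻¹ * (e : MulAut W) = e * ζ⁻¹ from (Commute.inv_right heζ).eq.symm,
        inv_mul_cancel_left]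
    rw [this]
    exact inv_mem h1.2
  · intro z hz hz1 v hv
    have hzm : (z : MulAut W) ∈ ⁅E, E⁆ := hcomm (mem_map_of_mem _ hz)
    have hz1' : (z : MulAut W) ≠ 1 := fun h => hz1 (Subtype.ext h)
    refine tensor_fixed_zero K (zpowers (z : MulAut W))
      (fun w hw => hfree _ hzm hz1' w (hw _ (mem_zpowers _))) ?_ v ?_
    · refine prime_pow_ne_zero ?_ hr
      exact hE1c.coprime_dvd_left (card_dvd_of_le (zpowers_le.mpr z.2))
    · intro h hh
      obtain ⟨n, rfl⟩ := mem_powers_iff_mem_zpowers.mpr hh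
      simp only [map_pow]
      clear hh
      induction n with
      | zero => simp
      | succ n ih => rw [pow_succ, Module.End.mul_apply, show tensorRep (r := r) K (z : MulAut W) v = v from hv, ih]
  · intro htop
    refine hcen fun d hd => ?_
    exact ((hctr ⟨d, mem_sup_right hd⟩).mp (htop ▸ mem_top _)).2

end Cfsg.Agent.FittingPQ
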