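import Cfsg.Agent.FittingPQ.Pieces
import Cfsg.Agent.FittingPQ.Aut

/-!
A minimal configuration `R T` normalised by `⟨c, b⟩` on a module `V`: the case of abelian `R`.

* `Cfg`, `MinCfg` : the configuration and its minimality conditions.
* `MinCfg.false_of_abelian` : `R` is not abelian.
-/

set_option autoImplicit false

namespace Cfsg.Agent.FittingPQ

open Subgroup
open scoped commutatorElement Pointwise

universe u

variable {Γ : Type u} [Group Γ]

/-- The configuration: `T` acts on `R`, both act on `V`, and `⟨c, b⟩` acts on all three. -/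
structure Cfg (c b : Γ) (q p k l s : ℕ) (V R T : Subgroup Γ) : Prop where
  pair : Pair c b q p k
  hl : l.Prime
  hs : s.Prime
  ls : s ≠ l
  lp : l ≠ p
  lq : l ≠ q
  sp : s ≠ p
  sq : s ≠ q
  commV : IsMulCommutative V
  notDvd : ¬ l ∣ Nat.card V
  qV : q.Coprime (Nat.card V)
  pV : p.Coprime (Nat.card V)
  hR : IsPGroup l R
  hT : IsPGroup s T
  AV : grp c b ≤ normalizer (V : Set Γ)
  AR : grp c b ≤ normalizer (R : Set Γ)
  AT : grp c b ≤ normalizer (T : Set Γ)
  RV : R ≤ normalizer (V : Set Γ)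
  TV : T ≤ normalizer (V : Set Γ)
  TR : T ≤ normalizer (R : Set Γ)
  fV : Fpf c b V
  fR : Fpf c b R
  fT : Fpf c b T
  faithful : R ⊓ centralizer (V : Set Γ) = ⊥

/-- A minimal configuration in which `T` does not centralise `R`. -/
structure MinCfg (c b : Γ) (q p k l s : ℕ) (V R T : Subgroup Γ) : Prop where
  cfg : Cfg c b q p k l s V R T
  comm : ⁅R, T⁆ = R
  minT : ∀ T' : Subgroup Γ, T' ≤ T → T' ≠ T → grp c b ≤ normalizer (T' : Set Γ) →
    T' ≤ centralizer (R : Set Γ)
  minR : ∀ R' : Subgroup Γ, R' ≤ R → R' ≠ R → grp c b ≤ normalizer (R' : Set Γ) →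
    T ≤ normalizer (R' : Set Γ) → T ≤ centralizer (R' : Set Γ)
  nc : ¬ T ≤ centralizer (R : Set Γ)

variable [Finite Γ]

/-- `c` of prime order fixed-point-free on the abelian `U`, and the fixed points of `c` on `X`
centralising `U`: then `X` centralises `U`. -/
theorem le_centralizer_of_frobenius' {q : ℕ} (hq : q.Prime) {c : Γ} (hc : c ^ q = 1)
    {U X : Subgroup Γ} [IsMulCommutative U] (hXU : X ≤ normalizer (U : Set Γ))
    (hcU : c ∈ normalizer (U : Set Γ)) (hcX : c ∈ normalizer (X : Set Γ))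
    (hcop : (Nat.card X).Coprime (Nat.card U)) (hqX : q.Coprime (Nat.card X))
    (hfU : U ⊓ centralizer {c} = ⊥) (hfX : X ⊓ centralizer {c} ≤ centralizer (U : Set Γ)) :
    X ≤ centralizer (U : Set Γ) := by
  set N := normalizer (U : Set Γ) with hN
  open scoped IsMulCommutative in
  let f : N →* MulAut U := U.normalizerMonoidHom
  let cN : N := ⟨c, hcU⟩
  open scoped IsMulCommutative in
  have hbot : (X.subgroupOf N).map f = ⊥ := by
    refine eq_bot_of_frobenius hq (x := f cN)
      (by rw [← map_pow, show cN ^ q = 1 from Subtype.ext (by simpa [cN] using hc), map_one]) ?_ ?_ ?_ ?_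
    · intro w hw
      refine Subtype.ext (FixedPointFree.eq_one_of_fixed hfU w.2 ?_)
      exact mul_inv_eq_iff_eq_mul.mp (congrArg Subtype.val hw)
    · apply Coprime.mem_normalizer_of_conj_smul_eq
      rw [Coprime.conj_smul_eq_map, Subgroup.map_map,
        show (MulAut.conj (f cN)).toMonoidHom.comp f = f.comp (MulAut.conj cN).toMonoidHom from
          MonoidHom.ext fun g => by simp, ← Subgroup.map_map, ← Coprime.conj_smul_eq_map]
      congr 1
      ext g
      rw [Coprime.mem_conj_smul, mem_subgroupOf, mem_subgroupOf]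
      simpa [cN] using (mem_normalizer_iff''.mp hcX (g : Γ)).symm
    · exact hcop.coprime_dvd_left ((card_map_dvd _ f).trans (Coprime.card_subgroupOf hXU).dvd)
    · rw [eq_bot_iff]
      rintro _ ⟨⟨y, hy, rfl⟩, hyc⟩
      have hyU : ∀ u ∈ U, ((y : N) : Γ) * u * ((y : N) : Γ)⁻¹ ∈ U := fun u hu =>
        (mem_normalizer_iff.mp y.2 u).mp hu
      have hcU' : zpowers c ≤ normalizer (centralizer (U : Set Γ) : Set Γ) :=
        Coprime.le_normalizer_centralizer (zpowers_le.mpr hcU)
      have hzc : ∀ a ∈ zpowers c, ((y : N) : Γ)⁻¹ * (a * (y : N) * a⁻¹) ∈ X ⊓ centralizer (U : Set Γ) := by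
        have hz : zpowers cN ≤ (centralizer {f y}).comap f := by
          rw [zpowers_le, mem_comap, mem_centralizer_singleton_iff]
          exact (mem_centralizer_singleton_iff.mp hyc).symm
        intro a ha
        obtain ⟨i, rfl⟩ := mem_zpowers_iff.mp ha
        refine mem_inf.mpr ⟨X.mul_mem (X.inv_mem hy)
          ((mem_normalizer_iff.mp (zpow_mem hcX i) _).mp hy), ?_⟩
        have h1 : f (cN ^ i) * f y = f y * f (cN ^ i) :=
          mem_centralizer_singleton_iff.mp (hz (zpow_mem (mem_zpowers cN) i))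
        have h2 : f (y⁻¹ * (cN ^ i * y * (cN ^ i)⁻¹)) = 1 := by
          rw [map_mul, map_inv, map_mul, map_mul, map_inv, h1, mul_inv_cancel_right, inv_mul_cancel]
        have h3 : (y⁻¹ * (cN ^ i * y * (cN ^ i)⁻¹) : N) ∈ (U.normalizerMonoidHom).ker := h2
        rw [normalizerMonoidHom_ker] at h3
        simpa [mem_subgroupOf, cN] using h3
      obtain ⟨n, hn, hnc⟩ := Coprime.exists_fixed_mem_leftCoset
        (Coprime.le_normalizer_inf (zpowers_le.mpr hcX) hcU') (by
          rw [Nat.card_zpowers]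
          exact (hqX.coprime_dvd_left (orderOf_dvd_of_pow_eq_one hc)).coprime_dvd_right
            (card_dvd_of_le inf_le_left))
        (Or.inl (Group.isSolvable_of_comm fun a b => IsMulCommutative.is_comm.comm a b)) hzc
      have hm : ((y : N) : Γ) * n ∈ centralizer (U : Set Γ) := hfX
        ⟨mul_mem hy hn.1, FixedPointFree.centralizer_zpowers c ▸ hnc⟩
      have hyC : ((y : N) : Γ) ∈ centralizer (U : Set Γ) :=
        (Subgroup.mul_mem_cancel_right _ hn.2).mp hm
      refine mem_bot.mpr (MulEquiv.ext fun w => Subtype.ext ?_)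
      show ((y : N) : Γ) * (w : Γ) * ((y : N) : Γ)⁻¹ = w
      rw [← mem_centralizer_iff.mp hyC w w.2, mul_inv_cancel_right]
  intro x hx
  have h1 : (⟨x, hXU hx⟩ : N) ∈ U.normalizerMonoidHom.ker :=
    mem_bot.mp (hbot ▸ mem_map_of_mem _ (show (⟨x, hXU hx⟩ : N) ∈ X.subgroupOf N from hx))
  rw [normalizerMonoidHom_ker] at h1
  exact h1

/-- An elementary abelian group acting faithfully acts faithfully on `[V, M]`, without fixed points. -/
theorem actData_commutator {l : ℕ} {V M : Subgroup Γ} (hl : l.Prime) [IsMulCommutative V]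
    (hM : Cfsg.IsElementaryAbelian l M) (hMV : M ≤ normalizer (V : Set Γ))
    (hlV : ¬ l ∣ Nat.card V) (hf : M ⊓ centralizer (V : Set Γ) = ⊥) :
    ActData l ⁅V, M⁆ M ∧ M ⊓ centralizer (⁅V, M⁆ : Subgroup Γ) = ⊥ := by
  have := Fact.mk hl
  have hle : ⁅V, M⁆ ≤ V := Coprime.commutator_le_of_le_normalizer hMV
  have hcop := Coprime.ea_coprime hM hlV
  refine ⟨⟨hl, ⟨⟨fun x y => Subtype.ext (setLike_mul_comm (hle x.2) (hle y.2))⟩⟩, hM,
    normalizer_commutator_ge_right V M,
    fun h => hlV (h.trans (card_dvd_of_le hle)), ?_⟩, ?_⟩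
  · rw [eq_bot_iff]
    rintro v ⟨hv, hvc⟩
    exact (Coprime.centralizer_inf_commutator_eq_bot hMV hcop).le ⟨⟨hle hv, hvc⟩, hv⟩
  · rw [eq_bot_iff]
    rintro x ⟨hx, hxc⟩
    refine hf.le ⟨hx, ?_⟩
    have hV : V ≤ centralizer {x} := by
      rw [← (Coprime.abelian_decomposition hMV hcop).2]
      refine sup_le (fun v hv => mem_centralizer_singleton_iff.mpr
        (mem_centralizer_iff.mp hv.2 x hx).symm) fun v hv => mem_centralizer_singleton_iff.mpr
          (mem_centralizer_iff.mp hxc v hv)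
    exact mem_centralizer_iff.mpr fun v hv => mem_centralizer_singleton_iff.mp (hV hv)

variable {c b : Γ} {q p k l s : ℕ} {V R T : Subgroup Γ}

theorem Cfg.card_R (h : Cfg c b q p k l s V R T) : ∃ n, Nat.card R = l ^ n :=
  (have := Fact.mk h.hl; h.hR.exists_card_eq)

theorem Cfg.coprime_R (h : Cfg c b q p k l s V R T) {r : ℕ} (hr : r.Prime) (hlr : l ≠ r) :
    r.Coprime (Nat.card R) := by
  obtain ⟨n, hn⟩ := h.card_R
  rw [hn]
  exact ((Nat.coprime_primes hr h.hl).mpr hlr.symm).pow_right n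

theorem Cfg.coprime_T (h : Cfg c b q p k l s V R T) {r : ℕ} (hr : r.Prime) (hsr : s ≠ r) :
    r.Coprime (Nat.card T) := by
  have := Fact.mk h.hs
  obtain ⟨n, hn⟩ := h.hT.exists_card_eq
  rw [hn]
  exact ((Nat.coprime_primes hr h.hs).mpr hsr.symm).pow_right n

theorem Cfg.coprime_TR (h : Cfg c b q p k l s V R T) : (Nat.card T).Coprime (Nat.card R) := by
  have := Fact.mk h.hs
  obtain ⟨m, hm⟩ := h.hT.exists_card_eq
  obtain ⟨n, hn⟩ := h.card_R
  rw [hm, hn]
  exact ((Nat.coprime_primes h.hs h.hl).mpr h.ls).pow m n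

theorem Cfg.isSolvable_T (h : Cfg c b q p k l s V R T) : Group.IsSolvable T := by
  have := Fact.mk h.hs
  have := h.hT.isNilpotent
  infer_instance

/-- Either `T` centralises `c`, or `T = [T, c]` and `C_T(c)` centralises `R`. -/
theorem MinCfg.cases_T (h : MinCfg c b q p k l s V R T) : T ≤ centralizer {c} ∨
    (T ⊓ centralizer {c} ≤ centralizer (R : Set Γ) ∧ ⁅T, zpowers c⁆ = T) := by
  by_cases h0 : T ⊓ centralizer {c} = T
  · exact Or.inl (inf_eq_left.mp h0)
  have hAc : grp c b ≤ normalizer (zpowers c : Set Γ) :=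
    sup_le Subgroup.le_normalizer h.cfg.pair.zpowers_b_le
  have hzT : zpowers c ≤ normalizer (T : Set Γ) := le_sup_left.trans h.cfg.AT
  have hC : T ⊓ centralizer {c} ≤ centralizer (R : Set Γ) := by
    refine h.minT _ inf_le_left h0 (Coprime.le_normalizer_inf h.cfg.AT ?_)
    rw [← FixedPointFree.centralizer_zpowers]
    exact Coprime.le_normalizer_centralizer hAc
  refine Or.inr ⟨hC, ?_⟩
  by_contra hne
  refine h.nc ?_
  have hle : ⁅T, zpowers c⁆ ≤ T := Coprime.commutator_le_of_le_normalizer hzT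
  have h1 := h.minT _ hle hne (FixedPointFree.le_normalizer_commutator' h.cfg.AT hAc)
  have h2 := Coprime.commutator_sup_centralizer hzT
    (by rw [Nat.card_zpowers, h.cfg.pair.orderOf_c]; exact h.cfg.coprime_T h.cfg.pair.hq h.cfg.sq)
    (Or.inl (Group.isSolvable_of_comm fun x y => IsMulCommutative.is_comm.comm x y))
  rw [← h2, FixedPointFree.centralizer_zpowers]
  exact sup_le h1 hC

omit [Finite Γ] in
/-- `T` cannot act trivially on `R` modulo a proper subgroup. -/
theorem MinCfg.not_le_triv (h : MinCfg c b q p k l s V R T) {B : Subgroup Γ} (hB : ¬ R ≤ B) :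
    ¬ T ≤ triv R B := fun hT => hB (h.comm ▸ commutator_le_of_le_triv hT)

/-- `R` is not abelian. -/
theorem MinCfg.false_of_abelian (h : MinCfg c b q p k l s V R T) (hab : IsMulCommutative R) :
    False := by
  have hA := h.cfg.pair
  have := h.cfg.commV
  have := Fact.mk h.cfg.hl
  have hcR : c ∈ normalizer (R : Set Γ) := h.cfg.AR (mem_sup_left (mem_zpowers c))
  have hbR : b ∈ normalizer (R : Set Γ) := h.cfg.AR (mem_sup_right (mem_zpowers b))
  have hcT : c ∈ normalizer (T : Set Γ) := h.cfg.AT (mem_sup_left (mem_zpowers c))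
  have hbT : b ∈ normalizer (T : Set Γ) := h.cfg.AT (mem_sup_right (mem_zpowers b))
  have hzb : zpowers b ≤ normalizer (zpowers c : Set Γ) := hA.zpowers_b_le
  have hbC : b ∈ normalizer (centralizer {c} : Set Γ) := by
    rw [← FixedPointFree.centralizer_zpowers]
    exact Coprime.le_normalizer_centralizer hzb (mem_zpowers b)
  have hcC : c ∈ normalizer (centralizer {c} : Set Γ) :=
    Subgroup.le_normalizer (mem_centralizer_singleton_iff.mpr rfl)
  -- `C_R(T) = 1`
  have hCT : R ⊓ centralizer (T : Set Γ) = ⊥ := by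
    have h1 := (Coprime.abelian_decomposition h.cfg.TR h.cfg.coprime_TR).1
    rwa [h.comm, inf_eq_left.mpr inf_le_left] at h1
  have hRne : R ≠ ⊥ := fun hR => h.nc (by rw [hR]; intro x _; simp [mem_centralizer_iff])
  -- `R` is elementary
  have hea : Cfsg.IsElementaryAbelian l R := by
    refine ⟨hab, ?_⟩
    open scoped IsMulCommutative in
    let P : Subgroup Γ := (powMonoidHom l : R →* R).range.map R.subtype
    open scoped IsMulCommutative in
    have hPmem : ∀ {y : Γ}, y ∈ P ↔ ∃ x ∈ R, x ^ l = y := by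
      intro y
      constructor
      · rintro ⟨_, ⟨x, rfl⟩, rfl⟩
        exact ⟨x, x.2, rfl⟩
      · rintro ⟨x, hx, rfl⟩
        exact mem_map_of_mem R.subtype
          (MonoidHom.mem_range.mpr ⟨⟨x, hx⟩, rfl⟩ : (⟨x, hx⟩ : R) ^ l ∈ (powMonoidHom l : R →* R).range)
    open scoped IsMulCommutative in
    have hPR : P ≤ R := map_subtype_le _
    have hnorm : normalizer (R : Set Γ) ≤ normalizer (P : Set Γ) := by
      intro g hg
      apply Coprime.mem_normalizer_of_conj_smul_eq
      ext y
      rw [Coprime.mem_conj_smul]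
      constructor
      · intro hy
        obtain ⟨x, hx, hxy⟩ := hPmem.mp hy
        refine hPmem.mpr ⟨g * x * g⁻¹, (mem_normalizer_iff.mp hg x).mp hx, ?_⟩
        rw [conj_pow, hxy]; group
      · intro hy
        obtain ⟨x, hx, hxy⟩ := hPmem.mp hy
        refine hPmem.mpr ⟨g⁻¹ * x * g, (mem_normalizer_iff''.mp hg x).mp hx, ?_⟩
        rw [show g⁻¹ * x * g = g⁻¹ * x * g⁻¹⁻¹ by rw [inv_inv], conj_pow, hxy, inv_inv]
    have hne : P ≠ R := by
      intro heq
      have hnt : Nontrivial R := (nontrivial_iff_ne_bot R).mpr hRne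
      obtain ⟨n, hn⟩ := h.cfg.hR.exists_card_eq
      have hdvd : l ∣ Nat.card R := by
        rw [hn]
        refine dvd_pow_self l fun h0 => ?_
        rw [h0, pow_zero] at hn
        exact (Finite.one_lt_card_iff_nontrivial.mpr hnt).ne' hn
      obtain ⟨z, hz⟩ := exists_prime_orderOf_dvd_card' l hdvd
      open scoped IsMulCommutative in
      have hsurj : Function.Surjective (powMonoidHom l : R →* R) := fun y => by
        obtain ⟨x, hx, hxy⟩ := hPmem.mp (heq.symm ▸ y.2 : (y : Γ) ∈ P)
        exact ⟨⟨x, hx⟩, Subtype.ext (by simpa using hxy)⟩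
      open scoped IsMulCommutative in
      have hz1 : z = 1 := Finite.injective_iff_surjective.mpr hsurj
        (show z ^ l = (1 : R) ^ l by rw [← hz, pow_orderOf_eq_one, one_pow])
      rw [hz1, orderOf_one] at hz
      exact h.cfg.hl.ne_one hz.symm
    intro x hx
    refine mem_bot.mp (hCT.le ⟨pow_mem hx l, ?_⟩)
    exact Subgroup.le_centralizer_iff.mp
      (h.minR P hPR hne (h.cfg.AR.trans hnorm) (h.cfg.TR.trans hnorm)) (hPmem.mpr ⟨x, hx, rfl⟩)
  obtain ⟨hd, hfaith⟩ := actData_commutator h.cfg.hl hea h.cfg.RV h.cfg.notDvd h.cfg.faithful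
  set V' := ⁅V, R⁆ with hV'
  have hV'V : V' ≤ V := Coprime.commutator_le_of_le_normalizer h.cfg.RV
  have hAV' : grp c b ≤ normalizer (V' : Set Γ) :=
    FixedPointFree.le_normalizer_commutator' h.cfg.AV h.cfg.AR
  have hTV' : T ≤ normalizer (V' : Set Γ) :=
    FixedPointFree.le_normalizer_commutator' h.cfg.TV h.cfg.TR
  have hfV' : Fpf c b V' := le_bot_iff.mp ((inf_le_inf_right _ (inf_le_inf_right _ hV'V)).trans h.cfg.fV.le)
  have hV'ne : V' ≠ ⊥ := fun h1 => hRne (by
    rw [← h.cfg.faithful]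
    exact (inf_eq_left.mpr (fun x hx => Subgroup.le_centralizer_iff.mp
      (commutator_eq_bot_iff_le_centralizer.mp h1) hx)).symm)
  have hlq : q.Coprime (Nat.card R) := h.cfg.coprime_R hA.hq h.cfg.lq
  have hlp : p.Coprime (Nat.card R) := h.cfg.coprime_R hA.hp h.cfg.lp
  have pos := fun {B : Subgroup Γ} (hB : IsPiece l V' R B) =>
    hA.piece_position hd hAV' h.cfg.AR hfV' h.cfg.fR hlq hB
  -- conjugates under `T` of a piece
  have hconjT : ∀ {B : Subgroup Γ}, IsPiece l V' R B → ∀ t ∈ T, IsPiece l V' R (MulAut.conj t • B) :=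
    fun hB t ht => hd.piece_conj hB (hTV' ht) (h.cfg.TR ht)
  rcases h.cases_T with hTc | ⟨hC, hTT⟩
  · -- `T` centralises `c`
    set R0 := R ⊓ centralizer {c} with hR0
    by_cases hR0R : R0 = R
    · refine h.nc ?_
      have hfRb : R ⊓ centralizer {b} = ⊥ := by
        have := h.cfg.fR
        rwa [Fpf, ← hR0, hR0R] at this
      have hfTb : T ⊓ centralizer {b} = ⊥ := by
        have := h.cfg.fT
        rwa [Fpf, inf_eq_left.mpr hTc] at this
      exact FixedPointFree.le_centralizer_of_frobenius hA.hp hA.bp h.cfg.TR hbR hbT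
        h.cfg.coprime_TR hfRb hfTb
    have hR0T : R0 ≤ R ⊓ centralizer (T : Set Γ) := by
      refine le_inf inf_le_left (Subgroup.le_centralizer_iff.mp (h.minR R0 inf_le_left hR0R ?_ ?_))
      · exact Coprime.le_normalizer_inf h.cfg.AR (sup_le (zpowers_le.mpr hcC) (zpowers_le.mpr hbC))
      · exact Coprime.le_normalizer_inf h.cfg.TR (hTc.trans Subgroup.le_normalizer)
    have hR0B : ∀ B : Subgroup Γ, R0 ≤ B := fun B => (hR0T.trans hCT.le).trans bot_le
    have hmoved : ∀ {B : Subgroup Γ}, IsPiece l V' R B → c ∉ normalizer (B : Set Γ) := fun hB => by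
      rcases pos hB with ⟨-, h0, -, -⟩ | ⟨h0, -⟩
      · exact absurd (hR0B _) h0
      · exact h0
    obtain ⟨B', hB', -⟩ := hd.exists_piece le_rfl hd.normal hV'ne
    obtain ⟨y, hy, hyb⟩ := hA.exists_fixed_conj hd hAV' h.cfg.AR hfV' hB' (hmoved hB')
    set B := MulAut.conj y • B' with hBdef
    have hB : IsPiece l V' R B :=
      hd.piece_conj hB' (hAV' (mem_sup_left hy)) (h.cfg.AR (mem_sup_left hy))
    obtain ⟨-, hbB⟩ := hA.piece_moved hd hAV' h.cfg.AR hfV' hlp hB (hmoved hB) hyb
    have hbtriv : b ∈ triv R B := ⟨hbR, hyb, fun x hx => by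
      rw [← commutatorElement_inv]
      exact inv_mem (hbB (commutator_mem_commutator hx (mem_zpowers b)))⟩
    have hu : ∀ t ∈ T, t⁻¹ * b * t * b⁻¹ ∈ normalizer (B : Set Γ) := by
      intro t ht
      have hBt := hconjT hB t ht
      obtain ⟨z, hz, hzb⟩ := hA.exists_fixed_conj hd hAV' h.cfg.AR hfV' hBt (hmoved hBt)
      rw [← Coprime.conj_mul_smul] at hzb
      have h1 : (z * t)⁻¹ * b * (z * t) ∈ normalizer (B : Set Γ) := by
        apply Coprime.mem_normalizer_of_conj_smul_eq
        rw [Coprime.conj_mul_smul, Coprime.conj_mul_smul, Coprime.conj_smul_eq_self_of_mem_normalizer hzb,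
          ← Coprime.conj_mul_smul, inv_mul_cancel, map_one, one_smul]
      have htc : ∀ w ∈ zpowers c, t * w = w * t := fun w hw =>
        (mem_centralizer_iff.mp ((FixedPointFree.centralizer_zpowers c).symm ▸ hTc ht) w hw).symm
      set z' := z⁻¹ * (b * z * b⁻¹) with hz'
      have hz'm : z' ∈ zpowers c :=
        mul_mem (inv_mem hz) ((mem_normalizer_iff.mp (hA.zpowers_b_le (mem_zpowers b)) z).mp hz)
      set u := t⁻¹ * b * t * b⁻¹ with hu
      have huT : u ∈ T := by
        rw [hu, show t⁻¹ * b * t * b⁻¹ = t⁻¹ * (b * t * b⁻¹) by group]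
        exact mul_mem (inv_mem ht) ((mem_normalizer_iff.mp hbT t).mp ht)
      have h2 : (z * t)⁻¹ * b * (z * t) = z' * u * b := by
        calc (z * t)⁻¹ * b * (z * t) = t⁻¹ * z' * b * t := by rw [hz']; group
          _ = z' * t⁻¹ * b * t := by
            rw [show t⁻¹ * z' = z' * t⁻¹ from
              (Commute.inv_left (htc z' hz'm : Commute t z')).eq]
          _ = z' * u * b := by rw [hu]; group
      rw [h2] at h1
      have h3 : z' * u ∈ normalizer (B : Set Γ) := (Subgroup.mul_mem_cancel_right _ hyb).mp h1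
      have hcm : Commute z' u := (mem_centralizer_iff.mp
        ((FixedPointFree.centralizer_zpowers c).symm ▸ hTc huT) z' hz'm)
      have huc : u ^ Nat.card T = 1 := orderOf_dvd_iff_pow_eq_one.mp
        (orderOf_dvd_natCard (G := T) ⟨u, huT⟩ |> fun h => (Subgroup.orderOf_mk (a := u) huT) ▸ h)
      have h4 : z' ^ Nat.card T ∈ normalizer (B : Set Γ) := by
        have := pow_mem h3 (Nat.card T)
        rwa [hcm.mul_pow, huc, mul_one] at this
      have hz1 : z' = 1 := by
        by_contra hne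
        obtain ⟨i, hi⟩ : ∃ i, c ^ i = z' := mem_powers_iff_mem_zpowers.mpr hz'm
        rw [← hi] at hne h4
        have hqi : ¬ q ∣ i * Nat.card T := fun hd' => by
          rcases hA.hq.dvd_mul.mp hd' with ⟨d, hd⟩ | hT'
          · exact hne (by rw [hd, pow_mul, hA.cq, one_pow])
          · exact hA.hq.not_dvd_one ((h.cfg.coprime_T hA.hq h.cfg.sq) ▸ Nat.dvd_gcd dvd_rfl hT')
        obtain ⟨e, he⟩ := exists_pow_eq_self_of_coprime (x := c) (n := i * Nat.card T)
          ((hA.hq.coprime_iff_not_dvd.mpr hqi).symm.coprime_dvd_right (orderOf_dvd_of_pow_eq_one hA.cq))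
        refine hmoved hB (he ▸ pow_mem ?_ e)
        rwa [pow_mul]
      rwa [hz1, one_mul] at h3
    let ψ : T → T := fun t => ⟨(t : Γ)⁻¹ * b * t * b⁻¹, by
      rw [show (t : Γ)⁻¹ * b * t * b⁻¹ = (t : Γ)⁻¹ * (b * t * b⁻¹) by group]
      exact mul_mem (inv_mem t.2) ((mem_normalizer_iff.mp hbT _).mp t.2)⟩
    have hψ : Function.Surjective ψ := by
      refine Finite.injective_iff_surjective.mp fun t t' he => ?_
      have he' : (t : Γ)⁻¹ * b * t * b⁻¹ = (t' : Γ)⁻¹ * b * t' * b⁻¹ := congrArg Subtype.val he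
      have hb : b * ((t' : Γ) * (t : Γ)⁻¹) = (t' : Γ) * (t : Γ)⁻¹ * b := by
        calc b * ((t' : Γ) * (t : Γ)⁻¹)
            = (t' : Γ) * ((t' : Γ)⁻¹ * b * t' * b⁻¹) * b * (t : Γ)⁻¹ := by group
          _ = (t' : Γ) * ((t : Γ)⁻¹ * b * t * b⁻¹) * b * (t : Γ)⁻¹ := by rw [he']
          _ = (t' : Γ) * (t : Γ)⁻¹ * b := by group
      have hmem : (t' : Γ) * (t : Γ)⁻¹ ∈ T := mul_mem t'.2 (inv_mem t.2)
      have h1 : (t' : Γ) * (t : Γ)⁻¹ = 1 := mem_bot.mp (h.cfg.fT.le
        ⟨⟨hmem, hTc hmem⟩, mem_centralizer_singleton_iff.mpr hb.symm⟩)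
      exact Subtype.ext (mul_inv_eq_one.mp h1).symm
    have hTB : T ≤ normalizer (B : Set Γ) := fun t ht => by
      obtain ⟨t', ht'⟩ := hψ ⟨t, ht⟩
      rw [← show (t' : Γ)⁻¹ * b * t' * b⁻¹ = t from congrArg Subtype.val ht']
      exact hu t' t'.2
    refine h.not_le_triv (fun hle => hd.piece_ne hB (le_antisymm hB.le hle)) fun t ht => ?_
    obtain ⟨t', ht'⟩ := hψ ⟨t, ht⟩
    rw [← show (t' : Γ)⁻¹ * b * t' * b⁻¹ = t from congrArg Subtype.val ht']
    have h1 := conj_mem_triv (n := (t' : Γ)⁻¹) (inv_mem (h.cfg.TR t'.2)) (inv_mem (hTB t'.2)) hbtriv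
    rw [inv_inv] at h1
    exact mul_mem h1 (inv_mem hbtriv)
  · -- `T = [T, c]`
    set R0 := R ⊓ centralizer {c} with hR0
    by_cases hR00 : R0 = ⊥
    · exact h.nc (le_centralizer_of_frobenius' hA.hq hA.cq h.cfg.TR hcR hcT h.cfg.coprime_TR
        (h.cfg.coprime_T hA.hq h.cfg.sq) hR00 hC)
    have hR0R : R0 ≤ R := inf_le_left
    set U := ⁅V', R0⁆ with hU
    have hR0V : R0 ≤ normalizer (V' : Set Γ) := hR0R.trans hd.normal
    have hUV : U ≤ V' := Coprime.commutator_le_of_le_normalizer hR0V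
    have hUne : U ≠ ⊥ := fun h1 => hR00 (by
      rw [eq_bot_iff, ← hfaith]
      exact le_inf hR0R (Subgroup.le_centralizer_iff.mp (commutator_eq_bot_iff_le_centralizer.mp h1)))
    have := hd.commV
    obtain ⟨B, hB, hUB⟩ := hd.exists_piece hUV
      (FixedPointFree.le_normalizer_commutator' hd.normal (hd.le_normalizer hR0R)) hUne
    have hR0B : ¬ R0 ≤ B := by
      intro hle
      refine hUB (le_bot_iff.mp ?_)
      rintro v ⟨hv, hvB⟩
      exact (Coprime.centralizer_inf_commutator_eq_bot hR0V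
        (hd.coprime.coprime_dvd_left (card_dvd_of_le hR0R))).le ⟨⟨hUV hv, centralizer_le hle hvB⟩, hv⟩
    obtain ⟨hcB, -, -, hRcB⟩ : c ∈ normalizer (B : Set Γ) ∧ ¬ R0 ≤ B ∧
        V' ⊓ centralizer (B : Set Γ) ⊓ centralizer {c} = ⊥ ∧ ⁅R, zpowers c⁆ ≤ B :=
      (pos hB).resolve_right fun h1 => hR0B h1.2
    have hRB : R ≤ normalizer (B : Set Γ) := hd.le_normalizer hB.le
    have hTcop : ∀ a : Γ, ∀ r : ℕ, r.Prime → s ≠ r → a ^ r = 1 →
        (Nat.card (zpowers a)).Coprime (Nat.card (T ⊓ normalizer (B : Set Γ) : Subgroup Γ)) := by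
      intro a r hr hsr har
      rw [Nat.card_zpowers]
      exact ((h.cfg.coprime_T hr hsr).coprime_dvd_left (orderOf_dvd_of_pow_eq_one har)).coprime_dvd_right
        (card_dvd_of_le inf_le_left)
    -- a fixed element in the coset of the stabiliser
    have hcoset : ∀ a : Γ, ∀ r : ℕ, r.Prime → s ≠ r → a ^ r = 1 → a ∈ normalizer (T : Set Γ) →
        a ∈ normalizer (B : Set Γ) → ∀ t ∈ T, a ∈ normalizer ((MulAut.conj t • B : Subgroup Γ) : Set Γ) →
        ∃ n ∈ T ⊓ normalizer (B : Set Γ), a * (t * n) = t * n * a := by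
      intro a r hr hsr har haT haB t ht hat
      obtain ⟨n, hn, hnc⟩ := Coprime.exists_fixed_mem_leftCoset (A := zpowers a) (k := t)
        (Coprime.le_normalizer_inf (zpowers_le.mpr haT)
          ((zpowers_le.mpr haB).trans Subgroup.le_normalizer)) (hTcop a r hr hsr har)
        (Or.inl (Group.isSolvable_of_comm fun x y => IsMulCommutative.is_comm.comm x y)) (by
          intro x hx
          refine mem_inf.mpr
            ⟨T.mul_mem (T.inv_mem ht) ((mem_normalizer_iff.mp (zpowers_le.mpr haT hx) t).mp ht), ?_⟩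
          apply Coprime.mem_normalizer_of_conj_smul_eq
          rw [show t⁻¹ * (x * t * x⁻¹) = t⁻¹ * (x * (t * x⁻¹)) by group, Coprime.conj_mul_smul,
            Coprime.conj_mul_smul, Coprime.conj_mul_smul,
            Coprime.conj_smul_eq_self_of_mem_normalizer (inv_mem (zpowers_le.mpr haB hx)),
            Coprime.conj_smul_eq_self_of_mem_normalizer (zpowers_le.mpr hat hx),
            ← Coprime.conj_mul_smul, inv_mul_cancel, map_one, one_smul])
      exact ⟨n, hn, mem_centralizer_iff.mp hnc a (mem_zpowers a)⟩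
    have hfix : ∀ t ∈ T, c ∈ normalizer ((MulAut.conj t • B : Subgroup Γ) : Set Γ) →
        t ∈ normalizer (B : Set Γ) := by
      intro t ht htc
      obtain ⟨n, hn, hnc⟩ := hcoset c q hA.hq h.cfg.sq hA.cq hcT hcB t ht htc
      have h1 : t * n ∈ centralizer (R : Set Γ) :=
        hC ⟨mul_mem ht hn.1, mem_centralizer_singleton_iff.mpr hnc.symm⟩
      have h2 : t * n ∈ normalizer (B : Set Γ) :=
        centralizer_le_normalizer _ (centralizer_le hB.le h1)
      exact (Subgroup.mul_mem_cancel_right _ hn.2).mp h2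
    have hTB : T ≤ normalizer (B : Set Γ) := by
      intro t ht
      by_contra htB
      have hBt := hconjT hB t ht
      have hct : c ∉ normalizer ((MulAut.conj t • B : Subgroup Γ) : Set Γ) := fun hc => htB (hfix t ht hc)
      obtain ⟨z, hz, hzb⟩ := hA.exists_fixed_conj hd hAV' h.cfg.AR hfV' hBt hct
      -- the `b`-fixed conjugate is a `T`-conjugate of `B`
      set t2 := z * t * z⁻¹ with ht2
      have ht2T : t2 ∈ T := (mem_normalizer_iff.mp (zpowers_le.mpr hcT hz) t).mp ht
      have hB2 : MulAut.conj z • MulAut.conj t • B = MulAut.conj t2 • B := by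
        rw [ht2, Coprime.conj_mul_smul, Coprime.conj_mul_smul,
          Coprime.conj_smul_eq_self_of_mem_normalizer (inv_mem (zpowers_le.mpr hcB hz))]
      rw [hB2] at hzb
      -- so `b` fixes `B`
      set u := (b * t2 * b⁻¹)⁻¹ * t2 with hu
      have huT : u ∈ T := mul_mem (inv_mem ((mem_normalizer_iff.mp hbT t2).mp ht2T)) ht2T
      have hbu : MulAut.conj b • B = MulAut.conj u • B := by
        rw [hu, show (b * t2 * b⁻¹)⁻¹ * t2 = b * t2⁻¹ * (b⁻¹ * t2) by group, Coprime.conj_mul_smul,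
          Coprime.conj_mul_smul, Coprime.conj_mul_smul,
          Coprime.conj_smul_eq_self_of_mem_normalizer (inv_mem hzb), ← Coprime.conj_mul_smul t2⁻¹,
          inv_mul_cancel, map_one, one_smul]
      have hbB : b ∈ normalizer (B : Set Γ) := by
        apply Coprime.mem_normalizer_of_conj_smul_eq
        rw [hbu]
        refine Coprime.conj_smul_eq_self_of_mem_normalizer (hfix u huT ?_)
        rw [← hbu]
        -- `c` normalises `b B`
        obtain ⟨i, hi⟩ := mem_powers_iff_mem_zpowers.mpr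
          ((mem_normalizer_iff''.mp (hA.zpowers_b_le (mem_zpowers b)) c).mp (mem_zpowers c))
        change c ^ i = b⁻¹ * c * b at hi
        apply Coprime.mem_normalizer_of_conj_smul_eq
        rw [← Coprime.conj_mul_smul, show c * b = b * (b⁻¹ * c * b) by group, Coprime.conj_mul_smul, ← hi,
          Coprime.conj_smul_eq_self_of_mem_normalizer (pow_mem hcB i)]
      obtain ⟨-, hRb2⟩ := hA.piece_moved hd hAV' h.cfg.AR hfV' hlp (hconjT hB t2 ht2T) (by
        intro hc
        refine hct ?_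
        apply Coprime.mem_normalizer_of_conj_smul_eq
        have hzc : z⁻¹ * c * z = c := by
          obtain ⟨i, rfl⟩ := mem_zpowers_iff.mp hz
          group
        have h1 := Coprime.conj_smul_eq_self_of_mem_normalizer hc
        rw [← hB2] at h1
        have h2 := congrArg (fun D => MulAut.conj z⁻¹ • D) h1
        simp only [← Coprime.conj_mul_smul, ← mul_assoc] at h2
        rw [hzc, inv_mul_cancel, one_mul, Coprime.conj_mul_smul] at h2
        exact h2) hzb
      obtain ⟨n, hn, hnb⟩ := hcoset b p hA.hp h.cfg.sp hA.bp hbT hbB t2 ht2T hzb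
      have hg : MulAut.conj t2 • B = MulAut.conj (t2 * n) • B := by
        rw [Coprime.conj_mul_smul t2 n, Coprime.conj_smul_eq_self_of_mem_normalizer hn.2]
      rw [hg] at hRb2
      set g := t2 * n with hgdef
      have hgR : g ∈ normalizer (R : Set Γ) := h.cfg.TR (mul_mem ht2T hn.1)
      have hRb : ∀ x ∈ R, ⁅x, b⁆ ∈ B := by
        intro x hx
        have h1 := hRb2 (commutator_mem_commutator ((mem_normalizer_iff.mp hgR x).mp hx) (mem_zpowers b))
        rw [Coprime.mem_conj_smul] at h1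
        have hgb : g⁻¹ * b * g = b := by rw [mul_assoc, hnb, inv_mul_cancel_left]
        have e : g⁻¹ * ⁅g * x * g⁻¹, b⁆ * g = ⁅x, g⁻¹ * b * g⁆ := by
          simp only [commutatorElement_def]; group
        rwa [e, hgb] at h1
      refine hR0B ?_
      have hbR0 : zpowers b ≤ normalizer (R0 : Set Γ) :=
        Coprime.le_normalizer_inf (zpowers_le.mpr hbR) (zpowers_le.mpr hbC)
      have : IsMulCommutative R0 := ⟨⟨fun x y => Subtype.ext (setLike_mul_comm x.2.1 y.2.1)⟩⟩
      have hdec := (Coprime.abelian_decomposition (V := R0) hbR0 (by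
        rw [Nat.card_zpowers]
        exact (hlp.coprime_dvd_left (orderOf_dvd_of_pow_eq_one hA.bp)).coprime_dvd_right
          (card_dvd_of_le hR0R))).2
      rw [FixedPointFree.centralizer_zpowers, show R0 ⊓ centralizer {b} = ⊥ from h.cfg.fR,
        bot_sup_eq] at hdec
      rw [← hdec, commutator_le]
      intro x hx y hy
      obtain ⟨j, rfl⟩ := mem_powers_iff_mem_zpowers.mpr hy
      have hb' : b ∈ triv R B := ⟨hbR, hbB, fun z hz => by
        rw [← commutatorElement_inv]; exact inv_mem (hRb z hz)⟩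
      have := (pow_mem hb' j).2.2 x (hR0R hx)
      rw [← commutatorElement_inv]
      exact inv_mem this
    refine h.not_le_triv (fun hle => hd.piece_ne hB (le_antisymm hB.le hle))
      (le_triv_of_commutator ⟨hcR, hcB, fun x hx => ?_⟩ h.cfg.TR hTB hTT)
    rw [← commutatorElement_inv]
    exact inv_mem (hRcB (commutator_mem_commutator hx (mem_zpowers c)))

end Cfsg.Agent.FittingPQ
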