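import Cfsg.Agent.FittingPQ.Aut

/-!
The exceptional configuration: a symplectic quotient on which an element of order `p = 2 ^ m + 1`
moves only `2 m` dimensions cannot carry a group `Y` of odd order with a fixed-point-free action of
that element.

* `fixed_bound` : on a module without `Y`-fixed points, `p · dim C(x) ≤ dim V` and `C(x) ≠ 0`.
* `false_of_symplectic` : the configuration is impossible.
-/

set_option autoImplicit false

namespace Cfsg.Agent.FittingPQ

open Module Subgroup
open scoped commutatorElement TensorProduct Pointwise IsMulCommutative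

universe u v w

section Bound

variable {K : Type u} [Field K] [IsAlgClosed K] {Y : Type w} [CommGroup Y] [Finite Y]

/-- Fixed points of an operator of prime order permuting the characters of `Y` semiregularly. -/
theorem fixed_bound (hY : (Nat.card Y : K) ≠ 0) {p : ℕ} (hp : p.Prime) (σ : MulAut Y)
    (hσp : σ ^ p = 1) (hσ : ∀ y, σ y = y → y = 1) :
    ∀ (n : ℕ) (V : Type v) [AddCommGroup V] [Module K V] [FiniteDimensional K V]
      (ρ : Y →* End K V) (x : End K V), x ^ p = 1 → (∀ y, x * ρ y = ρ (σ y) * x) →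
      (∀ v, (∀ y, ρ y v = v) → v = 0) → finrank K V ≤ n →
      p * finrank K (LinearMap.ker (x - 1)) ≤ finrank K V ∧
        (Nontrivial V → LinearMap.ker (x - 1) ≠ ⊥) := by
  classical
  have := Fintype.ofFinite Y
  have := Fact.mk hp
  intro n
  induction n with
  | zero =>
    intro V _ _ _ ρ x _ _ _ hn
    refine ⟨?_, fun hV => absurd hn (by have := Module.finrank_pos (R := K) (M := V); omega)⟩
    have := Submodule.finrank_le (LinearMap.ker (x - 1))
    rw [show finrank K (LinearMap.ker (x - 1)) = 0 by omega, mul_zero]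
    exact Nat.zero_le _
  | succ n ih =>
    intro V _ _ _ ρ x hx hxρ hC hn
    rcases subsingleton_or_nontrivial V with hV | hV
    · refine ⟨?_, fun h => absurd h (not_nontrivial V)⟩
      rw [finrank_zero_of_subsingleton (R := K) (M := LinearMap.ker (x - 1)), mul_zero]
      exact Nat.zero_le _
    obtain ⟨v, hv, hev⟩ := exists_common_eigenvector (fun y : Y => ρ y) fun a b =>
      (Commute.all a b).map ρ
    choose lam hlam using hev
    let χ : Y →* K :=
      { toFun := lam
        map_one' := by
          have h := hlam 1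
          rw [map_one, Module.End.one_apply] at h
          refine (sub_eq_zero.mp ((smul_eq_zero.mp ?_).resolve_right hv)).symm
          rw [sub_smul, one_smul, ← h, sub_self]
        map_mul' := fun a b => by
          have h := hlam (a * b)
          rw [map_mul, Module.End.mul_apply, hlam, map_smul, hlam, smul_smul] at h
          refine (sub_eq_zero.mp ((smul_eq_zero.mp ?_).resolve_right hv)).symm
          rw [sub_smul, mul_comm, h, sub_self] }
    -- the orbit of `v`
    let w : Fin p → V := fun j => (x ^ (j : ℕ)) v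
    let ψ : Fin p → (Y →* K) := fun j => χ.comp ((σ⁻¹) ^ (j : ℕ) : MulAut Y).toMonoidHom
    have hpush : ∀ (j : ℕ) (y : Y), ρ y * x ^ j = x ^ j * ρ (((σ⁻¹) ^ j : MulAut Y) y) := by
      intro j
      induction j with
      | zero => intro y; simp
      | succ j ih =>
        intro y
        have h2 := hxρ ((σ⁻¹ : MulAut Y) y)
        rw [MulAut.apply_inv_self] at h2
        rw [pow_succ' x, ← mul_assoc, ← h2, mul_assoc, ih, ← mul_assoc, pow_succ σ⁻¹,
          MulAut.mul_apply]
    have hw : ∀ j y, ρ y (w j) = ψ j y • w j := fun j y => by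
      show ρ y ((x ^ (j : ℕ)) v) = lam _ • (x ^ (j : ℕ)) v
      rw [← Module.End.mul_apply, hpush, Module.End.mul_apply, hlam, map_smul]
      rfl
    have hw0 : ∀ j, w j ≠ 0 := fun j h => hv (by
      have h2 : (x ^ (p - (j : ℕ))) (w j) = v := by
        rw [← Module.End.mul_apply, ← pow_add, Nat.sub_add_cancel j.2.le, hx, Module.End.one_apply]
      rw [← h2, h, map_zero])
    have hdist : ∀ i j : Fin p, (i : ℕ) < j → ψ i ≠ ψ j := by
      intro i j hij he
      obtain ⟨d, hd⟩ : ∃ d, (j : ℕ) = d + i := ⟨(j : ℕ) - i, by omega⟩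
      have hd0 : 0 < d := by omega
      have hdp : d < p := by have := j.2; omega
      have hinv : ∀ y, χ (((σ⁻¹) ^ d : MulAut Y) y) = χ y := fun y => by
        have h := DFunLike.congr_fun he ((((σ⁻¹) ^ (i : ℕ)) : MulAut Y)⁻¹ y)
        change χ (((σ⁻¹) ^ (i : ℕ) : MulAut Y) _) = χ (((σ⁻¹) ^ (j : ℕ) : MulAut Y) _) at h
        rw [MulAut.apply_inv_self, hd, pow_add, MulAut.mul_apply, MulAut.apply_inv_self] at h
        exact h.symm
      let δ : Y →* Y :=
        { toFun := fun y => ((σ⁻¹) ^ d : MulAut Y) y * y⁻¹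
          map_one' := by simp
          map_mul' := fun a b => by rw [map_mul, mul_inv]; ac_rfl }
      have hδ : Function.Injective δ := by
        rw [injective_iff_map_eq_one]
        intro y hy
        have h1 : ((σ⁻¹) ^ d : MulAut Y) y = y := mul_inv_eq_one.mp hy
        refine hσ y ?_
        have hmem : σ ∈ zpowers ((σ⁻¹) ^ d : MulAut Y) := by
          obtain ⟨e, he⟩ := exists_pow_eq_self_of_coprime (x := σ⁻¹) (n := d)
            (((hp.coprime_iff_not_dvd.mpr (Nat.not_dvd_of_pos_of_lt hd0 hdp)).symm).coprime_dvd_right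
              (orderOf_dvd_of_pow_eq_one (by rw [inv_pow, hσp, inv_one])))
          have := inv_mem (pow_mem (mem_zpowers ((σ⁻¹) ^ d : MulAut Y)) e)
          rwa [he, inv_inv] at this
        have hst : ((σ⁻¹) ^ d : MulAut Y) ∈ MulAction.stabilizer (MulAut Y) y := h1
        exact (zpowers_le.mpr hst) hmem
      refine hv (hC v fun y => ?_)
      obtain ⟨z, rfl⟩ := (Finite.injective_iff_surjective.mp hδ) y
      rw [hlam]
      have : χ (δ z) = 1 := by
        show χ (((σ⁻¹) ^ d : MulAut Y) z * z⁻¹) = 1
        rw [map_mul, hinv, ← map_mul, mul_inv_cancel, map_one]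
      rw [show lam (δ z) = χ (δ z) from rfl, this, one_smul]
    have hψ : Function.Injective ψ := fun i j h => by
      rcases lt_trichotomy (i : ℕ) (j : ℕ) with h1 | h1 | h1
      · exact absurd h (hdist i j h1)
      · exact Fin.ext h1
      · exact absurd h.symm (hdist j i h1)
    have hli : LinearIndependent K w := by
      rw [Fintype.linearIndependent_iff]
      intro a ha j
      obtain ⟨φ, hφ⟩ := Module.Projective.exists_dual_ne_zero K (hw0 j)
      have h1 : ∑ i, (a i * φ (w i)) • (ψ i : Y → K) = 0 := by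
        funext y
        have h2 := congrArg (fun u => φ (ρ y u)) ha
        simp only [map_sum, map_smul, hw, map_zero, smul_eq_mul] at h2
        rw [Finset.sum_apply, Pi.zero_apply, ← h2]
        exact Finset.sum_congr rfl fun i _ => by simp only [Pi.smul_apply, smul_eq_mul]; ring
      have h3 := Fintype.linearIndependent_iff.mp
        ((linearIndependent_monoidHom Y K).comp ψ hψ) _ h1 j
      exact (mul_eq_zero.mp h3).resolve_right hφ
    set S := Submodule.span K (Set.range w) with hS
    have hdS : finrank K S = p := by rw [finrank_span_eq_card hli, Fintype.card_fin]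
    have hxw : ∀ j : Fin p, x (w j) = w (j + 1) := fun j => by
      show x ((x ^ (j : ℕ)) v) = (x ^ ((j + 1 : Fin p) : ℕ)) v
      rw [← Module.End.mul_apply, ← pow_succ', Fin.val_add, Fin.val_one', Nat.add_mod_mod]
      conv_lhs => rw [← Nat.div_add_mod ((j : ℕ) + 1) p, pow_add, pow_mul, hx, one_pow, one_mul]
    have hxS : S ≤ S.comap x := Submodule.span_le.mpr fun _ ⟨j, e⟩ => by
      subst e
      rw [SetLike.mem_coe, Submodule.mem_comap, hxw]
      exact Submodule.subset_span ⟨_, rfl⟩
    have hρS : ∀ y, S ≤ S.comap (ρ y) := fun y => Submodule.span_le.mpr fun _ ⟨j, e⟩ => by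
      subst e
      rw [SetLike.mem_coe, Submodule.mem_comap, hw]
      exact S.smul_mem _ (Submodule.subset_span ⟨_, rfl⟩)
    -- fixed points in the orbit
    have hfixS : ∀ u ∈ S, x u = u → ∃ c : K, u = c • ∑ j, w j := by
      intro u hu hxu
      obtain ⟨a, rfl⟩ := (Submodule.mem_span_range_iff_exists_fun K).mp hu
      rw [map_sum] at hxu
      simp only [map_smul, hxw] at hxu
      have h1 : ∑ j, a (j - 1) • w j = ∑ j, a j • w j := by
        rw [← hxu]
        refine (Fintype.sum_equiv (Equiv.addRight (1 : Fin p)) _ _ fun j => ?_).symm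
        simp
      have h2 : ∀ j, a (j - 1) = a j := fun j => by
        have := Fintype.linearIndependent_iff.mp hli (fun j => a (j - 1) - a j) (by
          simp only [sub_smul, Finset.sum_sub_distrib, h1, sub_self]) j
        exact sub_eq_zero.mp this
      refine ⟨a 0, ?_⟩
      rw [Finset.smul_sum]
      refine Finset.sum_congr rfl fun j _ => ?_
      congr 1
      have : ∀ i : ℕ, a (Fin.ofNat p i) = a 0 := by
        intro i
        induction i with
        | zero => rfl
        | succ i ih =>
          rw [← ih, ← h2 (Fin.ofNat p (i + 1))]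
          congr 1
          rw [sub_eq_iff_eq_add]
          exact Fin.ext (by simp [Fin.val_add, Nat.add_mod])
      have h := this (j : ℕ)
      rwa [Fin.ofNat_val_eq_self] at h
    let ρ' : Y →* End K (V ⧸ S) :=
      { toFun := fun y => S.mapQ S (ρ y) (hρS y)
        map_one' := by ext u; simp
        map_mul' := fun a b => by ext u; simp }
    let x' : End K (V ⧸ S) := S.mapQ S x hxS
    have hx'pow : ∀ (k : ℕ) (u : V), (x' ^ k) (Submodule.Quotient.mk u) =
        Submodule.Quotient.mk ((x ^ k) u) := by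
      intro k
      induction k with
      | zero => intro u; simp
      | succ k ih => intro u; rw [pow_succ', Module.End.mul_apply, ih, pow_succ', Module.End.mul_apply]; rfl
    have hdV : finrank K (V ⧸ S) + p = finrank K V := by
      rw [← hdS]
      exact Submodule.finrank_quotient_add_finrank S
    have hrec := (ih (V ⧸ S) ρ' x' ?_ ?_ ?_ (by have := hp.two_le; omega)).1
    · refine ⟨?_, fun _ hbot => ?_⟩
      · let π : LinearMap.ker (x - 1) →ₗ[K] LinearMap.ker (x' - 1) :=
          (S.mkQ.comp (LinearMap.ker (x - 1)).subtype).codRestrict _ fun u => by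
            have hu : x (u : V) = u := by
              have := LinearMap.mem_ker.mp u.2
              rwa [LinearMap.sub_apply, Module.End.one_apply, sub_eq_zero] at this
            rw [LinearMap.mem_ker, LinearMap.sub_apply, Module.End.one_apply, sub_eq_zero]
            show Submodule.Quotient.mk (x (u : V)) = (Submodule.Quotient.mk (u : V) : V ⧸ S)
            rw [hu]
        have hker : finrank K (LinearMap.ker π) ≤ 1 := by
          let ι : LinearMap.ker π →ₗ[K] Submodule.span K {∑ j, w j} :=
            ((LinearMap.ker (x - 1)).subtype.comp (LinearMap.ker π).subtype).codRestrict _ fun u => by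
              have h1 : S.mkQ ((u : LinearMap.ker (x - 1)) : V) = 0 := congrArg Subtype.val u.2
              rw [Submodule.mkQ_apply, Submodule.Quotient.mk_eq_zero] at h1
              have h2 := LinearMap.mem_ker.mp (u : LinearMap.ker (x - 1)).2
              rw [LinearMap.sub_apply, Module.End.one_apply, sub_eq_zero] at h2
              obtain ⟨c, hc⟩ := hfixS _ h1 h2
              exact Submodule.mem_span_singleton.mpr ⟨c, hc.symm⟩
          have hι : Function.Injective ι := fun a b h =>
            Subtype.ext (Subtype.ext (congrArg (fun z : Submodule.span K {∑ j, w j} => (z : V)) h))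
          refine (LinearMap.finrank_le_finrank_of_injective hι).trans ?_
          exact (finrank_span_le_card _).trans (by simp)
        have h1 := LinearMap.finrank_range_add_finrank_ker π
        have h2 := Submodule.finrank_le (LinearMap.range π)
        have h3 : finrank K (LinearMap.ker (x - 1)) ≤ finrank K (LinearMap.ker (x' - 1)) + 1 := by omega
        calc p * finrank K (LinearMap.ker (x - 1))
            ≤ p * (finrank K (LinearMap.ker (x' - 1)) + 1) := Nat.mul_le_mul_left p h3
          _ ≤ finrank K V := by rw [mul_add, mul_one]; omega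
      · have hmem : ∑ j, w j ∈ LinearMap.ker (x - 1) := by
          rw [LinearMap.mem_ker, LinearMap.sub_apply, Module.End.one_apply, sub_eq_zero, map_sum]
          simp only [hxw]
          exact Fintype.sum_equiv (Equiv.addRight (1 : Fin p)) _ _ fun j => by simp
        rw [hbot, Submodule.mem_bot] at hmem
        have := Fintype.linearIndependent_iff.mp hli (fun _ => (1 : K)) (by simpa using hmem) 0
        exact one_ne_zero this
    · ext u
      simp [hx'pow, hx]
    · intro y
      ext u
      show Submodule.Quotient.mk (x (ρ y u)) = (Submodule.Quotient.mk (ρ (σ y) (x u)) : V ⧸ S)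
      rw [← Module.End.mul_apply, hxρ, Module.End.mul_apply]
    · intro u hu
      induction u using Submodule.Quotient.induction_on with
      | _ u =>
        rw [Submodule.Quotient.mk_eq_zero]
        have h1 : ∑ y : Y, ρ y u = 0 := hC _ fun z => by
          rw [map_sum]
          exact Fintype.sum_equiv (Equiv.mulLeft z) _ _ fun y => by
            rw [← Module.End.mul_apply, ← map_mul]; rfl
        have h2 : ∀ y : Y, ρ y u - u ∈ S := fun y => by
          have := hu y
          exact (Submodule.Quotient.eq S).mp this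
        have h3 : (Nat.card Y : K) • u ∈ S := by
          have h4 : ∑ y : Y, (ρ y u - u) ∈ S := Submodule.sum_mem _ fun y _ => h2 y
          rw [Finset.sum_sub_distrib, h1, zero_sub, Submodule.neg_mem_iff, Finset.sum_const,
            Finset.card_univ, ← Nat.card_eq_fintype_card, ← Nat.cast_smul_eq_nsmul K] at h4
          exact h4
        have := S.smul_mem (Nat.card Y : K)⁻¹ h3
        rwa [smul_smul, inv_mul_cancel₀ hY, one_smul] at this

end Bound

/-- The subgroup of automorphisms leaving a subgroup invariant. -/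
def stabAut {Q : Type u} [CommGroup Q] (Q1 : Subgroup Q) : Subgroup (MulAut Q) where
  carrier := {f | ∀ a, f a ∈ Q1 ↔ a ∈ Q1}
  one_mem' _ := Iff.rfl
  mul_mem' {f g} hf hg a := (hf (g a)).trans (hg a)
  inv_mem' {f} hf a := by rw [← hf (f⁻¹ a), MulAut.apply_inv_self]

/-- Restriction of automorphisms to an invariant subgroup. -/
def resAut {Q : Type u} [CommGroup Q] (Q1 : Subgroup Q) : stabAut Q1 →* MulAut Q1 where
  toFun f :=
    { toFun := fun a => ⟨(f : MulAut Q) a, (f.2 a).mpr a.2⟩
      invFun := fun a => ⟨(f : MulAut Q)⁻¹ a, (inv_mem f.2 a).mpr a.2⟩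
      left_inv := fun a => Subtype.ext (MulAut.inv_apply_self Q (f : MulAut Q) a)
      right_inv := fun a => Subtype.ext (MulAut.apply_inv_self Q (f : MulAut Q) a)
      map_mul' := fun a b => Subtype.ext (map_mul (f : MulAut Q) (a : Q) b) }
  map_one' := rfl
  map_mul' _ _ := rfl

theorem resAut_apply {Q : Type u} [CommGroup Q] (Q1 : Subgroup Q) (f : stabAut Q1) (a : Q1) :
    ((resAut Q1 f a : Q1) : Q) = (f : MulAut Q) a := rfl

/-- The dimension count for the invariant part. -/
theorem fixed_card_bound {R : Type u} [CommGroup R] [Finite R] (h2 : ∀ a : R, a ^ 2 = 1)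
    {Y : Type u} [CommGroup Y] [Finite Y] (hY2 : (Nat.card Y).Coprime 2) (ρ : Y →* MulAut R)
    {p : ℕ} (hp : p.Prime) (hp2 : p.Coprime 2) (σ : MulAut Y) (hσp : σ ^ p = 1)
    (hσ : ∀ y, σ y = y → y = 1) (x : MulAut R) (hx : x ^ p = 1)
    (hxρ : ∀ y, x * ρ y = ρ (σ y) * x) (hC : ∀ a, (∀ y, ρ y a = a) → a = 1) (hR : Nontrivial R)
    (C : Subgroup R) (hCmem : ∀ a, a ∈ C ↔ x a = a) :
    C ≠ ⊥ ∧ ∃ c n, Nat.card C = 2 ^ c ∧ Nat.card R = 2 ^ n ∧ p * c ≤ n := by
  have := Fact.mk Nat.prime_two
  suffices key : ∀ [Module (ZMod 2) (Additive R)] (K : Type) [Field K] [Algebra (ZMod 2) K]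
      [IsAlgClosed K], C ≠ ⊥ ∧ ∃ c n, Nat.card C = 2 ^ c ∧ Nat.card R = 2 ^ n ∧ p * c ≤ n from
    @key (AddCommGroup.zmodModule fun a => Additive.toMul.injective (by simpa using h2 a.toMul))
      (AlgebraicClosure (ZMod 2)) _ _ _
  intro _ K _ _ _
  have : CharP K 2 := charP_of_injective_algebraMap' (ZMod 2) 2
  have : Module.Finite (ZMod 2) (Additive R) := Module.Finite.of_finite
  have hfixK : ∀ v : K ⊗[ZMod 2] Additive R, (∀ y, tensorRep (r := 2) K (ρ y) v = v) → v = 0 := by
    intro v hv
    refine tensor_fixed_zero K ρ.range (fun a ha => hC a fun y => ha _ ⟨y, rfl⟩) ?_ v ?_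
    · exact prime_pow_ne_zero (hY2.coprime_dvd_left (card_range_dvd ρ)) Nat.prime_two
    · rintro _ ⟨y, rfl⟩
      exact hv y
  obtain ⟨hle, hne⟩ := fixed_bound (prime_pow_ne_zero (K := K) hY2 Nat.prime_two) hp σ hσp hσ _ _
    ((tensorRep (r := 2) K).comp ρ) (tensorRep (r := 2) K x) (by rw [← map_pow, hx, map_one])
    (fun y => by rw [MonoidHom.comp_apply, MonoidHom.comp_apply, ← map_mul, ← map_mul, hxρ])
    hfixK le_rfl
  have hnt : Nontrivial (K ⊗[ZMod 2] Additive R) := by
    have hpos : 0 < Module.finrank K (K ⊗[ZMod 2] Additive R) := by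
      rw [Module.finrank_baseChange]; exact Module.finrank_pos
    exact Module.nontrivial_of_finrank_pos hpos
  refine ⟨fun hbot => hne hnt ?_, ?_⟩
  · rw [Submodule.eq_bot_iff]
    intro v hv
    rw [LinearMap.mem_ker, LinearMap.sub_apply, Module.End.one_apply, sub_eq_zero] at hv
    refine tensor_fixed_zero K (zpowers x) (fun a ha => ?_) ?_ v ?_
    · exact mem_bot.mp (hbot ▸ (hCmem a).mpr (ha x (mem_zpowers x)))
    · refine prime_pow_ne_zero ?_ Nat.prime_two
      rw [Nat.card_zpowers]
      exact hp2.coprime_dvd_left (orderOf_dvd_of_pow_eq_one hx)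
    · intro g hg
      obtain ⟨i, rfl⟩ := mem_powers_iff_mem_zpowers.mpr hg
      simp only [map_pow]
      clear hg
      induction i with
      | zero => simp
      | succ i ih => rw [pow_succ, Module.End.mul_apply, hv, ih]
  · let Cm : Submodule (ZMod 2) (Additive R) := AddSubgroup.toZModSubmodule 2 (Subgroup.toAddSubgroup C)
    let ι := LinearMap.baseChange K Cm.subtype
    have hι : Function.Injective ι :=
      Module.Flat.lTensor_preserves_injective_linearMap (M := K) Cm.subtype Cm.injective_subtype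
    have hker : LinearMap.range ι ≤ LinearMap.ker (tensorRep (r := 2) K x - 1) := by
      rintro _ ⟨t, rfl⟩
      rw [LinearMap.mem_ker, LinearMap.sub_apply, Module.End.one_apply, sub_eq_zero]
      induction t using TensorProduct.induction_on with
      | zero => simp
      | tmul k a =>
        show k ⊗ₜ Additive.ofMul (x ((a : Additive R).toMul)) = k ⊗ₜ (a : Additive R)
        have ha : x ((a : Additive R).toMul) = (a : Additive R).toMul := (hCmem _).mp a.2
        rw [ha, ofMul_toMul]
      | add a b ha hb => rw [map_add, map_add, ha, hb]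
    have h3 := Submodule.finrank_mono hker
    rw [LinearMap.finrank_range_of_inj hι, Module.finrank_baseChange] at h3
    rw [Module.finrank_baseChange] at hle
    refine ⟨finrank (ZMod 2) Cm, finrank (ZMod 2) (Additive R), ?_, ?_,
      (Nat.mul_le_mul_left p h3).trans hle⟩
    · have := Module.natCard_eq_pow_finrank (K := ZMod 2) (V := Cm)
      rw [Nat.card_zmod] at this
      exact this
    · have := Module.natCard_eq_pow_finrank (K := ZMod 2) (V := Additive R)
      rw [Nat.card_zmod] at this
      exact this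

/-- The exceptional configuration does not exist. -/
theorem false_of_symplectic {G : Type u} [Group G] [Finite G] (E T : Subgroup G) (x : G) {p m : ℕ}
    (hp : p.Prime) (hpm : p - 1 = 2 ^ m) (hm : m ≠ 0) (hx : x ^ p = 1)
    (hxE : x ∈ normalizer (E : Set G)) (hxT : x ∈ normalizer (T : Set G))
    (hTE : T ≤ normalizer (E : Set G)) (hcl : ⁅E, E⁆ ≤ centralizer (E : Set G))
    (hsq : ∀ z ∈ ⁅E, E⁆, z ^ 2 = 1) (hxc : ∀ z ∈ ⁅E, E⁆, x * z = z * x)
    (hTc : ∀ t ∈ T, ∀ z ∈ ⁅E, E⁆, t * z = z * t)
    (hTp : (Nat.card T).Coprime p) (hT2 : (Nat.card T).Coprime 2) (hTE' : (Nat.card T).Coprime (Nat.card E))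
    (hTab : ∀ a ∈ T, ∀ b ∈ T, ∀ e ∈ E, ⁅⁅a, b⁆, e⁆ ∈ centralizer (E : Set G))
    (hind : (E ⊓ centralizer (E : Set G)).relIndex
      ((E ⊓ centralizer (E : Set G)) ⊔ ⁅E, zpowers x⁆) = (p - 1) ^ 2)
    (hne : ¬ ∀ y ∈ ⁅T, zpowers x⁆, ∀ e ∈ E, ⁅y, e⁆ ∈ centralizer (E : Set G)) : False := by
  classical
  let N := normalizer (E : Set G)
  have hctr : ∀ e : E, e ∈ center E ↔ (e : G) ∈ centralizer (E : Set G) := fun e =>
    ⟨fun h => mem_centralizer_iff.mpr fun g hg => congrArg Subtype.val (mem_center_iff.mp h ⟨g, hg⟩),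
      fun h => mem_center_iff.mpr fun g => Subtype.ext (mem_centralizer_iff.mp h g g.2)⟩
  have hcomm : ∀ a b : E ⧸ center E, a * b = b * a := by
    intro a b
    induction a using QuotientGroup.induction_on with
    | _ a =>
    induction b using QuotientGroup.induction_on with
    | _ b =>
    rw [← QuotientGroup.mk_mul, ← QuotientGroup.mk_mul, QuotientGroup.eq, hctr]
    have h := hcl (commutator_mem_commutator (inv_mem b.2) (inv_mem a.2))
    simpa [commutatorElement_def, mul_assoc] using h
  letI : CommGroup (E ⧸ center E) := { (inferInstance : Group (E ⧸ center E)) with mul_comm := hcomm }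
  let mk : E →* E ⧸ center E := QuotientGroup.mk' (center E)
  have hmk : ∀ e : E, mk e = 1 ↔ (e : G) ∈ centralizer (E : Set G) := fun e =>
    (QuotientGroup.eq_one_iff e).trans (hctr e)
  let cj : N → MulAut (E ⧸ center E) := fun g =>
    QuotientGroup.congr (center E) (center E) (E.normalizerMonoidHom g)
      (Subgroup.characteristic_iff_map_eq.mp inferInstance _)
  let f : N →* MulAut (E ⧸ center E) :=
    { toFun := cj
      map_one' := MulEquiv.ext fun a => by
        induction a using QuotientGroup.induction_on with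
        | _ a => show mk (E.normalizerMonoidHom 1 a) = mk a; rw [map_one]; rfl
      map_mul' := fun g h => MulEquiv.ext fun a => by
        induction a using QuotientGroup.induction_on with
        | _ a => show mk (E.normalizerMonoidHom (g * h) a) = _; rw [map_mul]; rfl }
  have hf : ∀ (g : N) (e : E), f g (mk e) = mk (E.normalizerMonoidHom g e) := fun g e => rfl
  have hconj : ∀ (g : N) (e : E), ((E.normalizerMonoidHom g e : E) : G) = g * e * (g : G)⁻¹ :=
    fun g e => rfl
  have htriv : ∀ g : N, f g = 1 ↔ ∀ e ∈ E, ⁅(g : G), e⁆ ∈ centralizer (E : Set G) := by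
    intro g
    constructor
    · intro h e he
      have h1 := MulEquiv.congr_fun h (mk ⟨e, he⟩)
      rw [hf, MulAut.one_apply] at h1
      have h2 : mk (E.normalizerMonoidHom g ⟨e, he⟩ * (⟨e, he⟩ : E)⁻¹) = 1 := by
        rw [map_mul, h1, ← map_mul, mul_inv_cancel, map_one]
      rw [hmk] at h2
      simpa [hconj, commutatorElement_def] using h2
    · intro h
      refine MulEquiv.ext fun a => ?_
      induction a using QuotientGroup.induction_on with
      | _ a =>
      rw [MulAut.one_apply]
      show f g (mk a) = mk a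
      rw [hf, ← mul_inv_eq_one, ← map_inv, ← map_mul, hmk]
      simpa [hconj, commutatorElement_def] using h a a.2
  let xN : N := ⟨x, hxE⟩
  set σ := f xN with hσ
  set Tb : Subgroup (MulAut (E ⧸ center E)) := (T.subgroupOf N).map f with hTb
  have : IsMulCommutative Tb := ⟨⟨by
    rintro ⟨_, a, ha, rfl⟩ ⟨_, b, hb, rfl⟩
    refine Subtype.ext (commutatorElement_eq_one_iff_mul_comm.mp ?_)
    rw [← map_commutatorElement, htriv]
    exact fun e he => hTab (a : G) ha (b : G) hb e he⟩⟩
  set Yb := ⁅Tb, zpowers σ⁆ with hYb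
  have hσT : zpowers σ ≤ normalizer (Tb : Set _) := by
    rw [zpowers_le]
    apply Coprime.mem_normalizer_of_conj_smul_eq
    rw [hTb, Coprime.conj_smul_eq_map, Subgroup.map_map,
      show (MulAut.conj σ).toMonoidHom.comp f = f.comp (MulAut.conj xN).toMonoidHom from
        MonoidHom.ext fun g => by simp [hσ], ← Subgroup.map_map, ← Coprime.conj_smul_eq_map]
    congr 1
    ext g
    rw [Coprime.mem_conj_smul, mem_subgroupOf, mem_subgroupOf]
    simpa using (mem_normalizer_iff''.mp hxT (g : G)).symm
  have hYT : Yb ≤ Tb := Coprime.commutator_le_of_le_normalizer hσT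
  have hσp : σ ^ p = 1 := by
    rw [hσ, ← map_pow, show xN ^ p = 1 from Subtype.ext (by simpa [xN] using hx), map_one]
  have hTbdvd : Nat.card Tb ∣ Nat.card T :=
    (card_map_dvd _ f).trans (Coprime.card_subgroupOf hTE).dvd
  have hYσ : ∀ y ∈ Yb, σ * y = y * σ → y = 1 := by
    intro y hy hc
    refine mem_bot.mp ((Coprime.centralizer_inf_commutator_eq_bot hσT ?_).le ⟨⟨hYT hy, ?_⟩, hy⟩)
    · rw [Nat.card_zpowers]
      exact ((hTp.coprime_dvd_left hTbdvd).symm).coprime_dvd_left (orderOf_dvd_of_pow_eq_one hσp)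
    · rw [FixedPointFree.centralizer_zpowers]
      exact mem_centralizer_singleton_iff.mpr hc.symm
  have hYne : Yb ≠ ⊥ := by
    intro hbot
    refine hne fun y hy => ?_
    have hy' : y ∈ (⁅T.subgroupOf N, zpowers xN⁆).map N.subtype := by
      rw [map_commutator, map_subgroupOf_eq_of_le hTE, MonoidHom.map_zpowers]
      exact hy
    obtain ⟨y', hy', rfl⟩ := hy'
    refine (htriv y').mp (mem_bot.mp (hbot ▸ ?_))
    have := mem_map_of_mem f hy'
    rwa [map_commutator, MonoidHom.map_zpowers] at this
  -- the decomposition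
  have : IsMulCommutative Yb := ⟨⟨fun a b => Subtype.ext (setLike_mul_comm (hYT a.2) (hYT b.2))⟩⟩
  set Q1 := Coprime.actCommutator Yb.subtype with hQ1
  set F1 := Coprime.fixedSubgroup Yb.subtype with hF1
  have hQdvd : Nat.card (E ⧸ center E) ∣ Nat.card E := card_quotient_dvd_card _
  have hcop : (Nat.card Yb).Coprime (Nat.card (E ⧸ center E)) :=
    (hTE'.coprime_dvd_left ((card_dvd_of_le hYT).trans hTbdvd)).coprime_dvd_right hQdvd
  have hsolv : Group.IsSolvable (E ⧸ center E) := Group.isSolvable_of_comm hcomm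
  have hsup : Q1 ⊔ F1 = ⊤ := Coprime.actCommutator_sup_fixed Yb.subtype hcop (Or.inr hsolv)
  have hinf : Q1 ⊓ F1 = ⊥ := Coprime.actCommutator_inf_fixed_eq_bot Yb.subtype hcop (Or.inr hsolv)
    ⟨⟨fun a b => Subtype.ext (mul_comm (a : E ⧸ center E) b)⟩⟩
  have hY1 : ∀ y ∈ Yb, y ∈ stabAut Q1 := by
    intro y hy a
    refine ⟨fun h => ?_, fun h => Coprime.apply_mem_actCommutator Yb.subtype ⟨y, hy⟩ h⟩
    have := Coprime.apply_mem_actCommutator Yb.subtype ⟨y⁻¹, inv_mem hy⟩ h
    simpa using this
  have hnYb : zpowers σ ≤ normalizer (Yb : Set _) := normalizer_commutator_ge_right _ _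
  have hgen : ∀ g ∈ zpowers σ, ∀ a ∈ Q1, g a ∈ Q1 := by
    intro g hg a ha
    have hle : Q1 ≤ Q1.comap (g : MulAut (E ⧸ center E)).toMonoidHom := by
      conv_lhs => rw [hQ1, Coprime.actCommutator]
      rw [closure_le]
      rintro _ ⟨y, a, rfl⟩
      refine subset_closure ⟨⟨g * y * g⁻¹, (mem_normalizer_iff.mp (hnYb hg) _).mp y.2⟩, g a, ?_⟩
      change g (a⁻¹ * (y : MulAut (E ⧸ center E)) a) =
        (g a)⁻¹ * (g * (y : MulAut (E ⧸ center E)) * g⁻¹ : MulAut (E ⧸ center E)) (g a)
      rw [map_mul, map_inv, MulAut.mul_apply, MulAut.mul_apply, MulAut.inv_apply_self]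
    exact hle ha
  have hσ1 : σ ∈ stabAut Q1 := fun a => ⟨fun h => by
    simpa using hgen σ⁻¹ (inv_mem (mem_zpowers σ)) _ h, fun h => hgen σ (mem_zpowers σ) a h⟩
  let δ : (E ⧸ center E) →* (E ⧸ center E) :=
    { toFun := fun a => σ a * a⁻¹
      map_one' := by simp
      map_mul' := fun a b => by rw [map_mul, mul_inv]; ac_rfl }
  have h2 : ∀ a : E ⧸ center E, a ^ 2 = 1 := by
    intro a
    induction a using QuotientGroup.induction_on with
    | _ a =>
    rw [← QuotientGroup.mk_pow, QuotientGroup.eq_one_iff, hctr]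
    refine mem_centralizer_iff.mpr fun g hg => ?_
    set z := ⁅(a : G), g⁆ with hz
    have hzm : z ∈ ⁅E, E⁆ := commutator_mem_commutator a.2 hg
    have hza : (a : G) * z = z * a := mem_centralizer_iff.mp (hcl hzm) a a.2
    have h1 : ⁅(a : G) * a, g⁆ = a * z * (a : G)⁻¹ * z := by
      rw [hz]; simp only [commutatorElement_def]; group
    rw [hza, mul_inv_cancel_right, show z * z = 1 by rw [← pow_two]; exact hsq z hzm] at h1
    rw [SubmonoidClass.coe_pow, pow_two]
    exact (commutatorElement_eq_one_iff_mul_comm.mp h1).symm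
  set C1 : Subgroup Q1 := (δ.comp Q1.subtype).ker with hC1
  have hC1mem : ∀ a, a ∈ C1 ↔ resAut Q1 ⟨σ, hσ1⟩ a = a := fun a => by
    rw [hC1, MonoidHom.mem_ker, Subtype.ext_iff, resAut_apply]
    exact mul_inv_eq_one
  let σY : MulAut Yb := Yb.normalizerMonoidHom ⟨σ, hnYb (mem_zpowers σ)⟩
  have hσY : ∀ y : Yb, ((σY y : Yb) : MulAut (E ⧸ center E)) = σ * y * σ⁻¹ := fun y => rfl
  have hR : Nontrivial Q1 := by
    rw [nontrivial_iff_ne_bot]
    intro hbot
    refine hYne (eq_bot_iff.mpr fun y hy => ?_)
    refine mem_bot.mpr (MulEquiv.ext fun a => ?_)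
    have h : a ∈ F1 := by rw [hbot, bot_sup_eq] at hsup; exact hsup ▸ mem_top a
    exact h ⟨y, hy⟩
  obtain ⟨hC1ne, c, n, hc, hn, hpc⟩ := fixed_card_bound (R := Q1)
    (fun a => Subtype.ext (h2 a)) (Y := Yb)
    (hT2.coprime_dvd_left ((card_dvd_of_le hYT).trans hTbdvd))
    ((resAut Q1).comp (Subgroup.inclusion hY1)) hp
    (by
      refine (Nat.coprime_primes hp Nat.prime_two).mpr fun h => hm ?_
      subst h
      simpa using (pow_eq_one_iff (M := ℕ) (n := m)).mp hpm.symm)
    σY (by rw [← map_pow, ← map_one Yb.normalizerMonoidHom]; exact congrArg _ (Subtype.ext (by simpa using hσp)))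
    (fun y hy => Subtype.ext (hYσ y y.2 (by
      have := congrArg Subtype.val hy
      rw [hσY] at this
      exact mul_inv_eq_iff_eq_mul.mp this)))
    (resAut Q1 ⟨σ, hσ1⟩) (by rw [← map_pow, show (⟨σ, hσ1⟩ : stabAut Q1) ^ p = 1 from Subtype.ext (by simpa using hσp), map_one])
    (fun y => by
      rw [MonoidHom.comp_apply, MonoidHom.comp_apply, ← map_mul, ← map_mul]
      refine congrArg _ (Subtype.ext ?_)
      show σ * (y : MulAut (E ⧸ center E)) = (σY y : MulAut (E ⧸ center E)) * σ
      rw [hσY, inv_mul_cancel_right])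
    (fun a ha => Subtype.ext (mem_bot.mp (hinf.le ⟨a.2, fun y => congrArg Subtype.val (ha y)⟩)))
    hR C1 hC1mem
  -- nondegeneracy: two independent fixed points
  have horth : ∀ (g : G), g ∈ N → (∀ z ∈ ⁅E, E⁆, g * z = z * g) → ∀ (a h : E),
      (∀ gN : N, (gN : G) = g → f gN (mk a) = mk a) → ∀ gN : N, (gN : G) = g →
      Commute (a : G) (((h⁻¹ * E.normalizerMonoidHom gN h : E)) : G) := by
    intro g hg hgc a h hfx gN hgN
    subst hgN
    have h1 : f gN⁻¹ (mk a) = mk a := by
      rw [map_inv]
      conv_lhs => rw [← hfx gN rfl]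
      rw [MulAut.inv_apply_self]
    rw [hf] at h1
    have h3 : mk (a⁻¹ * E.normalizerMonoidHom gN⁻¹ a) = 1 := by
      rw [map_mul, h1, ← map_mul, inv_mul_cancel, map_one]
    rw [hmk] at h3
    show (a : G) * _ = _ * (a : G)
    simp only [Subgroup.coe_mul, InvMemClass.coe_inv, hconj]
    exact commute_of_fixed_mod gN.2 hcl hgc a.2 (by simpa [hconj] using h3) h.2
  let P : E → Subgroup (E ⧸ center E) := fun a => ((centralizer {(a : G)}).subgroupOf E).map mk
  have hP : ∀ a b : E, mk b ∈ P a → (b : G) * a = a * b := by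
    rintro a b ⟨b', hb', he⟩
    have h1 : mk (b'⁻¹ * b) = 1 := by rw [map_mul, map_inv, he, inv_mul_cancel]
    rw [hmk] at h1
    have h2 : (((b'⁻¹ * b : E) : G)) * a = a * ((b'⁻¹ * b : E) : G) :=
      (mem_centralizer_iff.mp h1 a a.2).symm
    have h3 : (b' : G) * a = a * b' := mem_centralizer_singleton_iff.mp hb'
    have hb : (b : G) = (b' : G) * ((b'⁻¹ * b : E) : G) := by simp
    rw [hb, mul_assoc, h2, ← mul_assoc, h3, mul_assoc]
  have htwo : ∀ q0 ∈ C1, q0 ≠ 1 → ∃ g ∈ C1, g ≠ 1 ∧ g ≠ q0 := by
    rintro q0 hq0 hq1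
    by_contra! hcon
    obtain ⟨a, ha⟩ := QuotientGroup.mk'_surjective (center E) (q0 : E ⧸ center E)
    change mk a = _ at ha
    have hPC : ∀ b ∈ C1, ((b : Q1) : E ⧸ center E) ∈ P a := by
      intro b hb
      by_cases hb1 : b = 1
      · rw [hb1]; exact one_mem _
      · rw [hcon b hb hb1, ← ha]
        exact mem_map_of_mem _ (mem_centralizer_singleton_iff.mpr rfl)
    have hσfix : f xN (mk a) = mk a := by
      rw [ha]
      exact mul_inv_eq_one.mp hq0
    have hPD : ∀ b, δ b ∈ P a := by
      intro b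
      induction b using QuotientGroup.induction_on with
      | _ b =>
      refine ⟨b⁻¹ * E.normalizerMonoidHom xN b, mem_centralizer_singleton_iff.mpr
        (horth x hxE hxc a b (fun gN hgN => by rw [show gN = xN from Subtype.ext hgN, hσfix]) xN rfl).symm.eq, ?_⟩
      rw [map_mul, map_inv]
      exact mul_comm _ _
    have hPF : F1 ≤ P a := by
      intro b hb
      obtain ⟨b, rfl⟩ := QuotientGroup.mk'_surjective (center E) b
      change mk b ∈ F1 at hb
      have hle : Q1 ≤ P b := by
        rw [hQ1, Coprime.actCommutator, closure_le]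
        rintro _ ⟨⟨y, hy⟩, e, rfl⟩
        obtain ⟨yN, hyN, rfl⟩ := hYT hy
        obtain ⟨e, rfl⟩ := QuotientGroup.mk'_surjective (center E) e
        refine ⟨e⁻¹ * E.normalizerMonoidHom yN e, mem_centralizer_singleton_iff.mpr
          (horth (yN : G) yN.2 (hTc _ hyN) b e
            (fun gN hgN => by rw [show gN = yN from Subtype.ext hgN]; exact hb ⟨_, hy⟩) yN rfl).symm.eq, ?_⟩
        rw [map_mul, map_inv]
        rfl
      have := hP b a (ha ▸ hle (q0 : Q1).2)
      exact mem_map_of_mem _ (mem_centralizer_singleton_iff.mpr this.symm)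
    have hQ1P : Q1 ≤ P a := by
      intro b hb
      -- `δ` is injective on its image of `Q1`
      have hmaps : ∀ d ∈ Q1.map δ, δ d ∈ Q1.map δ := fun d hd =>
        mem_map_of_mem δ (by
          obtain ⟨d, hd, rfl⟩ := hd
          exact mul_mem ((hσ1 d).mpr hd) (inv_mem hd))
      let δ' : Q1.map δ → Q1.map δ := fun d => ⟨δ d, hmaps d d.2⟩
      have hinj : Function.Injective δ' := by
        intro d d' h
        have h1 : δ ((d : E ⧸ center E) * (d' : E ⧸ center E)⁻¹) = 1 := by
          rw [map_mul, map_inv, mul_inv_eq_one]; exact congrArg Subtype.val h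
        obtain ⟨e, he, hd⟩ := mul_mem d.2 (inv_mem d'.2)
        set d0 := (d : E ⧸ center E) * (d' : E ⧸ center E)⁻¹ with hd0
        have hfix : σ d0 = d0 := mul_inv_eq_one.mp h1
        have hσe : σ e = d0 * e := by rw [← hd]; exact (inv_mul_cancel_right (σ e) e).symm
        have hpow : ∀ i : ℕ, (σ ^ i) e = d0 ^ i * e := by
          intro i
          induction i with
          | zero => simp
          | succ i ih =>
            rw [pow_succ', MulAut.mul_apply, ih, map_mul, map_pow, hfix, hσe, ← mul_assoc, ← pow_succ]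
        have h3 := hpow p
        rw [hσp, MulAut.one_apply, eq_comm, mul_eq_right] at h3
        have h4 : d0 ^ Nat.gcd p 2 = 1 := pow_gcd_eq_one.mpr ⟨h3, h2 d0⟩
        have hp2 : Nat.gcd p 2 = 1 := by
          refine (Nat.coprime_primes hp Nat.prime_two).mpr fun h => hm ?_
          subst h
          simpa using (pow_eq_one_iff (M := ℕ) (n := m)).mp hpm.symm
        rw [hp2, pow_one, hd0, mul_inv_eq_one] at h4
        exact Subtype.ext h4
      obtain ⟨⟨d, hd⟩, he⟩ := (Finite.injective_iff_surjective.mp hinj) ⟨δ b, mem_map_of_mem δ hb⟩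
      have hdQ : d ∈ Q1 := by
        obtain ⟨e, he', rfl⟩ := hd
        exact mul_mem ((hσ1 e).mpr he') (inv_mem he')
      have h1 : (⟨d⁻¹ * b, mul_mem (inv_mem hdQ) hb⟩ : Q1) ∈ C1 := by
        rw [hC1, MonoidHom.mem_ker]
        show δ (d⁻¹ * b) = 1
        rw [map_mul, map_inv, show δ d = δ b from congrArg Subtype.val he, inv_mul_cancel]
      have hdP : d ∈ P a := by
        obtain ⟨e, -, rfl⟩ := hd
        exact hPD e
      have := mul_mem hdP (hPC _ h1)
      simpa using this
    refine hq1 (Subtype.ext ?_)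
    rw [← ha, Subgroup.coe_one, hmk]
    refine mem_centralizer_iff.mpr fun g hg => ?_
    have hall : (⊤ : Subgroup _) ≤ P a := hsup ▸ sup_le hQ1P hPF
    exact hP a ⟨g, hg⟩ (hall (mem_top _))
  obtain ⟨q0, hq0, hq1⟩ := (Subgroup.ne_bot_iff_exists_ne_one.mp hC1ne) |> fun ⟨a, ha⟩ =>
    (⟨a.1, a.2, fun h => ha (Subtype.ext h)⟩ : ∃ a, a ∈ C1 ∧ a ≠ 1)
  obtain ⟨g, hg, hg1, hgq⟩ := htwo q0 hq0 hq1
  have hc2 : 2 ≤ c := by
    by_contra hlt
    have h3 : ({1, q0, g} : Finset Q1).card = 3 := by
      rw [Finset.card_insert_of_notMem (by simp [hq1.symm, hg1.symm]),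
        Finset.card_pair hgq.symm]
    have h4 : 3 ≤ Nat.card C1 := by
      rw [← h3]
      refine (Finset.card_le_card_of_injOn (t := (Set.toFinite (C1 : Set Q1)).toFinset) id ?_
        (fun a _ b _ h => h)).trans ?_
      · intro a ha
        simp only [Finset.coe_insert, Finset.coe_singleton, Set.mem_insert_iff, Set.mem_singleton_iff] at ha
        rcases ha with rfl | rfl | rfl <;> simp [hq0, hg, one_mem]
      · rw [← Set.ncard_eq_toFinset_card _]
        exact le_of_eq (Nat.card_coe_set_eq _).symm
    rw [hc] at h4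
    interval_cases c <;> omega
  -- the size of the moved part
  have himg : Nat.card (δ.comp Q1.subtype).range ≤ (p - 1) ^ 2 := by
    rw [← hind, relIndex]
    set Zc := E ⊓ centralizer (E : Set G)
    set E1 := Zc ⊔ ⁅E, zpowers x⁆
    have hE1E : E1 ≤ E := sup_le inf_le_left
      (Coprime.commutator_le_of_le_normalizer (zpowers_le.mpr hxE))
    let g : E1 →* E ⧸ center E := mk.comp (Subgroup.inclusion hE1E)
    have hk : g.ker = Zc.subgroupOf E1 := Subgroup.ext fun e => by
      rw [MonoidHom.mem_ker, MonoidHom.comp_apply, hmk, mem_subgroupOf]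
      exact ⟨fun h => ⟨hE1E e.2, h⟩, fun h => h.2⟩
    rw [← hk, index_ker]
    refine card_le_of_le fun b hb => ?_
    obtain ⟨e, rfl⟩ := hb
    obtain ⟨e', he'⟩ := QuotientGroup.mk'_surjective (center E) (e : E ⧸ center E)
    refine ⟨⟨⁅x, (e' : G)⁆, mem_sup_right ?_⟩, ?_⟩
    · rw [commutator_comm]
      exact commutator_mem_commutator (mem_zpowers x) e'.2
    · show mk _ = δ (e : E ⧸ center E)
      rw [← he']
      show _ = σ (mk e') * (mk e')⁻¹
      rw [hσ, hf, ← map_inv, ← map_mul]
      refine congrArg mk (Subtype.ext ?_)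
      simp [hconj, commutatorElement_def, xN]
  have hcard : Nat.card Q1 ≤ Nat.card C1 * (p - 1) ^ 2 := by
    rw [← card_mul_index C1, hC1, index_ker]
    exact Nat.mul_le_mul_left _ himg
  rw [hc, hn, hpm, ← pow_mul, ← pow_add] at hcard
  have hnc := (Nat.pow_le_pow_iff_right (le_refl 2)).mp hcard
  have hp1 : p = 2 ^ m + 1 := by have := hp.pos; omega
  have hm2 : m < 2 ^ m := Nat.lt_two_pow_self
  rw [hp1] at hpc
  have := Nat.mul_le_mul_left (2 ^ m) hc2
  nlinarith

end Cfsg.Agent.FittingPQ
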