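import Cfsg.Agent.FittingPQ.Abelian
import Cfsg.Agent.FittingPQ.Sympl
import Cfsg.Agent.Core.Frattini

/-!
A minimal configuration: the case of nonabelian `R`.

* `MinCfg.derived_facts` : `R` has class two with elementary derived group, centralised by `T`.
* `MinCfg.hh_step` : the theorem of Hall and Higman on one piece of the derived group.
* `MinCfg.false_of_nonabelian` : `R` is abelian.
-/

set_option autoImplicit false

namespace Cfsg.Agent.FittingPQ

open Subgroup
open scoped commutatorElement Pointwise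

universe u

variable {Γ : Type u} [Group Γ]

theorem conj_mem_triv_conj {R B : Subgroup Γ} {g y : Γ} (hgR : g ∈ normalizer (R : Set Γ))
    (hy : y ∈ triv R B) : g * y * g⁻¹ ∈ triv R (MulAut.conj g • B) := by
  refine ⟨mul_mem (mul_mem hgR hy.1) (inv_mem hgR), Coprime.mem_normalizer_of_conj_smul_eq ?_,
    fun x hx => ?_⟩
  · rw [← Coprime.conj_mul_smul, inv_mul_cancel_right, Coprime.conj_mul_smul,
      Coprime.conj_smul_eq_self_of_mem_normalizer hy.2.1]
  · rw [Coprime.mem_conj_smul]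
    have e : g⁻¹ * ⁅g * y * g⁻¹, x⁆ * g = ⁅y, g⁻¹ * x * g⁆ := by
      simp only [commutatorElement_def]; group
    rw [e]
    exact hy.2.2 _ ((mem_normalizer_iff''.mp hgR x).mp hx)

theorem triv_mono {R B H : Subgroup Γ} (hBH : B ≤ H) {g : Γ} (hgH : g ∈ normalizer (H : Set Γ))
    (hg : g ∈ triv R B) : g ∈ triv R H :=
  ⟨hg.1, hgH, fun x hx => hBH (hg.2.2 x hx)⟩

/-- The radical `{e ∈ R : [e, R] ≤ B}`. -/
abbrev rad (R B : Subgroup Γ) : Subgroup Γ := R ⊓ triv R B

theorem normalizer_le_rad {R B : Subgroup Γ} {g : Γ} (hgR : g ∈ normalizer (R : Set Γ))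
    (hgB : g ∈ normalizer (B : Set Γ)) : g ∈ normalizer (rad R B : Set Γ) := by
  rw [mem_normalizer_iff]
  intro x
  constructor
  · rintro ⟨hx, hxt⟩
    exact ⟨(mem_normalizer_iff.mp hgR x).mp hx, conj_mem_triv hgR hgB hxt⟩
  · rintro ⟨hx, hxt⟩
    have h1 := conj_mem_triv (inv_mem hgR) (inv_mem hgB) hxt
    rw [inv_inv, ← mul_assoc, inv_mul_cancel_left, inv_mul_cancel_right] at h1
    exact ⟨(mem_normalizer_iff.mp hgR x).mpr hx, h1⟩

variable [Finite Γ]

omit [Finite Γ] in
/-- An extension of solvable subgroups is solvable. -/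
theorem isSolvable_sup_of_normalizer {R T : Subgroup Γ} (hR : Group.IsSolvable R)
    (hT : Group.IsSolvable T) (hTR : T ≤ normalizer (R : Set Γ)) :
    Group.IsSolvable (R ⊔ T : Subgroup Γ) := by
  set L : Subgroup Γ := R ⊔ T
  have hLn : L ≤ normalizer (R : Set Γ) := sup_le Subgroup.le_normalizer hTR
  have : (R.subgroupOf L).Normal := Subgroup.normal_subgroupOf_of_le_normalizer hLn
  let π := QuotientGroup.mk' (R.subgroupOf L)
  have hq : Group.IsSolvable (L ⧸ R.subgroupOf L) := by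
    refine Group.isSolvable_of_surjective
      (f := π.comp (Subgroup.inclusion (le_sup_right : T ≤ L))) fun a => ?_
    obtain ⟨⟨a, ha⟩, rfl⟩ := QuotientGroup.mk'_surjective _ a
    obtain ⟨r, hr, t, ht, rfl⟩ := (Coprime.mem_sup_of_le_normalizer hTR).mp ha
    refine ⟨⟨t, ht⟩, ?_⟩
    refine QuotientGroup.eq.mpr (mem_subgroupOf.mpr ?_)
    show t⁻¹ * (r * t) ∈ R
    rw [← mul_assoc]
    exact (mem_normalizer_iff''.mp (hTR ht) r).mp hr
  exact Group.isSolvable_of_ker_le_range (Subgroup.inclusion (le_sup_left : R ≤ L)) π fun a ha => by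
    have h1 : (a : Γ) ∈ R := by
      rw [QuotientGroup.ker_mk'] at ha
      exact ha
    exact ⟨⟨a, h1⟩, rfl⟩

variable {c b : Γ} {q p k l s : ℕ} {V R T : Subgroup Γ}

/-- The structure of a nonabelian `R`. -/
theorem MinCfg.derived_facts (h : MinCfg c b q p k l s V R T) (hne : ¬ IsMulCommutative R) :
    ⁅R, R⁆ ≠ ⊥ ∧ T ≤ centralizer (⁅R, R⁆ : Subgroup Γ) ∧ R ≤ centralizer (⁅R, R⁆ : Subgroup Γ) ∧
      Cfsg.IsElementaryAbelian l ⁅R, R⁆ := by
  have := Fact.mk h.cfg.hl
  have := h.cfg.hR.isNilpotent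
  set Z := ⁅R, R⁆ with hZ
  have hZR : Z ≤ R := commutator_le_self R
  have hRne : R ≠ ⊥ := fun h0 => hne (by rw [h0]; infer_instance)
  have hnt : Nontrivial R := (nontrivial_iff_ne_bot R).mpr hRne
  set P := (frattini R).map R.subtype with hP
  have hPR : P ≤ R := map_subtype_le _
  have hPne : P ≠ R := fun he => by
    have h1 : frattini R = ⊤ := map_injective R.subtype_injective
      (he.trans (by rw [← MonoidHom.range_eq_map, range_subtype]))
    have h2 : (⊥ : Subgroup R) = ⊤ := frattini_nongenerating (by rw [h1, sup_top_eq])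
    exact top_ne_bot h2.symm
  have hZP : Z ≤ P := by
    rw [hZ, ← map_subtype_commutator]
    exact map_mono Core.commutator_le_frattini
  have hnP : normalizer (R : Set Γ) ≤ normalizer (P : Set Γ) := by
    intro g hg
    apply Coprime.mem_normalizer_of_conj_smul_eq
    rw [hP, Coprime.conj_smul_eq_map, Subgroup.map_map,
      show (MulAut.conj g).toMonoidHom.comp R.subtype =
        R.subtype.comp (R.normalizerMonoidHom ⟨g, hg⟩).toMonoidHom from MonoidHom.ext fun x => rfl,
      ← Subgroup.map_map]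
    congr 1
    exact Subgroup.characteristic_iff_map_eq.mp inferInstance _
  have hTP : T ≤ centralizer (P : Set Γ) :=
    h.minR P hPR hPne (h.cfg.AR.trans hnP) (h.cfg.TR.trans hnP)
  have hTZ : T ≤ centralizer (Z : Set Γ) := hTP.trans (centralizer_le hZP)
  have hRP : ⁅R, P⁆ = ⊥ := by
    have h1 : ⁅⁅T, P⁆, R⁆ = ⊥ := by
      rw [commutator_eq_bot_iff_le_centralizer.mpr hTP, commutator_bot_left]
    have h2 : ⁅⁅P, R⁆, T⁆ = ⊥ := by
      refine le_bot_iff.mp ((commutator_mono (commutator_mono hPR le_rfl) le_rfl).trans ?_)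
      rw [commutator_comm, le_bot_iff]
      exact commutator_eq_bot_iff_le_centralizer.mpr hTZ
    have h3 := Subgroup.commutator_commutator_eq_bot_of_rotate h1 h2
    rwa [h.comm] at h3
  have hRc : R ≤ centralizer (P : Set Γ) := commutator_eq_bot_iff_le_centralizer.mp hRP
  have hRZ : R ≤ centralizer (Z : Set Γ) := hRc.trans (centralizer_le hZP)
  refine ⟨?_, hTZ, hRZ, ?_, ?_⟩
  · intro h0
    exact hne ⟨⟨fun x y => Subtype.ext
      (mem_centralizer_iff.mp ((commutator_eq_bot_iff_le_centralizer.mp h0) y.2) x x.2)⟩⟩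
  · exact ⟨⟨fun x y => Subtype.ext (mem_centralizer_iff.mp (hRZ (hZR y.2)) x x.2)⟩⟩
  · let S : Subgroup Γ :=
      { carrier := {z | z ∈ Z ∧ z ^ l = 1}
        one_mem' := ⟨one_mem _, one_pow l⟩
        mul_mem' := fun {x y} hx hy => ⟨mul_mem hx.1 hy.1, by
          rw [(show Commute x y from mem_centralizer_iff.mp (hRZ (hZR hy.1)) x hx.1).mul_pow,
            hx.2, hy.2, one_mul]⟩
        inv_mem' := fun {x} hx => ⟨inv_mem hx.1, by rw [inv_pow, hx.2, inv_one]⟩ }
    have hS : Z ≤ S := by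
      rw [hZ, commutator_le]
      intro x hx y hy
      refine ⟨commutator_mem_commutator hx hy, ?_⟩
      have hz : ⁅x, y⁆ ∈ Z := commutator_mem_commutator hx hy
      have hxz : x * ⁅x, y⁆ = ⁅x, y⁆ * x := (mem_centralizer_iff.mp (hRZ hx) _ hz).symm
      have key : ∀ n : ℕ, ⁅x ^ n, y⁆ = ⁅x, y⁆ ^ n := by
        intro n
        induction n with
        | zero => simp
        | succ n ih =>
          have e : ⁅x * x ^ n, y⁆ = x * ⁅x ^ n, y⁆ * x⁻¹ * ⁅x, y⁆ := by
            simp only [commutatorElement_def]; group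
          rw [pow_succ' x, e, ih, (show Commute x (⁅x, y⁆ ^ n) from Commute.pow_right hxz n).eq,
            mul_inv_cancel_right, ← pow_succ]
      rw [← key]
      have hxP : x ^ l ∈ P := by
        have h1 := mem_map_of_mem R.subtype (Core.pow_mem_frattini h.cfg.hR ⟨x, hx⟩)
        rwa [map_pow] at h1
      exact commutatorElement_eq_one_iff_mul_comm.mpr (mem_centralizer_iff.mp (hRc hy) _ hxP)
    exact fun z hz => (hS hz).2

/-- Hall-Higman on a piece `B` of `R'`: an element `g` of prime order `r` either is trivial on `R`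
modulo the radical or `r - 1` is a positive power of `l`, and for `l = 2` then `[T, g]` is trivial
there. -/
theorem MinCfg.hh_step (h : MinCfg c b q p k l s V R T) {V' B : Subgroup Γ}
    (hd : ActData l V' ⁅R, R⁆) (hRZ : R ≤ centralizer (⁅R, R⁆ : Subgroup Γ))
    (hTZ : T ≤ centralizer (⁅R, R⁆ : Subgroup Γ)) (hRV : R ≤ normalizer (V' : Set Γ))
    (hTV : T ≤ normalizer (V' : Set Γ)) (hB : IsPiece l V' ⁅R, R⁆ B) {g : Γ} {r : ℕ} (hr : r.Prime)
    (hgr : g ^ r = 1) (hlr : l ≠ r) (hsr : s ≠ r) (hrV : r.Coprime (Nat.card V'))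
    (hgV : g ∈ normalizer (V' : Set Γ)) (hgR : g ∈ normalizer (R : Set Γ))
    (hgT : g ∈ normalizer (T : Set Γ)) (hgB : g ∈ normalizer (B : Set Γ))
    (hfix : V' ⊓ centralizer (B : Set Γ) ⊓ centralizer {g} = ⊥)
    (hZg : ⁅⁅R, R⁆, zpowers g⁆ ≤ B) :
    ⁅R, zpowers g⁆ ≤ rad R B ∨ ∃ m : ℕ, m ≠ 0 ∧ r - 1 = l ^ m ∧
      (l = 2 → ⁅T, zpowers g⁆ ≤ triv R (rad R B)) := by
  by_cases hgen : ⁅R, zpowers g⁆ ≤ rad R B
  · exact Or.inl hgen
  refine Or.inr ?_
  have := hd.commV
  have := hd.ea.1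
  set Z := ⁅R, R⁆ with hZ
  set W := V' ⊓ centralizer (B : Set Γ) with hW
  have : IsMulCommutative W := ⟨⟨fun x y => Subtype.ext (setLike_mul_comm x.2.1 y.2.1)⟩⟩
  have hRB : R ≤ normalizer (B : Set Γ) :=
    hRZ.trans ((centralizer_le hB.le).trans (centralizer_le_normalizer _))
  have hTB : T ≤ normalizer (B : Set Γ) :=
    hTZ.trans ((centralizer_le hB.le).trans (centralizer_le_normalizer _))
  -- an elementary part of `W`
  obtain ⟨ρ, hρ, hρW⟩ := Nat.exists_prime_and_dvd
    (show Nat.card W ≠ 1 from fun h1 => hB.ne_bot (Subgroup.card_eq_one.mp h1))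
  have := Fact.mk hρ
  open scoped IsMulCommutative in
  let U : Subgroup Γ := (powMonoidHom ρ : W →* W).ker.map W.subtype
  have hUmem : ∀ {y : Γ}, y ∈ U ↔ y ∈ W ∧ y ^ ρ = 1 := by
    intro y
    constructor
    · rintro ⟨x, hx, rfl⟩
      exact ⟨x.2, congrArg Subtype.val hx⟩
    · rintro ⟨hy, hy1⟩
      open scoped IsMulCommutative in
      exact mem_map_of_mem W.subtype
        (show (⟨y, hy⟩ : W) ∈ (powMonoidHom ρ : W →* W).ker from Subtype.ext (by simpa using hy1))
  have hUW : U ≤ W := fun y hy => (hUmem.mp hy).1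
  have hUne : U ≠ ⊥ := fun h1 => by
    obtain ⟨w, hw⟩ := exists_prime_orderOf_dvd_card' ρ hρW
    have h2 : (w : Γ) ∈ U := hUmem.mpr ⟨w.2, by
      rw [← SubmonoidClass.coe_pow, ← hw, pow_orderOf_eq_one]; rfl⟩
    rw [h1, mem_bot] at h2
    rw [show w = 1 from Subtype.ext h2, orderOf_one] at hw
    exact hρ.ne_one hw.symm
  have : IsMulCommutative U := ⟨⟨fun x y => Subtype.ext (setLike_mul_comm (hUW x.2) (hUW y.2))⟩⟩
  have hnU : normalizer (W : Set Γ) ≤ normalizer (U : Set Γ) := by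
    intro a ha
    apply Coprime.mem_normalizer_of_conj_smul_eq
    ext y
    rw [Coprime.mem_conj_smul, hUmem, hUmem]
    refine and_congr (mem_normalizer_iff''.mp ha y).symm ?_
    rw [show a⁻¹ * y * a = a⁻¹ * y * a⁻¹⁻¹ by rw [inv_inv], conj_pow, inv_inv]
    constructor
    · intro h1
      calc y ^ ρ = a * (a⁻¹ * y ^ ρ * a) * a⁻¹ := by group
        _ = 1 := by rw [h1, mul_one, mul_inv_cancel]
    · intro h1; rw [h1, mul_one, inv_mul_cancel]
  have hnW : ∀ a, a ∈ normalizer (V' : Set Γ) → a ∈ normalizer (B : Set Γ) → a ∈ normalizer (U : Set Γ) :=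
    fun a h1 h2 => hnU (Coprime.le_normalizer_inf (zpowers_le.mpr h1)
      (Coprime.le_normalizer_centralizer (zpowers_le.mpr h2)) (mem_zpowers a))
  have hRU : R ≤ normalizer (U : Set Γ) := fun a ha => hnW a (hRV ha) (hRB ha)
  have hTU : T ≤ normalizer (U : Set Γ) := fun a ha => hnW a (hTV ha) (hTB ha)
  have hker : Z ⊓ centralizer (U : Set Γ) = B := hd.piece_kernel hB hUW hUne
  set N := normalizer (U : Set Γ) with hN
  open scoped IsMulCommutative in
  let f : N →* MulAut U := U.normalizerMonoidHom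
  have hf1 : ∀ a : N, f a = 1 ↔ (a : Γ) ∈ centralizer (U : Set Γ) := fun a => by
    rw [← MonoidHom.mem_ker]
    show a ∈ U.normalizerMonoidHom.ker ↔ _
    rw [normalizerMonoidHom_ker]
    exact Iff.rfl
  let gN : N := ⟨g, hnW g hgV hgB⟩
  set x := f gN with hx
  set E := (R.subgroupOf N).map f with hE
  set Tf := (T.subgroupOf N).map f with hTf
  have hmemE : ∀ a (ha : a ∈ R), f ⟨a, hRU ha⟩ ∈ E := fun a ha =>
    mem_map_of_mem f (show (⟨a, hRU ha⟩ : N) ∈ R.subgroupOf N from ha)
  have hrad : ∀ a : N, (a : Γ) ∈ R → (f a ∈ centralizer (E : Set _) ↔ (a : Γ) ∈ rad R B) := by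
    intro a ha
    rw [mem_centralizer_iff]
    constructor
    · intro h1
      refine ⟨ha, Subgroup.le_normalizer ha, hRB ha, fun y hy => ?_⟩
      rw [← hker]
      refine ⟨commutator_mem_commutator ha hy, ?_⟩
      have h2 := h1 _ (hmemE y hy)
      have h3 : f ⁅a, (⟨y, hRU hy⟩ : N)⁆ = 1 := by
        rw [map_commutatorElement]
        exact commutatorElement_eq_one_iff_mul_comm.mpr h2.symm
      exact (hf1 _).mp h3
    · rintro ⟨-, -, -, h1⟩ _ ⟨y, hy, rfl⟩
      refine (commutatorElement_eq_one_iff_mul_comm.mp ?_).symm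
      rw [← map_commutatorElement, hf1]
      exact (hker.ge (h1 y hy)).2
  have hZmap : ∀ {z : MulAut U}, z ∈ ⁅E, E⁆ → ∃ a : N, (a : Γ) ∈ Z ∧ f a = z := by
    intro z hz
    rw [hE, ← map_commutator] at hz
    obtain ⟨a, ha, rfl⟩ := hz
    refine ⟨a, ?_, rfl⟩
    have h1 := mem_map_of_mem N.subtype ha
    rw [map_commutator, map_subgroupOf_eq_of_le hRU] at h1
    exact h1
  have hcomZ : ∀ {y : Γ}, y ∈ centralizer (Z : Set Γ) → ∀ (hy : y ∈ N) {z : MulAut U}, z ∈ ⁅E, E⁆ →
      f ⟨y, hy⟩ * z = z * f ⟨y, hy⟩ := by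
    intro y hyZ hy z hz
    obtain ⟨a, ha, rfl⟩ := hZmap hz
    rw [← map_mul, ← map_mul]
    exact congrArg f (Subtype.ext (mem_centralizer_iff.mp hyZ a ha).symm)
  have hcl : ⁅E, E⁆ ≤ centralizer (E : Set _) := fun z hz => mem_centralizer_iff.mpr (by
    rintro _ ⟨y, hy, rfl⟩
    exact hcomZ (hRZ hy) y.2 hz)
  have hxc : ∀ z ∈ ⁅E, E⁆, x * z = z * x := by
    intro z hz
    obtain ⟨a, ha, rfl⟩ := hZmap hz
    refine (commutatorElement_eq_one_iff_mul_comm.mp ?_).symm
    rw [hx, ← map_commutatorElement, hf1]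
    exact (hker.ge (hZg (commutator_mem_commutator ha (mem_zpowers g)))).2
  have hfree : ∀ z ∈ ⁅E, E⁆, z ≠ 1 → ∀ w : U, z w = w → w = 1 := by
    intro z hz hz1 w hw
    obtain ⟨a, ha, rfl⟩ := hZmap hz
    have haB : ¬ (zpowers (a : Γ)) ≤ B := fun hle =>
      hz1 ((hf1 a).mpr (hker.ge (hle (mem_zpowers _))).2)
    have hsup := hd.piece_sup hB (zpowers_le.mpr ha) haB
    have h1 : (a : Γ) * w * (a : Γ)⁻¹ = w := congrArg Subtype.val hw
    refine Subtype.ext (mem_bot.mp (hd.fixed.le ⟨(hUW w.2).1, ?_⟩))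
    have hle : Z ≤ centralizer {(w : Γ)} := by
      rw [← hsup]
      refine sup_le (fun y hy => mem_centralizer_singleton_iff.mpr
        (mem_centralizer_iff.mp (hUW w.2).2 y hy)) (zpowers_le.mpr ?_)
      exact mem_centralizer_singleton_iff.mpr (mul_inv_eq_iff_eq_mul.mp h1)
    exact mem_centralizer_iff.mpr fun y hy => mem_centralizer_singleton_iff.mp (hle hy)
  have hxE : x ∈ normalizer (E : Set _) := by
    apply Coprime.mem_normalizer_of_conj_smul_eq
    rw [hE, Coprime.conj_smul_eq_map, Subgroup.map_map,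
      show (MulAut.conj x).toMonoidHom.comp f = f.comp (MulAut.conj gN).toMonoidHom from
        MonoidHom.ext fun a => by simp [hx], ← Subgroup.map_map, ← Coprime.conj_smul_eq_map]
    congr 1
    ext a
    rw [Coprime.mem_conj_smul, mem_subgroupOf, mem_subgroupOf]
    simpa [gN] using (mem_normalizer_iff''.mp hgR (a : Γ)).symm
  have hEdvd : Nat.card E ∣ Nat.card R := (card_map_dvd _ f).trans (Coprime.card_subgroupOf hRU).dvd
  have := Fact.mk h.cfg.hl
  obtain ⟨n, hn⟩ := h.cfg.hR.exists_card_eq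
  have hUV : Nat.card U ∣ Nat.card V' := card_dvd_of_le (hUW.trans inf_le_left)
  have hRW : (Nat.card R).Coprime (Nat.card U) := by
    rw [hn]
    exact ((h.cfg.hl.coprime_iff_not_dvd.mpr hd.notDvd).coprime_dvd_right hUV).pow_left n
  have hrρ : r ≠ ρ := fun he => by
    have h1 : ρ ∣ Nat.card V' := hρW.trans (card_dvd_of_le inf_le_left)
    subst he
    exact hr.not_dvd_one (hrV ▸ Nat.dvd_gcd dvd_rfl h1)
  have hntU : Nontrivial U := (nontrivial_iff_ne_bot U).mpr hUne
  have hxr : x ^ r = 1 := by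
    rw [hx, ← map_pow, show gN ^ r = 1 from Subtype.ext (by simpa [gN] using hgr), map_one]
  open scoped IsMulCommutative in
  have hres := hh_aut hρ hr hrρ (fun w : U => Subtype.ext (by simpa using (hUmem.mp w.2).2)) E x hxr
    hxE (fun w hw => Subtype.ext (mem_bot.mp (hfix.le ⟨hUW w.2, mem_centralizer_singleton_iff.mpr
      (mul_inv_eq_iff_eq_mul.mp (congrArg Subtype.val hw)).symm⟩)))
    (hRW.coprime_dvd_left hEdvd) ((h.cfg.coprime_R hr hlr).symm.coprime_dvd_left hEdvd) hcl hxc hfree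
  have hgnot : ¬ ⁅E, zpowers x⁆ ≤ centralizer (E : Set _) := by
    intro hle
    refine hgen (commutator_le.mpr fun a ha y hy => ?_)
    have hy' : y ∈ N := zpowers_le.mpr gN.2 hy
    have hfy : f ⟨y, hy'⟩ ∈ zpowers x := by
      obtain ⟨i, rfl⟩ := mem_zpowers_iff.mp hy
      exact ⟨i, (map_zpow f gN i).symm⟩
    have hay : (⁅(⟨a, hRU ha⟩ : N), ⟨y, hy'⟩⁆ : N).1 ∈ R :=
      Coprime.commutator_le_of_le_normalizer (zpowers_le.mpr hgR) (commutator_mem_commutator ha hy)
    refine (hrad _ hay).mp ?_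
    rw [map_commutatorElement]
    exact hle (commutator_mem_commutator (hmemE a ha) hfy)
  rcases hres with hbad | hind
  · exact absurd hbad hgnot
  have hdvd : (r - 1) ^ 2 ∣ l ^ n := by
    rw [← hind, ← hn]
    refine ((relIndex_dvd_card _ _).trans (card_dvd_of_le ?_)).trans hEdvd
    exact sup_le inf_le_left (Coprime.commutator_le_of_le_normalizer (zpowers_le.mpr hxE))
  obtain ⟨m, -, hm⟩ := (Nat.dvd_prime_pow h.cfg.hl).mp ((dvd_pow_self (r - 1) two_ne_zero).trans hdvd)
  have hm0 : m ≠ 0 := by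
    intro h0
    rw [hm, h0, pow_zero, one_pow, relIndex_eq_one] at hind
    exact hgnot ((le_sup_right.trans hind).trans inf_le_right)
  refine ⟨m, hm0, hm, fun hl2 => ?_⟩
  subst hl2
  by_contra hne
  open scoped IsMulCommutative in
  refine false_of_symplectic E Tf x hr hm hm0 hxr hxE ?_ ?_ hcl ?_ hxc ?_ ?_ ?_ ?_ ?_ hind ?_
  · apply Coprime.mem_normalizer_of_conj_smul_eq
    rw [hTf, Coprime.conj_smul_eq_map, Subgroup.map_map,
      show (MulAut.conj x).toMonoidHom.comp f = f.comp (MulAut.conj gN).toMonoidHom from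
        MonoidHom.ext fun a => by simp [hx], ← Subgroup.map_map, ← Coprime.conj_smul_eq_map]
    congr 1
    ext a
    rw [Coprime.mem_conj_smul, mem_subgroupOf, mem_subgroupOf]
    simpa [gN] using (mem_normalizer_iff''.mp hgT (a : Γ)).symm
  · rintro _ ⟨t, ht, rfl⟩
    apply Coprime.mem_normalizer_of_conj_smul_eq
    rw [hE, Coprime.conj_smul_eq_map, Subgroup.map_map,
      show (MulAut.conj (f t)).toMonoidHom.comp f = f.comp (MulAut.conj t).toMonoidHom from
        MonoidHom.ext fun a => by simp, ← Subgroup.map_map, ← Coprime.conj_smul_eq_map]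
    congr 1
    ext a
    rw [Coprime.mem_conj_smul, mem_subgroupOf, mem_subgroupOf]
    simpa using (mem_normalizer_iff''.mp (h.cfg.TR ht) (a : Γ)).symm
  · intro z hz
    obtain ⟨a, ha, rfl⟩ := hZmap hz
    rw [← map_pow, show a ^ 2 = 1 from Subtype.ext (by simpa using hd.ea.2 _ ha), map_one]
  · rintro _ ⟨t, ht, rfl⟩ z hz
    exact hcomZ (hTZ ht) t.2 hz
  · exact ((h.cfg.coprime_T hr hsr).symm).coprime_dvd_left
      ((card_map_dvd _ f).trans (Coprime.card_subgroupOf hTU).dvd)
  · exact ((h.cfg.coprime_T Nat.prime_two h.cfg.ls).symm).coprime_dvd_left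
      ((card_map_dvd _ f).trans (Coprime.card_subgroupOf hTU).dvd)
  · exact (h.cfg.coprime_TR.coprime_dvd_left
      ((card_map_dvd _ f).trans (Coprime.card_subgroupOf hTU).dvd)).coprime_dvd_right hEdvd
  · rintro _ ⟨t, ht, rfl⟩ _ ⟨t', ht', rfl⟩ _ ⟨a, ha, rfl⟩
    rw [← map_commutatorElement, ← map_commutatorElement]
    have hT' : ⁅T, T⁆ ≤ centralizer (R : Set Γ) := by
      by_cases hbot : T = ⊥
      · rw [hbot, commutator_bot_left]; exact bot_le
      refine h.minT _ (commutator_le_self T) ?_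
        (FixedPointFree.le_normalizer_commutator' h.cfg.AT h.cfg.AT)
      have := Fact.mk h.cfg.hs
      intro heq
      have h1 := Coprime.commutator_lt_of_isPGroup h.cfg.hT h.cfg.hT Subgroup.le_normalizer hbot
      rw [heq] at h1
      exact lt_irrefl _ h1
    have h1 : ⁅(⁅t, t'⁆ : N), a⁆ = 1 := Subtype.ext (commutatorElement_eq_one_iff_mul_comm.mpr
      (mem_centralizer_iff.mp (hT' (commutator_mem_commutator ht ht')) _ ha).symm)
    rw [h1, map_one]
    exact one_mem _
  · intro hall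
    refine hne fun y hy => ?_
    have hyT : y ∈ T := Coprime.commutator_le_of_le_normalizer (zpowers_le.mpr hgT) hy
    refine ⟨h.cfg.TR hyT, normalizer_le_rad (h.cfg.TR hyT) (hTB hyT), fun a ha => ?_⟩
    have hfy : f ⟨y, hTU hyT⟩ ∈ ⁅Tf, zpowers x⁆ := by
      rw [hTf, hx, ← MonoidHom.map_zpowers, ← map_commutator]
      refine mem_map_of_mem f ?_
      have h1 : y ∈ (⁅T.subgroupOf N, zpowers gN⁆).map N.subtype := by
        rw [map_commutator, map_subgroupOf_eq_of_le hTU, MonoidHom.map_zpowers]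
        exact hy
      obtain ⟨y', hy', rfl⟩ := h1
      exact hy'
    have hay : (⁅(⟨y, hTU hyT⟩ : N), ⟨a, hRU ha⟩⁆ : N).1 ∈ R :=
      le_normalizer_iff_commutator_le_right.mp h.cfg.TR (commutator_mem_commutator hyT ha)
    refine (hrad _ hay).mp ?_
    rw [map_commutatorElement]
    exact hall _ hfy _ (hmemE a ha)

/-- The exponent of the action of `b` on `⟨c⟩` has order `p` modulo `q`. -/
theorem Pair.dvd_sub_one (hA : Pair c b q p k) : p ∣ q - 1 := by
  have := Fact.mk hA.hq
  have := Fact.mk hA.hp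
  have hpow : ∀ j : ℕ, b ^ j * c * (b ^ j)⁻¹ = c ^ (k ^ j) := by
    intro j
    induction j with
    | zero => simp
    | succ j ih =>
      calc b ^ (j + 1) * c * (b ^ (j + 1))⁻¹ = b * (b ^ j * c * (b ^ j)⁻¹) * b⁻¹ := by
            rw [pow_succ']; group
        _ = (b * c * b⁻¹) ^ (k ^ j) := by rw [ih, conj_pow]
        _ = c ^ (k ^ (j + 1)) := by rw [hA.rel, ← pow_mul, ← pow_succ']
  have h1 := hpow p
  rw [hA.bp, one_mul, inv_one, mul_one] at h1
  have h2 : (k : ZMod q) ^ p = 1 := by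
    rw [← Nat.cast_pow, ← Nat.cast_one, ZMod.natCast_eq_natCast_iff, ← hA.orderOf_c,
      ← pow_eq_pow_iff_modEq, pow_one]
    exact h1.symm
  have h3 : (k : ZMod q) ≠ 1 := by
    intro h4
    rw [← Nat.cast_one, ZMod.natCast_eq_natCast_iff, ← hA.orderOf_c, ← pow_eq_pow_iff_modEq,
      pow_one, ← hA.rel] at h4
    exact hA.nc (mul_inv_eq_iff_eq_mul.mp h4)
  have h5 : (k : ZMod q) ≠ 0 := fun h0 => by rw [h0, zero_pow hA.hp.ne_zero] at h2; exact zero_ne_one h2
  rw [← orderOf_eq_prime h2 h3]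
  exact ZMod.orderOf_dvd_card_sub_one h5

/-- `R` is abelian. -/
theorem MinCfg.false_of_nonabelian (h : MinCfg c b q p k l s V R T) (hne : ¬ IsMulCommutative R) :
    False := by
  obtain ⟨hZne, hTZ, hRZ, hea⟩ := h.derived_facts hne
  have hA := h.cfg.pair
  have := h.cfg.commV
  have := Fact.mk h.cfg.hl
  set Z := ⁅R, R⁆ with hZ
  have hZR : Z ≤ R := commutator_le_self R
  have hcR : c ∈ normalizer (R : Set Γ) := h.cfg.AR (mem_sup_left (mem_zpowers c))
  have hbR : b ∈ normalizer (R : Set Γ) := h.cfg.AR (mem_sup_right (mem_zpowers b))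
  have hcT : c ∈ normalizer (T : Set Γ) := h.cfg.AT (mem_sup_left (mem_zpowers c))
  have hbT : b ∈ normalizer (T : Set Γ) := h.cfg.AT (mem_sup_right (mem_zpowers b))
  obtain ⟨hd, hfaith⟩ := actData_commutator h.cfg.hl hea (hZR.trans h.cfg.RV) h.cfg.notDvd
    (le_bot_iff.mp ((inf_le_inf_right _ hZR).trans h.cfg.faithful.le))
  set V' := ⁅V, Z⁆ with hV'
  have hV'V : V' ≤ V := Coprime.commutator_le_of_le_normalizer (hZR.trans h.cfg.RV)
  have hnZ : normalizer (R : Set Γ) ≤ normalizer (Z : Set Γ) := fun a ha =>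
    FixedPointFree.mem_normalizer_commutator ha ha
  have hAZ : grp c b ≤ normalizer (Z : Set Γ) := h.cfg.AR.trans hnZ
  have hAV' : grp c b ≤ normalizer (V' : Set Γ) :=
    FixedPointFree.le_normalizer_commutator' h.cfg.AV hAZ
  have hRV' : R ≤ normalizer (V' : Set Γ) :=
    FixedPointFree.le_normalizer_commutator' h.cfg.RV (Subgroup.le_normalizer.trans hnZ)
  have hTV' : T ≤ normalizer (V' : Set Γ) :=
    FixedPointFree.le_normalizer_commutator' h.cfg.TV (h.cfg.TR.trans hnZ)
  have hfV' : Fpf c b V' := le_bot_iff.mp ((inf_le_inf_right _ (inf_le_inf_right _ hV'V)).trans h.cfg.fV.le)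
  have hfZ : Fpf c b Z := le_bot_iff.mp ((inf_le_inf_right _ (inf_le_inf_right _ hZR)).trans h.cfg.fR.le)
  have hV'ne : V' ≠ ⊥ := fun h1 => hZne (by
    rw [eq_bot_iff, ← h.cfg.faithful]
    exact le_inf hZR (Subgroup.le_centralizer_iff.mp (commutator_eq_bot_iff_le_centralizer.mp h1)))
  have hlqZ : q.Coprime (Nat.card Z) :=
    (h.cfg.coprime_R hA.hq h.cfg.lq).coprime_dvd_right (card_dvd_of_le hZR)
  have hlpZ : p.Coprime (Nat.card Z) :=
    (h.cfg.coprime_R hA.hp h.cfg.lp).coprime_dvd_right (card_dvd_of_le hZR)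
  obtain ⟨B', hB', -⟩ := hd.exists_piece le_rfl hd.normal hV'ne
  have hnRB : ∀ {B : Subgroup Γ}, IsPiece l V' Z B →
      R ≤ normalizer (B : Set Γ) ∧ T ≤ normalizer (B : Set Γ) := fun hB =>
    ⟨hRZ.trans ((centralizer_le hB.le).trans (centralizer_le_normalizer _)),
      hTZ.trans ((centralizer_le hB.le).trans (centralizer_le_normalizer _))⟩
  have hradne : ∀ {B : Subgroup Γ}, IsPiece l V' Z B → ¬ R ≤ rad R B := by
    intro B hB hle
    refine hd.piece_ne hB (le_antisymm hB.le ?_)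
    rw [hZ, commutator_le]
    exact fun x hx y hy => (hle hx).2.2.2 y hy
  have hZrad : ∀ {B : Subgroup Γ}, IsPiece l V' Z B → Z ≤ rad R B := by
    intro B hB z hz
    refine ⟨hZR hz, Subgroup.le_normalizer (hZR hz), (hnRB hB).1 (hZR hz), fun x hx => ?_⟩
    rw [commutatorElement_eq_one_iff_mul_comm.mpr (mem_centralizer_iff.mp (hRZ hx) z hz)]
    exact one_mem _
  -- `T` acts nontrivially modulo the radical
  have hnT : ∀ {B : Subgroup Γ}, IsPiece l V' Z B → ¬ T ≤ triv R (rad R B) := fun hB =>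
    h.not_le_triv (hradne hB)
  -- no piece is fixed by `c`
  have hmoved : ∀ {B : Subgroup Γ}, IsPiece l V' Z B → c ∉ normalizer (B : Set Γ) := by
    intro B hB hcB
    rcases hA.piece_position hd hAV' hAZ hfV' hfZ hlqZ hB with ⟨-, -, hfix, hZc⟩ | ⟨h1, -⟩
    swap
    · exact h1 hcB
    have hrc : ⁅R, zpowers c⁆ ≤ rad R B := by
      refine (h.hh_step hd hRZ hTZ hRV' hTV' hB hA.hq hA.cq h.cfg.lq h.cfg.sq
        (h.cfg.qV.coprime_dvd_right (card_dvd_of_le hV'V)) (hAV' (mem_sup_left (mem_zpowers c)))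
        hcR hcT hcB hfix hZc).resolve_right ?_
      rintro ⟨m, -, hm, -⟩
      have h2 := hA.dvd_sub_one
      rw [hm] at h2
      exact h.cfg.lp ((Nat.prime_dvd_prime_iff_eq hA.hp h.cfg.hl).mp (hA.hp.dvd_of_dvd_pow h2)).symm
    have hcrad : c ∈ triv R (rad R B) := ⟨hcR, normalizer_le_rad hcR hcB, fun x hx => by
      rw [← commutatorElement_inv]
      exact inv_mem (hrc (commutator_mem_commutator hx (mem_zpowers c)))⟩
    have hTrad : T ≤ normalizer (rad R B : Set Γ) := fun t ht =>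
      normalizer_le_rad (h.cfg.TR ht) ((hnRB hB).2 ht)
    rcases h.cases_T with hTc | ⟨-, hTT⟩
    · set R0 := R ⊓ centralizer {c} with hR0
      by_cases hR0R : R0 = R
      · refine h.nc ?_
        have hfRb : R ⊓ centralizer {b} = ⊥ := by
          have := h.cfg.fR
          rwa [Fpf, ← hR0, hR0R] at this
        have hfTb : T ⊓ centralizer {b} = ⊥ := by
          have := h.cfg.fT
          rwa [Fpf, inf_eq_left.mpr hTc] at this
        have := h.cfg.hR.isNilpotent
        have hL := isSolvable_sup_of_normalizer (inferInstance : Group.IsSolvable R) h.cfg.isSolvable_T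
          h.cfg.TR
        exact FixedPointFree.le_centralizer_of_fpf hA.hp (L := R ⊔ T) hA.bp
          (Coprime.le_normalizer_sup (zpowers_le.mpr hbR) (zpowers_le.mpr hbT) (mem_zpowers b)) hL
          (FixedPointFree.fixed_sup_eq_bot (Coprime.inf_eq_bot_of_coprime h.cfg.coprime_TR.symm)
            h.cfg.TR hbR hbT hfRb hfTb)
          h.cfg.hs h.cfg.hl h.cfg.ls h.cfg.hT h.cfg.hR le_sup_right le_sup_left
      have hTR0 : T ≤ centralizer (R0 : Set Γ) := by
        refine h.minR R0 inf_le_left hR0R (Coprime.le_normalizer_inf h.cfg.AR ?_)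
          (Coprime.le_normalizer_inf h.cfg.TR (hTc.trans Subgroup.le_normalizer))
        rw [← FixedPointFree.centralizer_zpowers]
        exact Coprime.le_normalizer_centralizer (sup_le Subgroup.le_normalizer hA.zpowers_b_le)
      refine hnT hB fun t ht => ⟨h.cfg.TR ht, hTrad ht, ?_⟩
      let S : Subgroup Γ :=
        { carrier := {x | x ∈ R ∧ ⁅t, x⁆ ∈ rad R B}
          one_mem' := ⟨one_mem _, by rw [commutatorElement_one_right]; exact one_mem _⟩
          mul_mem' := fun {x y} hx hy => ⟨mul_mem hx.1 hy.1, by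
            have e : ⁅t, x * y⁆ = ⁅t, x⁆ * (x * ⁅t, y⁆ * x⁻¹) := by
              simp only [commutatorElement_def]; group
            rw [e]
            exact mul_mem hx.2 ((mem_normalizer_iff.mp (normalizer_le_rad (Subgroup.le_normalizer hx.1)
              ((hnRB hB).1 hx.1)) _).mp hy.2)⟩
          inv_mem' := fun {x} hx => ⟨inv_mem hx.1, by
            have e : ⁅t, x⁻¹⁆ = x⁻¹ * ⁅t, x⁆⁻¹ * x⁻¹⁻¹ := by
              simp only [commutatorElement_def]; group
            rw [e]
            exact (mem_normalizer_iff.mp (normalizer_le_rad (inv_mem (Subgroup.le_normalizer hx.1))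
              (inv_mem ((hnRB hB).1 hx.1))) _).mp (inv_mem hx.2)⟩ }
      have hRS : R ≤ S := by
        conv_lhs => rw [← Coprime.commutator_sup_centralizer (zpowers_le.mpr hcR)
          (by rw [Nat.card_zpowers, hA.orderOf_c]; exact h.cfg.coprime_R hA.hq h.cfg.lq)
          (Or.inl (Group.isSolvable_of_comm fun x y => IsMulCommutative.is_comm.comm x y))]
        refine sup_le (fun x hx => ⟨(hrc hx).1, ?_⟩) fun x hx => ⟨hx.1, ?_⟩
        · rw [commutatorElement_def]
          exact mul_mem ((mem_normalizer_iff.mp (hTrad ht) x).mp (hrc hx)) (inv_mem (hrc hx))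
        · rw [FixedPointFree.centralizer_zpowers] at hx
          rw [commutatorElement_eq_one_iff_mul_comm.mpr (mem_centralizer_iff.mp (hTR0 ht) x hx).symm]
          exact one_mem _
      exact fun x hx => (hRS hx).2
    · exact hnT hB (le_triv_of_commutator hcrad h.cfg.TR hTrad hTT)
  -- a piece fixed by `b`
  obtain ⟨y, hy, hyb⟩ := hA.exists_fixed_conj hd hAV' hAZ hfV' hB' (hmoved hB')
  set B := MulAut.conj y • B' with hBdef
  have hB : IsPiece l V' Z B :=
    hd.piece_conj hB' (hAV' (mem_sup_left hy)) (hAZ (mem_sup_left hy))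
  have hcB := hmoved hB
  obtain ⟨hfix, hZb⟩ := hA.piece_moved hd hAV' hAZ hfV' hlpZ hB hcB hyb
  set X := ⁅T, zpowers b⁆ with hX
  have hXtriv : X ≤ triv R (rad R B) := by
    rcases h.hh_step hd hRZ hTZ hRV' hTV' hB hA.hp hA.bp h.cfg.lp h.cfg.sp
      (h.cfg.pV.coprime_dvd_right (card_dvd_of_le hV'V)) (hAV' (mem_sup_right (mem_zpowers b)))
      hbR hbT hyb hfix hZb with hb0 | ⟨m, hm0, hm, hl2⟩
    · -- `b` itself is trivial modulo the radical
      have hbrad : b ∈ triv R (rad R B) := ⟨hbR, normalizer_le_rad hbR hyb, fun x hx => by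
        rw [← commutatorElement_inv]
        exact inv_mem (hb0 (commutator_mem_commutator hx (mem_zpowers b)))⟩
      rw [hX, commutator_le]
      intro t ht z hz
      have hz' : z ∈ triv R (rad R B) := zpowers_le.mpr hbrad hz
      exact mul_mem (conj_mem_triv (h.cfg.TR ht) (normalizer_le_rad (h.cfg.TR ht) ((hnRB hB).2 ht)) hz')
        (inv_mem hz')
    · refine hl2 ?_
      have hp2 : p ≠ 2 := by
        intro h2
        rw [h2] at hm
        have := Nat.one_lt_pow hm0 h.cfg.hl.one_lt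
        omega
      have hpodd := hA.hp.odd_of_ne_two hp2
      have : 2 ∣ l ^ m := by rw [← hm]; obtain ⟨i, hi⟩ := hpodd; omega
      exact ((Nat.prime_dvd_prime_iff_eq Nat.prime_two h.cfg.hl).mp (Nat.prime_two.dvd_of_dvd_pow this)).symm
  -- conjugates of `X` under `⟨c⟩` generate `T` together with `X`
  set bi : ℕ → Γ := fun i => c ^ i * b * (c ^ i)⁻¹ with hbi
  set Xi : ℕ → Subgroup Γ := fun i => ⁅T, zpowers (bi i)⁆ with hXi
  have hbiT : ∀ i, bi i ∈ normalizer (T : Set Γ) := fun i =>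
    mul_mem (mul_mem (pow_mem hcT i) hbT) (inv_mem (pow_mem hcT i))
  have hXT : X ≤ T := Coprime.commutator_le_of_le_normalizer (zpowers_le.mpr hbT)
  have hXiT : ∀ i, Xi i ≤ T := fun i => Coprime.commutator_le_of_le_normalizer (zpowers_le.mpr (hbiT i))
  have hTX : T ≤ normalizer (X : Set Γ) := normalizer_commutator_ge_left T (zpowers b)
  have hTXi : ∀ i, T ≤ normalizer (Xi i : Set Γ) := fun i => normalizer_commutator_ge_left T _
  have := Fact.mk h.cfg.hs
  have hgen : ∀ i, 0 < i → i < q → T ≤ X ⊔ Xi i := by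
    intro i hi0 hiq
    set N := X ⊔ Xi i with hN
    have hNT : N ≤ T := sup_le hXT (hXiT i)
    have hTN : T ≤ normalizer (N : Set Γ) := Coprime.le_normalizer_sup hTX (hTXi i)
    have hmem : ∀ a : Γ, a ∈ normalizer (T : Set Γ) → ⁅T, zpowers a⁆ ≤ N → a ∈ triv T N := by
      intro a haT hle
      have h1 : ∀ t ∈ T, ⁅a, t⁆ ∈ N := fun t ht => by
        rw [← commutatorElement_inv]
        exact inv_mem (hle (commutator_mem_commutator ht (mem_zpowers a)))
      refine ⟨haT, ?_, h1⟩
      apply Coprime.mem_normalizer_of_conj_smul_eq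
      refine eq_of_le_of_card_ge (fun z hz => ?_) (Coprime.card_conj_smul a N).ge
      rw [Coprime.mem_conj_smul] at hz
      have e : z = ⁅a, a⁻¹ * z * a⁆ * (a⁻¹ * z * a) := by simp only [commutatorElement_def]; group
      rw [e]
      exact mul_mem (h1 _ (hNT hz)) hz
    have hbm := hmem b hbT le_sup_left
    have hbim := hmem (bi i) (hbiT i) le_sup_right
    have hz0 : bi i * b⁻¹ = c ^ i * (b * (c ^ i)⁻¹ * b⁻¹) := by rw [hbi]; group
    have hcm : c ∈ triv T N := by
      have h1 : bi i * b⁻¹ ∈ triv T N := mul_mem hbim (inv_mem hbm)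
      have hz1 : bi i * b⁻¹ ∈ zpowers c := by
        rw [hz0]
        exact mul_mem (pow_mem (mem_zpowers c) i) ((mem_normalizer_iff.mp
          (hA.zpowers_b_le (mem_zpowers b)) _).mp (inv_mem (pow_mem (mem_zpowers c) i)))
      have hz2 : bi i * b⁻¹ ≠ 1 := fun he => by
        have hcomm : Commute b (c ^ i) := by
          show b * c ^ i = c ^ i * b
          exact (mul_inv_eq_iff_eq_mul.mp (mul_inv_eq_one.mp he)).symm
        have h1 := orderOf_dvd_of_pow_eq_one (hA.eq_one_of_commute (pow_mem (mem_zpowers c) i) hcomm)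
        rw [hA.orderOf_c] at h1
        have := Nat.le_of_dvd hi0 h1
        omega
      obtain ⟨j, hj⟩ : ∃ j, c ^ j = bi i * b⁻¹ := mem_powers_iff_mem_zpowers.mpr hz1
      have hqj : ¬ q ∣ j := fun ⟨d, hd'⟩ => hz2 (by rw [← hj, hd', pow_mul, hA.cq, one_pow])
      obtain ⟨e, he⟩ := exists_pow_eq_self_of_coprime (x := c) (n := j)
        ((hA.hq.coprime_iff_not_dvd.mpr hqj).symm.coprime_dvd_right (orderOf_dvd_of_pow_eq_one hA.cq))
      rw [← he]
      exact pow_mem (hj ▸ h1) e
    have hAm : grp c b ≤ triv T N := sup_le (zpowers_le.mpr hcm) (zpowers_le.mpr hbm)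
    intro t ht
    obtain ⟨m, hm, hmc⟩ := Coprime.exists_fixed_mem_leftCoset (A := grp c b) (N := N) (k := t)
      (fun a ha => (hAm ha).2.1)
      ((((h.cfg.coprime_T hA.hq h.cfg.sq).mul_left (h.cfg.coprime_T hA.hp h.cfg.sp)).coprime_dvd_left
        hA.card_grp_dvd).coprime_dvd_right (card_dvd_of_le hNT))
      (Or.inr (Coprime.isSolvable_of_le hNT h.cfg.isSolvable_T)) (fun a ha => by
        have e : t⁻¹ * (a * t * a⁻¹) = t⁻¹ * ⁅a, t⁆ * t := by simp only [commutatorElement_def]; group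
        rw [e]
        exact (mem_normalizer_iff''.mp (hTN ht) _).mp ((hAm ha).2.2 t ht))
    have h1 : t * m ∈ T ⊓ centralizer (grp c b : Set Γ) := ⟨mul_mem ht (hNT hm), hmc⟩
    rw [hA.centralizer_grp, show T ⊓ centralizer {c} ⊓ centralizer {b} = ⊥ from h.cfg.fT, mem_bot,
      mul_eq_one_iff_eq_inv] at h1
    rw [h1]
    exact inv_mem hm
  -- the spreading
  set rad0 := rad R B with hrad0
  have hTrad0 : T ≤ normalizer (rad0 : Set Γ) := fun t ht =>
    normalizer_le_rad (h.cfg.TR ht) ((hnRB hB).2 ht)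
  have hRrad0 : R ≤ normalizer (rad0 : Set Γ) := fun x hx =>
    normalizer_le_rad (Subgroup.le_normalizer hx) ((hnRB hB).1 hx)
  have hXirad : ∀ i, Xi i ≤ triv R (MulAut.conj (c ^ i) • rad0) := by
    intro i z hz
    have h1 : z ∈ X.map (MulAut.conj (c ^ i)).toMonoidHom := by
      rw [hX, map_commutator, MonoidHom.map_zpowers, ← Coprime.conj_smul_eq_map,
        Coprime.conj_smul_eq_self_of_mem_normalizer (pow_mem hcT i)]
      exact hz
    obtain ⟨w, hw, rfl⟩ := h1
    exact conj_mem_triv_conj (pow_mem hcR i) (hXtriv hw)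
  have hTradi : ∀ i, T ≤ normalizer ((MulAut.conj (c ^ i) • rad0 : Subgroup Γ) : Set Γ) := by
    intro i t ht
    apply Coprime.mem_normalizer_of_conj_smul_eq
    have ht' : (c ^ i)⁻¹ * t * c ^ i ∈ T := (mem_normalizer_iff''.mp (pow_mem hcT i) t).mp ht
    rw [← Coprime.conj_mul_smul, show t * c ^ i = c ^ i * ((c ^ i)⁻¹ * t * c ^ i) by group,
      Coprime.conj_mul_smul, Coprime.conj_smul_eq_self_of_mem_normalizer (hTrad0 ht')]
  have hspread : ∀ n, n < q → ∃ P : Subgroup Γ, P ≤ R ∧ T ≤ normalizer (P : Set Γ) ∧ R ≤ rad0 ⊔ P ∧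
      ∀ j, 0 < j → j ≤ n → P ≤ MulAut.conj (c ^ j) • rad0 := by
    intro n
    induction n with
    | zero => exact fun _ => ⟨R, le_rfl, h.cfg.TR, le_sup_right, fun j h1 h2 => by omega⟩
    | succ n ih =>
      intro hn
      obtain ⟨P, hPR, hTP, hRP, hPj⟩ := ih (by omega)
      set X' := Xi (n + 1) with hX'
      set P' := ⁅P, X'⁆ with hP'
      have hP'P : P' ≤ P := Coprime.commutator_le_of_le_normalizer ((hXiT _).trans hTP)
      have hTP' : T ≤ normalizer (P' : Set Γ) :=
        FixedPointFree.le_normalizer_commutator' hTP (hTXi _)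
      refine ⟨P', hP'P.trans hPR, hTP', ?_, fun j h1 h2 => ?_⟩
      · set H := rad0 ⊔ P' with hH
        have hHR : H ≤ R := sup_le inf_le_left (hP'P.trans hPR)
        have hRH : R ≤ normalizer (H : Set Γ) := by
          intro x hx
          apply Coprime.mem_normalizer_of_conj_smul_eq
          refine eq_of_le_of_card_ge (fun z hz => ?_) (Coprime.card_conj_smul x H).ge
          rw [Coprime.mem_conj_smul] at hz
          have e : z = ⁅x, x⁻¹ * z * x⁆ * (x⁻¹ * z * x) := by simp only [commutatorElement_def]; group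
          rw [e]
          exact mul_mem (mem_sup_left (hZrad hB (commutator_mem_commutator hx (hHR hz)))) hz
        have hTH : T ≤ normalizer (H : Set Γ) := Coprime.le_normalizer_sup hTrad0 hTP'
        have hTtriv : T ≤ triv R H := by
          refine (hgen (n + 1) n.succ_pos hn).trans (sup_le (fun z hz => ?_) fun z hz => ?_)
          · exact triv_mono le_sup_left (hTH (hXT hz)) (hXtriv hz)
          · have hzT := hXiT _ hz
            refine ⟨h.cfg.TR hzT, hTH hzT, fun x hx => ?_⟩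
            obtain ⟨a, ha, w, hw, rfl⟩ :=
              (Coprime.mem_sup_of_le_normalizer (hPR.trans hRrad0)).mp (hRP hx)
            have e : ⁅z, a * w⁆ = ⁅z, a⁆ * (a * ⁅z, w⁆ * a⁻¹) := by
              simp only [commutatorElement_def]; group
            rw [e]
            refine mul_mem (mem_sup_left ?_) ((mem_normalizer_iff.mp (hRH ha.1) _).mp (mem_sup_right ?_))
            · rw [commutatorElement_def]
              exact mul_mem ((mem_normalizer_iff.mp (hTrad0 hzT) a).mp ha) (inv_mem ha)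
            · rw [← commutatorElement_inv]
              exact inv_mem (commutator_mem_commutator hw hz)
        exact h.comm.ge.trans (commutator_le_of_le_triv hTtriv)
      · rcases Nat.lt_or_eq_of_le h2 with h3 | rfl
        · exact (commutator_mono (hPj j h1 (by omega)) ((hXiT _).trans le_rfl)).trans
            (Coprime.commutator_le_of_le_normalizer (hTradi j))
        · exact (commutator_mono hPR le_rfl).trans (commutator_le_of_le_triv (hXirad _))
  obtain ⟨P, hPR, -, hRP, hPj⟩ := hspread (q - 1) (by have := hA.hq.pos; omega)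
  refine hradne hB (hRP.trans (sup_le le_rfl fun x hx => ?_))
  have hxR := hPR hx
  refine ⟨hxR, Subgroup.le_normalizer hxR, (hnRB hB).1 hxR, fun f hf => ?_⟩
  -- all conjugates but one of `[x, f]` lie in `B`
  have hcZ : zpowers c ≤ normalizer (Z : Set Γ) := zpowers_le.mpr (hnZ hcR)
  have := hea.1
  set z : Z := ⟨⁅x, f⁆, commutator_mem_commutator hxR hf⟩ with hzdef
  have := Fintype.ofFinite (zpowers c)
  open scoped IsMulCommutative in
  let φ : zpowers c → Z := fun a => ⟨(a : Γ) * z * (a : Γ)⁻¹, (mem_normalizer_iff.mp (hcZ a.2) _).mp z.2⟩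
  have hother : ∀ a : zpowers c, a ≠ 1 → φ a ∈ B.subgroupOf Z := by
    intro a ha
    obtain ⟨i, hi⟩ := mem_powers_iff_mem_zpowers.mpr a.2
    change c ^ i = (a : Γ) at hi
    have hiq : i % q ≠ 0 := fun h0 => ha (Subtype.ext (by
      rw [← hi, ← Nat.div_add_mod i q, h0, add_zero, pow_mul, hA.cq, one_pow]; rfl))
    set j := q - i % q with hj
    have hjq : i % q < q := Nat.mod_lt _ hA.hq.pos
    have hx' := hPj j (by omega) (by omega) hx
    have hxj : x ∈ triv R (MulAut.conj (c ^ j) • B) := by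
      rw [Coprime.mem_conj_smul] at hx'
      have h1 := conj_mem_triv_conj (pow_mem hcR j) hx'.2
      rwa [show c ^ j * ((c ^ j)⁻¹ * x * c ^ j) * (c ^ j)⁻¹ = x by group] at h1
    have h2 := hxj.2.2 f hf
    rw [Coprime.mem_conj_smul] at h2
    have hcj : (a : Γ) = (c ^ j)⁻¹ := by
      rw [eq_inv_iff_mul_eq_one, ← hi, ← pow_add]
      have h4 : i + j = q * (i / q) + q := by have := Nat.div_add_mod i q; omega
      rw [h4, pow_add, pow_mul, hA.cq, one_pow, one_mul]
    show (a : Γ) * z * (a : Γ)⁻¹ ∈ B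
    rw [hcj, inv_inv]
    exact h2
  open scoped IsMulCommutative in
  have hprod : ((∏ a, φ a : Z) : Γ) ∈ B := by
    rcases hA.piece_position hd hAV' hAZ hfV' hfZ hlqZ hB with ⟨h1, -⟩ | ⟨-, h1⟩
    · exact absurd h1 hcB
    refine h1 ⟨(∏ a, φ a : Z).2, mem_centralizer_singleton_iff.mpr ?_⟩
    have h3 : Z.normalizerMonoidHom ⟨c, hcZ (mem_zpowers c)⟩ (∏ a, φ a) = ∏ a, φ a := by
      rw [map_prod]
      refine Fintype.prod_equiv (Equiv.mulLeft (⟨c, mem_zpowers c⟩ : zpowers c)) _ _ fun a => ?_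
      refine Subtype.ext ?_
      show c * ((a : Γ) * z * (a : Γ)⁻¹) * c⁻¹ = (c * (a : Γ)) * z * (c * (a : Γ))⁻¹
      group
    exact (mul_inv_eq_iff_eq_mul.mp (congrArg Subtype.val h3)).symm
  classical
  open scoped IsMulCommutative in
  have h4 : ∏ a ∈ (Finset.univ : Finset (zpowers c)).erase 1, φ a ∈ B.subgroupOf Z :=
    Subgroup.prod_mem _ fun a ha => hother a (Finset.ne_of_mem_erase ha)
  open scoped IsMulCommutative in
  have h5 : φ 1 ∈ B.subgroupOf Z := by
    have hsplit := (Finset.mul_prod_erase Finset.univ φ (Finset.mem_univ 1)).symm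
    have h6 : (∏ a, φ a) ∈ B.subgroupOf Z := hprod
    rw [hsplit] at h6
    exact (Subgroup.mul_mem_cancel_right _ h4).mp h6
  have h7 : ((1 : Γ) * z * (1 : Γ)⁻¹) ∈ B := h5
  simpa [hzdef] using h7

end Cfsg.Agent.FittingPQ
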