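import Mathlib

/-!
Fixed points of an automorphism of prime order on a faithful module of a group of class two
(the extraspecial case of the theorem of Hall and Higman).

* `index_center_eq_sq` : if `E` has class two, an automorphism `σ` of prime order `q` centralises the
  centre and fixes only the trivial coset of it, and `σ` is induced on a module by `x` without fixed
  points, then `[E : Z(E)] = (q - 1)²`.
* `card_eigenvalues_le` : eigenvalues of a semisimple operator.
-/

set_option autoImplicit false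

namespace Cfsg.Agent.FittingPQ

open Module
open scoped commutatorElement

universe u v w

/-- Commuting operators on a nontrivial space over an algebraically closed field have a common
eigenvector. -/
theorem exists_common_eigenvector {K : Type u} [Field K] [IsAlgClosed K] {V : Type v} [AddCommGroup V]
    [Module K V] [FiniteDimensional K V] [Nontrivial V] {ι : Type w} [Finite ι] (f : ι → End K V)
    (hf : ∀ i j, Commute (f i) (f j)) : ∃ v : V, v ≠ 0 ∧ ∀ i, ∃ μ : K, f i v = μ • v := by
  classical
  cases nonempty_fintype ι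
  suffices key : ∀ s : Finset ι, ∃ S : Submodule K V, S ≠ ⊥ ∧ (∀ j, ∀ w ∈ S, f j w ∈ S) ∧
      ∀ i ∈ s, ∃ μ : K, ∀ w ∈ S, f i w = μ • w by
    obtain ⟨S, hS, -, hs⟩ := key Finset.univ
    obtain ⟨v, hv, hv0⟩ := S.ne_bot_iff.mp hS
    exact ⟨v, hv0, fun i => (hs i (Finset.mem_univ i)).imp fun μ h => h v hv⟩
  intro s
  induction s using Finset.induction_on with
  | empty => exact ⟨⊤, top_ne_bot, fun _ _ _ => Submodule.mem_top, fun i hi => absurd hi (Finset.notMem_empty i)⟩
  | @insert i s _ ih =>
    obtain ⟨S, hS, hinv, hs⟩ := ih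
    have := Submodule.nontrivial_iff_ne_bot.mpr hS
    obtain ⟨μ, hμ⟩ := Module.End.exists_eigenvalue ((f i).restrict (hinv i))
    obtain ⟨w, hw, hw0⟩ := (Submodule.ne_bot_iff _).mp hμ
    refine ⟨S ⊓ Module.End.eigenspace (f i) μ, ?_, ?_, ?_⟩
    · refine (Submodule.ne_bot_iff _).mpr ⟨w, ⟨w.2, ?_⟩, fun h => hw0 (Subtype.ext h)⟩
      rw [SetLike.mem_coe, Module.End.mem_eigenspace_iff]
      exact congrArg Subtype.val (Module.End.mem_eigenspace_iff.mp hw)
    · intro j v hv
      refine ⟨hinv j v hv.1, ?_⟩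
      rw [SetLike.mem_coe, Module.End.mem_eigenspace_iff]
      have h1 : (f i * f j) v = (f j * f i) v := by rw [(hf i j).eq]
      simp only [Module.End.mul_apply] at h1
      rw [h1, Module.End.mem_eigenspace_iff.mp hv.2, map_smul]
    · intro k hk
      rcases Finset.mem_insert.mp hk with rfl | hk
      · exact ⟨μ, fun v hv => Module.End.mem_eigenspace_iff.mp hv.2⟩
      · exact (hs k hk).imp fun ν h v hv => h v hv.1

section Irr

variable {K : Type u} [Field K] {S : Type v} [AddCommGroup S] [Module K S] {E : Type w} [Group E]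

theorem rep_inv_apply (π : E →* End K S) (e : E) (s : S) : π e⁻¹ (π e s) = s := by
  rw [← Module.End.mul_apply, ← map_mul, inv_mul_cancel, map_one, Module.End.one_apply]

theorem rep_apply_inv (π : E →* End K S) (e : E) (s : S) : π e (π e⁻¹ s) = s := by
  rw [← Module.End.mul_apply, ← map_mul, mul_inv_cancel, map_one, Module.End.one_apply]

theorem center_char_mul [Nontrivial S] (π : E →* End K S) (lam : E → K)
    (hlam : ∀ z ∈ Subgroup.center E, ∀ s, π z s = lam z • s) {z : E} (hz : z ∈ Subgroup.center E) :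
    lam z ≠ 0 ∧ lam z⁻¹ = (lam z)⁻¹ := by
  obtain ⟨s, hs⟩ := exists_ne (0 : S)
  have h := rep_inv_apply π z s
  rw [hlam z hz, map_smul, hlam _ (inv_mem hz), smul_smul] at h
  have h1 : lam z * lam z⁻¹ = 1 := by
    refine sub_eq_zero.mp ((smul_eq_zero.mp ?_).resolve_right hs)
    rw [sub_smul, one_smul, h, sub_self]
  exact ⟨left_ne_zero_of_mul_eq_one h1, eq_inv_of_mul_eq_one_right h1⟩

/-- Elements in different cosets of the centre act linearly independently. -/
theorem linearIndependent_rep [Nontrivial S] (π : E →* End K S)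
    (hcl : commutator E ≤ Subgroup.center E) (lam : E → K)
    (hlam : ∀ z ∈ Subgroup.center E, ∀ s, π z s = lam z • s)
    (hfree : ∀ z ∈ commutator E, z ≠ 1 → lam z ≠ 1)
    {ι : Type*} (r : ι → E) (hr : ∀ i j, (r i)⁻¹ * r j ∈ Subgroup.center E → i = j) :
    LinearIndependent K (fun i => π (r i)) := by
  classical
  have hcm : ∀ g e : E, ⁅g, e⁆ ∈ commutator E := fun g e =>
    Subgroup.commutator_mem_commutator (Subgroup.mem_top g) (Subgroup.mem_top e)
  have hconj : ∀ g e : E, π g * π e * π g⁻¹ = lam ⁅g, e⁆ • π e := by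
    intro g e
    refine LinearMap.ext fun s => ?_
    rw [← map_mul, ← map_mul, show g * e * g⁻¹ = ⁅g, e⁆ * e by rw [commutatorElement_def]; group,
      map_mul, Module.End.mul_apply, hlam _ (hcl (hcm g e)), LinearMap.smul_apply]
  rw [linearIndependent_iff']
  intro s
  induction s using Finset.induction_on with
  | empty => intro g _ i hi; exact absurd hi (Finset.notMem_empty i)
  | @insert j s hj ih =>
    intro g hsum i hi
    have hrest : ∀ k ∈ s, g k = 0 := by
      intro k hk
      have hjk : (r j)⁻¹ * r k ∉ Subgroup.center E := fun h => hj (hr j k h ▸ hk)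
      obtain ⟨h, hh⟩ : ∃ h : E, lam ⁅h, r k⁆ ≠ lam ⁅h, r j⁆ := by
        by_contra! hcon
        refine hjk (Subgroup.mem_center_iff.mpr fun h => ?_)
        by_contra hne
        have hne' : ⁅h, (r j)⁻¹ * r k⁆ ≠ 1 := fun e => hne (commutatorElement_eq_one_iff_mul_comm.mp e)
        have hsplit : ⁅h, (r j)⁻¹ * r k⁆ = ⁅h, r j⁆⁻¹ * ⁅h, r k⁆ := by
          have e1 : ⁅h, r j * ((r j)⁻¹ * r k)⁆ = ⁅h, r j⁆ * (r j * ⁅h, (r j)⁻¹ * r k⁆ * (r j)⁻¹) := by
            simp only [commutatorElement_def]; group
          rw [mul_inv_cancel_left, Subgroup.mem_center_iff.mp (hcl (hcm _ _)) (r j),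
            mul_inv_cancel_right] at e1
          rw [e1, inv_mul_cancel_left]
        refine hfree _ (hcm _ _) hne' ?_
        obtain ⟨s0, hs0⟩ := exists_ne (0 : S)
        have hz1 := hcl (hcm h (r j))
        have hz2 := hcl (hcm h (r k))
        have e2 := hlam _ (hcl (hcm h ((r j)⁻¹ * r k))) s0
        rw [hsplit, map_mul, Module.End.mul_apply, hlam _ hz2, map_smul, hlam _ (inv_mem hz1), smul_smul,
          (center_char_mul π lam hlam hz1).2, hcon h, mul_inv_cancel₀ (center_char_mul π lam hlam hz1).1,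
          one_smul, ← hsplit] at e2
        have h0 : (lam ⁅h, (r j)⁻¹ * r k⁆ - 1) • s0 = 0 := by rw [sub_smul, one_smul, ← e2, sub_self]
        exact sub_eq_zero.mp ((smul_eq_zero.mp h0).resolve_right hs0)
      have h1 : ∑ x ∈ insert j s, (g x * lam ⁅h, r x⁆) • π (r x) = 0 := by
        have := congrArg (fun T => π h * T * π h⁻¹) hsum
        simp only [Finset.mul_sum, Finset.sum_mul, mul_zero, zero_mul, mul_smul_comm, smul_mul_assoc,
          hconj, smul_smul] at this
        exact this
      have h2 : ∑ x ∈ s, (g x * (lam ⁅h, r x⁆ - lam ⁅h, r j⁆)) • π (r x) = 0 := by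
        have h3 : ∑ x ∈ insert j s, (g x * (lam ⁅h, r x⁆ - lam ⁅h, r j⁆)) • π (r x) = 0 := by
          have h4 := congrArg (fun T => lam ⁅h, r j⁆ • T) hsum
          simp only [Finset.smul_sum, smul_zero, smul_smul] at h4
          simp only [mul_sub, sub_smul, Finset.sum_sub_distrib]
          rw [h1, zero_sub, neg_eq_zero, ← h4]
          exact Finset.sum_congr rfl fun x _ => by rw [mul_comm]
        rwa [Finset.sum_insert hj, sub_self, mul_zero, zero_smul, zero_add] at h3
      exact (mul_eq_zero.mp (ih _ h2 k hk)).resolve_right (sub_ne_zero.mpr hh)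
    rcases Finset.mem_insert.mp hi with rfl | hi
    · rw [Finset.sum_insert hj, Finset.sum_eq_zero fun k hk => by rw [hrest k hk, zero_smul],
        add_zero] at hsum
      refine (smul_eq_zero.mp hsum).resolve_right fun h0 => ?_
      obtain ⟨s0, hs0⟩ := exists_ne (0 : S)
      have h5 := rep_inv_apply π (r i) s0
      rw [h0, LinearMap.zero_apply, map_zero] at h5
      exact hs0 h5.symm
    · exact hrest i hi

end Irr

section Eigen

variable {K : Type u} [Field K] {S : Type v} [AddCommGroup S] [Module K S]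

/-- The projection onto the `ζ ^ i` eigenspace of an operator of order dividing `q`. -/
noncomputable def eigenProj (u : End K S) (q : ℕ) (t : K) : End K S :=
  ((q : K)⁻¹) • ∑ k ∈ Finset.range q, (t⁻¹) ^ k • u ^ k

theorem apply_eigenProj {u : End K S} {q : ℕ} (hq : q ≠ 0) (hu : u ^ q = 1) {t : K} (ht : t ^ q = 1)
    (s : S) : u (eigenProj u q t s) = t • eigenProj u q t s := by
  obtain ⟨n, rfl⟩ := Nat.exists_eq_succ_of_ne_zero hq
  have ht0 : t ≠ 0 := by rintro rfl; simp at ht
  have key : u * (∑ k ∈ Finset.range (n + 1), (t⁻¹) ^ k • u ^ k) =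
      t • ∑ k ∈ Finset.range (n + 1), (t⁻¹) ^ k • u ^ k := by
    rw [Finset.mul_sum, Finset.smul_sum]
    conv_lhs => rw [Finset.sum_range_succ]
    conv_rhs => rw [Finset.sum_range_succ', ]
    simp only [mul_smul_comm, smul_smul, ← pow_succ', hu, pow_zero, mul_one]
    congr 1
    · refine Finset.sum_congr rfl fun k _ => ?_
      rw [pow_succ' t⁻¹, ← mul_assoc, mul_inv_cancel₀ ht0, one_mul]
    · rw [inv_pow, eq_comm]
      congr 1
      exact eq_inv_of_mul_eq_one_left (by rw [← pow_succ']; exact ht)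
  have := congrArg (fun T : End K S => ((n + 1 : ℕ) : K)⁻¹ • T s) key
  simp only [Module.End.mul_apply, LinearMap.smul_apply] at this
  simp only [eigenProj, LinearMap.smul_apply, map_smul]
  rw [this, smul_comm]

theorem eigenProj_apply_eigen {u : End K S} {q : ℕ} (hqK : (q : K) ≠ 0) {t t' : K} (ht : t ^ q = 1)
    (ht' : t' ^ q = 1) {s : S} (hs : u s = t' • s) [Decidable (t' = t)] :
    eigenProj u q t s = if t' = t then s else 0 := by
  have hp : ∀ k, (u ^ k) s = t' ^ k • s := fun k => by
    induction k with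
    | zero => simp
    | succ k ih => rw [pow_succ, Module.End.mul_apply, hs, map_smul, ih, smul_smul, pow_succ']
  have ht0 : t ≠ 0 := by
    rintro rfl
    rcases q with _ | q
    · exact hqK Nat.cast_zero
    · rw [zero_pow q.succ_ne_zero] at ht; exact zero_ne_one ht
  simp only [eigenProj, LinearMap.smul_apply, LinearMap.coe_sum, Finset.sum_apply, hp, smul_smul,
    ← Finset.sum_smul, ← mul_pow]
  split_ifs with h
  · subst h
    simp only [inv_mul_cancel₀ ht0, one_pow, Finset.sum_const, Finset.card_range, nsmul_one]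
    rw [inv_mul_cancel₀ hqK, one_smul]
  · rw [geom_sum_eq (fun e => h ((inv_mul_eq_one₀ ht0).mp e).symm),
      mul_pow, inv_pow, ht, ht', inv_one, one_mul, sub_self, zero_div, mul_zero, zero_smul]

theorem sum_eigenProj {u : End K S} {q : ℕ} (hqK : (q : K) ≠ 0) {ζ : K} (hζ : IsPrimitiveRoot ζ q) :
    ∑ i ∈ Finset.range q, eigenProj u q (ζ ^ i) = 1 := by
  simp only [eigenProj, ← Finset.smul_sum]
  rw [Finset.sum_comm]
  simp only [← Finset.sum_smul]
  have h0 : 0 < q := Nat.pos_of_ne_zero fun h => hqK (by rw [h, Nat.cast_zero])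
  rw [Finset.sum_eq_single 0]
  · simp only [pow_zero, Finset.sum_const, Finset.card_range, nsmul_one, smul_smul]
    rw [inv_mul_cancel₀ hqK, one_smul]
  · intro k hk hk0
    rw [Finset.mem_range] at hk
    have e : ∀ i, ((ζ ^ i)⁻¹) ^ k = ((ζ ^ k)⁻¹) ^ i := fun i => by
      rw [inv_pow, inv_pow, ← pow_mul, ← pow_mul, mul_comm]
    simp only [e]
    rw [geom_sum_eq (fun h => hζ.pow_ne_one_of_pos_of_lt hk0 hk (inv_eq_one.mp h)), inv_pow, ← pow_mul,
      mul_comm k, pow_mul, hζ.pow_eq_one, one_pow, inv_one, sub_self, zero_div, zero_smul]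
  · intro h
    exact absurd (Finset.mem_range.mpr h0) h

end Eigen

/-- The number theory behind the theorem. -/
theorem eq_sub_one_of_sq_mul_le {n q : ℕ} (hq : q.Prime) (hn : 1 < n) (hmod : q ∣ n ^ 2 - 1)
    (hle : q * n ^ 2 ≤ (q - 1) * (q - 1) + (q - 1) * n ^ 2) : n = q - 1 := by
  have h1 : n * n ≤ (q - 1) * (q - 1) := by
    have e : q * n ^ 2 = (q - 1) * n ^ 2 + n ^ 2 := by
      have := hq.pos
      nth_rw 1 [show q = (q - 1) + 1 by omega]
      ring
    rw [e, pow_two] at hle
    omega
  have h2 : n ≤ q - 1 := Nat.mul_self_le_mul_self_iff.mp h1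
  have h3 : n ^ 2 - 1 = (n + 1) * (n - 1) := by
    have := Nat.sq_sub_sq n 1
    rwa [one_pow] at this
  rw [h3] at hmod
  rcases hq.dvd_mul.mp hmod with h | h
  · have := Nat.le_of_dvd (by omega) h; omega
  · have := Nat.le_of_dvd (by omega) h; omega

section Main

variable {K : Type u} [Field K] [IsAlgClosed K] {V : Type v} [AddCommGroup V] [Module K V]
  [FiniteDimensional K V] [Nontrivial V] {E : Type w} [Group E] [Finite E]

/-- **Hall-Higman** (class two): see the module documentation. -/
theorem index_center_eq_sq (ρ : E →* End K V) (σ : MulAut E) (x : End K V) {q : ℕ} (hq : q.Prime)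
    (hqK : (q : K) ≠ 0) (hxρ : ∀ e, x * ρ e = ρ (σ e) * x) (hx : x ^ q = 1)
    (hσq : σ ^ q = 1) (hfpf : ∀ v, x v = v → v = 0)
    (hcl : commutator E ≤ Subgroup.center E) (hσZ : ∀ z ∈ Subgroup.center E, σ z = z)
    (hσfix : ∀ e, σ e * e⁻¹ ∈ Subgroup.center E → e ∈ Subgroup.center E)
    (hfree : ∀ z ∈ commutator E, z ≠ 1 → ∀ v, ρ z v = v → v = 0)
    (hna : Subgroup.center E ≠ ⊤) : (Subgroup.center E).index = (q - 1) ^ 2 := by
  classical
  have := Fact.mk hq
  set Z := Subgroup.center E with hZ
  have hcm : ∀ g e : E, ⁅g, e⁆ ∈ commutator E := fun g e =>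
    Subgroup.commutator_mem_commutator (Subgroup.mem_top g) (Subgroup.mem_top e)
  -- a maximal abelian subgroup
  obtain ⟨A, ⟨hZA, hAc⟩, hAmax⟩ : ∃ A : Subgroup E, (Z ≤ A ∧ ∀ a ∈ A, ∀ b ∈ A, Commute a b) ∧
      ∀ B : Subgroup E, (Z ≤ B ∧ ∀ a ∈ B, ∀ b ∈ B, Commute a b) → A ≤ B → B ≤ A := by
    obtain ⟨A, hA⟩ := (Set.toFinite {A : Subgroup E | Z ≤ A ∧ ∀ a ∈ A, ∀ b ∈ A, Commute a b}).exists_maximal
      ⟨Z, le_rfl, fun a ha b _ => (Subgroup.mem_center_iff.mp ha b).symm⟩
    exact ⟨A, hA.1, fun B hB h => hA.2 hB h⟩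
  obtain ⟨v0, hv0, hev⟩ := exists_common_eigenvector (fun a : A => ρ (a : E)) fun a b => (hAc _ a.2 _ b.2).map ρ
  choose lamA hlamA using hev
  let lam : E → K := fun e => if h : e ∈ A then lamA ⟨e, h⟩ else 0
  have hlamv : ∀ a ∈ A, ρ a v0 = lam a • v0 := fun a ha => by
    simp only [lam, dif_pos ha]; exact hlamA ⟨a, ha⟩
  let S : Submodule K V := Submodule.span K (Set.range fun e => ρ e v0)
  have hSinv : ∀ e, ∀ s ∈ S, ρ e s ∈ S := fun e s hs => by
    induction hs using Submodule.span_induction with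
    | mem s hs =>
      obtain ⟨g, rfl⟩ := hs
      exact Submodule.subset_span ⟨e * g, by simp⟩
    | zero => rw [map_zero]; exact S.zero_mem
    | add a b _ _ ha hb => rw [map_add]; exact S.add_mem ha hb
    | smul c a _ ha => rw [map_smul]; exact S.smul_mem c ha
  have hv0S : v0 ∈ S := Submodule.subset_span ⟨1, by simp⟩
  have : Nontrivial S := ⟨⟨⟨v0, hv0S⟩, 0, fun h => hv0 (congrArg Subtype.val h)⟩⟩
  let π : E →* End K S :=
    { toFun := fun e => (ρ e).restrict (hSinv e)
      map_one' := LinearMap.ext fun s => Subtype.ext (by simp)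
      map_mul' := fun a b => LinearMap.ext fun s => Subtype.ext (by simp) }
  have hlam : ∀ z ∈ Z, ∀ s : S, π z s = lam z • s := by
    intro z hz s
    refine Subtype.ext ?_
    show ρ z (s : V) = lam z • (s : V)
    obtain ⟨s, hs⟩ := s
    induction hs using Submodule.span_induction with
    | mem s hs =>
      obtain ⟨g, rfl⟩ := hs
      rw [← Module.End.mul_apply, ← map_mul, ← Subgroup.mem_center_iff.mp hz g, map_mul,
        Module.End.mul_apply, hlamv z (hZA hz), map_smul]
    | zero => rw [map_zero, smul_zero]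
    | add a b _ _ ha hb => rw [map_add, ha, hb, smul_add]
    | smul c a _ ha => rw [map_smul, ha, smul_comm]
  have hfree' : ∀ z ∈ commutator E, z ≠ 1 → lam z ≠ 1 := fun z hz hz1 h =>
    hv0 (hfree z hz hz1 v0 (by rw [hlamv z (hZA (hcl hz)), h, one_smul]))
  -- the dimension of `S`
  have hdimA : finrank K S ≤ A.index := by
    have hspan : S ≤ Submodule.span K (Set.range fun i : E ⧸ A => ρ i.out v0) := by
      refine Submodule.span_le.mpr ?_
      rintro _ ⟨e, rfl⟩
      have ha : ((QuotientGroup.mk e : E ⧸ A).out)⁻¹ * e ∈ A := QuotientGroup.eq.mp (QuotientGroup.out_eq' _)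
      have e1 : ρ e v0 = lam (((QuotientGroup.mk e : E ⧸ A).out)⁻¹ * e) •
          ρ (QuotientGroup.mk e : E ⧸ A).out v0 := by
        rw [← map_smul, ← hlamv _ ha, ← Module.End.mul_apply, ← map_mul, mul_inv_cancel_left]
      simp only []
      rw [e1]
      exact Submodule.smul_mem _ _ (Submodule.subset_span ⟨_, rfl⟩)
    have := Fintype.ofFinite (E ⧸ A)
    calc finrank K S ≤ finrank K (Submodule.span K (Set.range fun i : E ⧸ A => ρ i.out v0)) :=
          Submodule.finrank_mono hspan
      _ ≤ Fintype.card (E ⧸ A) := finrank_range_le_card _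
      _ = A.index := by rw [Subgroup.index_eq_card, Nat.card_eq_fintype_card]
  have hAZ : A.index ≤ Z.relIndex A := by
    let Z' := Z.subgroupOf A
    have hmulc : ∀ (e : E), ∀ a ∈ A, ∀ b ∈ A, lam ⁅e, a * b⁆ = lam ⁅e, a⁆ * lam ⁅e, b⁆ := by
      intro e a ha b hb
      have h1 : ⁅e, a * b⁆ = ⁅e, a⁆ * ⁅e, b⁆ := by
        have : ⁅e, a * b⁆ = ⁅e, a⁆ * (a * ⁅e, b⁆ * a⁻¹) := by simp only [commutatorElement_def]; group
        rw [this, Subgroup.mem_center_iff.mp (hcl (hcm e b)) a, mul_inv_cancel_right]
      have h2 := hlamv _ (A.mul_mem (hZA (hcl (hcm e a))) (hZA (hcl (hcm e b))))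
      rw [map_mul, Module.End.mul_apply, hlamv _ (hZA (hcl (hcm e b))), map_smul,
        hlamv _ (hZA (hcl (hcm e a))), smul_smul] at h2
      rw [h1]
      refine (sub_eq_zero.mp ((smul_eq_zero.mp ?_).resolve_right hv0)).symm
      rw [sub_smul, mul_comm (lam ⁅e, a⁆), h2, sub_self]
    have hlam1 : lam 1 = 1 := by
      have h := hlamv 1 A.one_mem
      rw [map_one, Module.End.one_apply] at h
      refine (sub_eq_zero.mp ((smul_eq_zero.mp ?_).resolve_right hv0)).symm
      rw [sub_smul, one_smul, ← h, sub_self]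
    have hker : ∀ e : E, (∀ a ∈ A, lam ⁅e, a⁆ = 1) → e ∈ A := by
      intro e he
      have hcomm : ∀ a ∈ A, Commute e a := fun a ha => by
        by_contra hne
        exact hfree' _ (hcm e a) (fun h => hne (commutatorElement_eq_one_iff_mul_comm.mp h)) (he a ha)
      let B := Subgroup.closure (insert e (A : Set E))
      have hB : ∀ a ∈ B, ∀ b ∈ B, Commute a b := by
        have := Subgroup.isMulCommutative_closure (k := insert e (A : Set E)) (by
          rintro a (rfl | ha) b (rfl | hb)
          · exact rfl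
          · exact (hcomm b hb).eq
          · exact (hcomm a ha).symm.eq
          · exact (hAc a ha b hb).eq)
        exact fun a ha b hb => congrArg Subtype.val (mul_comm' (⟨a, ha⟩ : B) ⟨b, hb⟩)
      have hAB : A ≤ B := fun a ha => Subgroup.subset_closure (Set.mem_insert_of_mem e ha)
      exact hAmax B ⟨hZA.trans hAB, hB⟩ hAB (Subgroup.subset_closure (Set.mem_insert e _))
    have hz1 : ∀ e : E, ∀ z ∈ Z, lam ⁅e, z⁆ = 1 := fun e z hz => by
      rw [commutatorElement_eq_one_iff_mul_comm.mpr (Subgroup.mem_center_iff.mp hz e), hlam1]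
    have : Z'.Normal := Subgroup.normal_subgroupOf (H := A) (N := Z)
    let χ : E → (A ⧸ Z' →* K) := fun e => QuotientGroup.lift Z'
      { toFun := fun a => lam ⁅e, (a : E)⁆
        map_one' := hz1 e 1 Z.one_mem
        map_mul' := fun a b => hmulc e a a.2 b b.2 } fun a ha => MonoidHom.mem_ker.mpr (hz1 e a ha)
    have hχinj : ∀ e e', χ e = χ e' → e⁻¹ * e' ∈ A := by
      intro e e' hee
      refine hker _ fun a ha => ?_
      have h1 : lam ⁅e, a⁆ = lam ⁅e', a⁆ := DFunLike.congr_fun hee (QuotientGroup.mk (⟨a, ha⟩ : A))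
      have e1 : ⁅e', a⁆ = ⁅e, a⁆ * ⁅e⁻¹ * e', a⁆ := by
        have e2 : ⁅e * (e⁻¹ * e'), a⁆ = (e * ⁅e⁻¹ * e', a⁆ * e⁻¹) * ⁅e, a⁆ := by
          simp only [commutatorElement_def]; group
        rw [mul_inv_cancel_left, Subgroup.mem_center_iff.mp (hcl (hcm _ _)) e, mul_inv_cancel_right,
          ← Subgroup.mem_center_iff.mp (hcl (hcm (e⁻¹ * e') a)) _] at e2
        exact e2
      have h3 := center_char_mul π lam hlam (hcl (hcm e a))
      have h4 := hlamv _ (hZA (hcl (hcm e' a)))
      rw [e1, map_mul, Module.End.mul_apply, hlamv _ (hZA (hcl (hcm _ a))), map_smul,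
        hlamv _ (hZA (hcl (hcm e a))), smul_smul] at h4
      rw [← e1, ← h1] at h4
      have h5 : lam ⁅e⁻¹ * e', a⁆ * lam ⁅e, a⁆ = lam ⁅e, a⁆ := by
        refine sub_eq_zero.mp ((smul_eq_zero.mp ?_).resolve_right hv0)
        rw [sub_smul, h4, sub_self]
      exact mul_eq_right₀ h3.1 |>.mp h5
    have := Fintype.ofFinite (A ⧸ Z')
    have := Fintype.ofFinite (E ⧸ A)
    have hli : LinearIndependent K (fun i : E ⧸ A => (χ i.out : A ⧸ Z' → K)) :=
      (linearIndependent_monoidHom (A ⧸ Z') K).comp (fun i : E ⧸ A => χ i.out) fun i j h => by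
        rw [← QuotientGroup.out_eq' i, ← QuotientGroup.out_eq' j]
        exact QuotientGroup.eq.mpr (hχinj _ _ h)
    have h := hli.fintype_card_le_finrank
    rw [Module.finrank_fintype_fun_eq_card] at h
    rwa [← Nat.card_eq_fintype_card, ← Nat.card_eq_fintype_card, ← Subgroup.index_eq_card,
      ← Subgroup.index_eq_card] at h
  have := Fintype.ofFinite (E ⧸ Z)
  have hind : ∀ r : E ⧸ Z → E, (∀ i j, (r i)⁻¹ * r j ∈ Z → i = j) → LinearIndependent K (fun i => π (r i)) :=
    fun r hr => linearIndependent_rep π hcl lam hlam hfree' r hr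
  have hout : ∀ i j : E ⧸ Z, i.out⁻¹ * j.out ∈ Z → i = j := fun i j h => by
    rw [← QuotientGroup.out_eq' i, ← QuotientGroup.out_eq' j]; exact QuotientGroup.eq.mpr h
  set d := finrank K S with hd
  have hdd : Fintype.card (E ⧸ Z) = d * d := by
    have h1 := (hind _ hout).fintype_card_le_finrank
    rw [Module.finrank_linearMap, ← hd] at h1
    refine le_antisymm h1 ?_
    rw [← Nat.card_eq_fintype_card, ← Subgroup.index_eq_card, ← Subgroup.relIndex_mul_index hZA]
    exact Nat.mul_le_mul (hdimA.trans hAZ) hdimA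
  have hdpos : 0 < d := finrank_pos
  let b : Basis (E ⧸ Z) K (End K S) := basisOfLinearIndependentOfCardEqFinrank' _ (hind _ hout)
    (by rw [hdd, Module.finrank_linearMap])
  have hb : ∀ i, b i = π i.out := fun i => by simp [b]
  -- `S` is irreducible
  have hirr : ∀ T : Submodule K S, (∀ e, ∀ s ∈ T, π e s ∈ T) → T = ⊥ ∨ T = ⊤ := by
    intro T hT
    by_cases hTb : T = ⊥
    · exact Or.inl hTb
    refine Or.inr (eq_top_iff.mpr fun s _ => ?_)
    obtain ⟨t, ht, ht0⟩ := T.ne_bot_iff.mp hTb
    obtain ⟨φ, hφ⟩ := Module.Projective.exists_dual_ne_zero K ht0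
    have hf : (φ.smulRight ((φ t)⁻¹ • s) : End K S) t ∈ T := by
      have : (φ.smulRight ((φ t)⁻¹ • s) : End K S) ∈ Submodule.span K (Set.range b) := by
        rw [b.span_eq]; exact Submodule.mem_top
      generalize (φ.smulRight ((φ t)⁻¹ • s) : End K S) = g0 at this ⊢
      induction this using Submodule.span_induction with
      | mem g hg => obtain ⟨i, rfl⟩ := hg; rw [hb]; exact hT _ t ht
      | zero => exact T.zero_mem
      | add g g' _ _ h h' => exact T.add_mem h h'
      | smul c g _ h => exact T.smul_mem c h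
    rwa [LinearMap.smulRight_apply, smul_smul, mul_inv_cancel₀ hφ, one_smul] at hf
  -- the implementing operator
  have hσmem : ∀ z, σ z ∈ Z ↔ z ∈ Z := fun z => by
    constructor
    · intro h
      have := hσZ _ h
      rwa [← σ.injective this]
    · intro h; rwa [hσZ z h]
  let g : End K S → End K S := fun f => ∑ i : E ⧸ Z, π (σ i.out) * f * π i.out⁻¹
  obtain ⟨f0, hf0⟩ : ∃ f, g f ≠ 0 := by
    by_contra! hcon
    obtain ⟨s0, hs0⟩ := exists_ne (0 : S)
    obtain ⟨φ, hφ⟩ := Module.Projective.exists_dual_ne_zero K hs0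
    have hli := hind (fun i => σ i.out) fun i j h => by
      rw [← map_inv, ← map_mul, hσmem] at h; exact hout i j h
    have hzero : ∑ i : E ⧸ Z, φ (π i.out⁻¹ (π (1 : E ⧸ Z).out s0)) • π (σ i.out) = 0 := by
      refine LinearMap.ext fun w => ?_
      have := LinearMap.congr_fun (hcon (φ.smulRight w)) (π (1 : E ⧸ Z).out s0)
      simp only [g, LinearMap.coe_sum, Finset.sum_apply, Module.End.mul_apply, LinearMap.smulRight_apply,
        map_smul, LinearMap.zero_apply] at this
      simpa [LinearMap.coe_sum, Finset.sum_apply] using this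
    have := Fintype.linearIndependent_iff.mp hli _ hzero 1
    rw [rep_inv_apply] at this
    exact hφ this
  set u0 := g f0 with hu0
  have hu0π : ∀ e, u0 * π e = π (σ e) * u0 := by
    intro e
    suffices h : π (σ e) * u0 * π e⁻¹ = u0 by
      conv_lhs => rw [← h]
      rw [mul_assoc, ← map_mul, inv_mul_cancel, map_one, mul_one]
    have hcoset : ∀ z ∈ Z, ∀ a : E, π (σ (a * z)) * f0 * π (a * z)⁻¹ = π (σ a) * f0 * π a⁻¹ := by
      intro z hz a
      rw [map_mul σ, map_mul π, hσZ z hz, mul_inv_rev, map_mul π]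
      refine LinearMap.ext fun s => ?_
      simp only [Module.End.mul_apply, hlam z hz, hlam _ (inv_mem hz), map_smul, smul_smul,
        (center_char_mul π lam hlam hz).2, inv_mul_cancel₀ (center_char_mul π lam hlam hz).1, one_smul]
    simp only [hu0, g, Finset.mul_sum, Finset.sum_mul]
    refine Fintype.sum_equiv (Equiv.mulLeft ((e : E) : E ⧸ Z)) _ _ fun i => ?_
    set j := (Equiv.mulLeft ((e : E) : E ⧸ Z)) i with hj
    have hz : j.out⁻¹ * (e * i.out) ∈ Z := by
      refine QuotientGroup.eq.mp ?_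
      rw [QuotientGroup.out_eq', hj, Equiv.coe_mulLeft, QuotientGroup.mk_mul, QuotientGroup.out_eq']
    set z := j.out⁻¹ * (e * i.out) with hzd
    have e1 : π (σ e) * (π (σ i.out) * f0 * π i.out⁻¹) * π e⁻¹ =
        π (σ (j.out * z)) * f0 * π (j.out * z)⁻¹ := by
      rw [hzd, mul_inv_cancel_left, map_mul σ, map_mul π, mul_inv_rev, map_mul π]
      simp only [mul_assoc]
    exact e1.trans (hcoset z hz j.out)
  have hu0inj : Function.Injective u0 := by
    rw [← LinearMap.ker_eq_bot]
    refine (hirr _ fun e s hs => ?_).resolve_right fun h => hf0 (LinearMap.ker_eq_top.mp h)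
    rw [LinearMap.mem_ker] at hs ⊢
    rw [← Module.End.mul_apply, hu0π, Module.End.mul_apply, hs, map_zero]
  have hu0k : ∀ k : ℕ, ∀ e, u0 ^ k * π e = π ((σ ^ k) e) * u0 ^ k := by
    intro k
    induction k with
    | zero => intro e; simp
    | succ k ih =>
      intro e
      rw [pow_succ, mul_assoc, hu0π, ← mul_assoc, ih, mul_assoc, pow_succ σ, MulAut.mul_apply]
  obtain ⟨μ, hμ⟩ := Module.End.exists_eigenvalue (u0 ^ q)
  have hμall : ∀ s, (u0 ^ q) s = μ • s := by
    have hev : Module.End.eigenspace (u0 ^ q) μ = ⊤ := by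
      refine (hirr _ fun e s hs => ?_).resolve_left hμ
      rw [Module.End.mem_eigenspace_iff] at hs ⊢
      rw [← Module.End.mul_apply, hu0k, hσq, MulAut.one_apply, Module.End.mul_apply, hs, map_smul]
    intro s
    exact Module.End.mem_eigenspace_iff.mp (hev ▸ Submodule.mem_top)
  have hμ0 : μ ≠ 0 := by
    rintro rfl
    obtain ⟨s0, hs0⟩ := exists_ne (0 : S)
    refine hs0 ?_
    have hinj : Function.Injective (u0 ^ q) := by
      rw [Module.End.coe_pow]; exact hu0inj.iterate q
    exact hinj (by rw [hμall, zero_smul, map_zero])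
  obtain ⟨ν, hν⟩ := IsAlgClosed.exists_pow_nat_eq μ hq.pos
  have hν0 : ν ≠ 0 := by rintro rfl; exact hμ0 (by rw [← hν, zero_pow hq.ne_zero])
  set u := ν⁻¹ • u0 with hu
  have huq : u ^ q = 1 := by
    refine LinearMap.ext fun s => ?_
    rw [hu, smul_pow, LinearMap.smul_apply, hμall, smul_smul, inv_pow, hν, inv_mul_cancel₀ hμ0, one_smul,
      Module.End.one_apply]
  have huπ : ∀ e, u * π e = π (σ e) * u := fun e => by rw [hu, smul_mul_assoc, hu0π, mul_smul_comm]
  have huq' : u * u ^ (q - 1) = 1 := by rw [← pow_succ', Nat.sub_add_cancel hq.pos, huq]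
  -- the fixed points of conjugation by `u`
  have hξ : ∃ ζ : K, IsPrimitiveRoot ζ q := by
    have : NeZero (q : K) := ⟨hqK⟩
    exact HasEnoughRootsOfUnity.exists_primitiveRoot K q
  obtain ⟨ζ, hζ⟩ := hξ
  have hζpow : ∀ i, (ζ ^ i) ^ q = 1 := fun i => by rw [← pow_mul, mul_comm, pow_mul, hζ.pow_eq_one, one_pow]
  let Fu : Submodule K (End K S) :=
    LinearMap.ker (LinearMap.mulLeft K u - LinearMap.mulRight K u)
  have hFu : ∀ f, f ∈ Fu ↔ u * f = f * u := fun f => by simp [Fu, sub_eq_zero]
  let St : Fin q → Submodule K S := fun t => Module.End.eigenspace u (ζ ^ (t : ℕ))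
  have hproj : ∀ (t : Fin q) (s : S), eigenProj u q (ζ ^ (t : ℕ)) s ∈ St t := fun t s =>
    Module.End.mem_eigenspace_iff.mpr (apply_eigenProj hq.ne_zero huq (hζpow t) s)
  by_cases hall : ∀ t, St t ≠ ⊥
  · -- every eigenvalue occurs, hence a fixed point in `V`
    exfalso
    let H : Submodule K (S →ₗ[K] V) :=
      { carrier := {h | ∀ e s, h (π e s) = ρ e (h s)}
        zero_mem' := fun e s => by simp
        add_mem' := fun {a b} ha hb e s => by simp [ha e s, hb e s]
        smul_mem' := fun c a ha e s => by simp [ha e s] }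
    let uinv := u ^ (q - 1)
    have huiπ : ∀ e, uinv * π (σ e) = π e * uinv := by
      intro e
      have huq2 : uinv * u = 1 := by rw [← pow_succ, Nat.sub_add_cancel hq.pos, huq]
      calc uinv * π (σ e) = uinv * (π (σ e) * u) * uinv := by
            rw [← mul_assoc, mul_assoc (uinv * π (σ e)), huq', mul_one]
        _ = uinv * (u * π e) * uinv := by rw [huπ]
        _ = π e * uinv := by rw [← mul_assoc, huq2, one_mul]
    have hΦ : ∀ h ∈ H, x.comp (h.comp uinv) ∈ H := by
      intro h hh e s
      obtain ⟨e', rfl⟩ := σ.surjective e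
      show x (h (uinv (π (σ e') s))) = ρ (σ e') (x (h (uinv s)))
      rw [← Module.End.mul_apply uinv, huiπ, Module.End.mul_apply, hh, ← Module.End.mul_apply x, hxρ,
        Module.End.mul_apply]
    let Φ : End K H :=
      { toFun := fun h => ⟨x.comp ((h : S →ₗ[K] V).comp uinv), hΦ h h.2⟩
        map_add' := fun a b => Subtype.ext (LinearMap.ext fun s => by simp)
        map_smul' := fun c a => Subtype.ext (LinearMap.ext fun s => by simp) }
    have hι : S.subtype ∈ H := fun e s => rfl
    have : Nontrivial H := ⟨⟨⟨S.subtype, hι⟩, 0, fun h => hv0 (congrArg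
      (fun T : H => (T : S →ₗ[K] V) ⟨v0, hv0S⟩) h)⟩⟩
    have hΦk : ∀ (k : ℕ) (h : H) (s : S), ((Φ ^ k) h : S →ₗ[K] V) s =
        (x ^ k) ((h : S →ₗ[K] V) ((uinv ^ k) s)) := by
      intro k
      induction k with
      | zero => intro h s; simp
      | succ k ih =>
        intro h s
        rw [pow_succ', Module.End.mul_apply]
        show x (((Φ ^ k) h : S →ₗ[K] V) (uinv s)) = _
        rw [ih, pow_succ' x, Module.End.mul_apply, pow_succ uinv, Module.End.mul_apply]
    obtain ⟨μ', hμ'⟩ := Module.End.exists_eigenvalue Φ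
    obtain ⟨⟨h, hh⟩, hhe, hh0⟩ := (Submodule.ne_bot_iff _).mp hμ'
    rw [Module.End.mem_eigenspace_iff] at hhe
    have hΦeig : ∀ k : ℕ, (Φ ^ k) ⟨h, hh⟩ = μ' ^ k • (⟨h, hh⟩ : H) := fun k => by
      induction k with
      | zero => simp
      | succ k ih => rw [pow_succ, Module.End.mul_apply, hhe, map_smul, ih, smul_smul, pow_succ']
    have hμq : μ' ^ q = 1 := by
      have hz : (μ' ^ q - 1) • h = 0 := by
        rw [sub_smul, one_smul, sub_eq_zero]
        refine LinearMap.ext fun s => ?_
        rw [← show ((μ' ^ q • (⟨h, hh⟩ : H) : H) : S →ₗ[K] V) = μ' ^ q • h from rfl, ← hΦeig]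
        show ((Φ ^ q) ⟨h, hh⟩ : S →ₗ[K] V) s = h s
        rw [hΦk, hx, Module.End.one_apply, show uinv ^ q = 1 by rw [← pow_mul, mul_comm, pow_mul, huq, one_pow],
          Module.End.one_apply]
      exact sub_eq_zero.mp ((smul_eq_zero.mp hz).resolve_right fun h0 => hh0 (Subtype.ext h0))
    have hμ'0 : μ' ≠ 0 := by rintro rfl; rw [zero_pow hq.ne_zero] at hμq; exact zero_ne_one hμq
    have hinv : μ'⁻¹ ^ q = 1 := by rw [inv_pow, hμq, inv_one]
    obtain ⟨i, hiq, hi⟩ := hζ.eq_pow_of_pow_eq_one hinv
    obtain ⟨s, hs, hs0⟩ := (Submodule.ne_bot_iff _).mp (hall ⟨i, hiq⟩)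
    rw [Module.End.mem_eigenspace_iff] at hs
    change u s = ζ ^ i • s at hs
    rw [hi] at hs
    have hinj : Function.Injective h := by
      rw [← LinearMap.ker_eq_bot]
      refine (hirr _ fun e s' hs' => ?_).resolve_right fun hk => hh0 (Subtype.ext (LinearMap.ker_eq_top.mp hk))
      rw [LinearMap.mem_ker] at hs' ⊢
      rw [hh, hs', map_zero]
    have hus : uinv s = μ' • s := by
      have e1 : uinv (u s) = s := by
        rw [← Module.End.mul_apply, ← pow_succ, Nat.sub_add_cancel hq.pos, huq, Module.End.one_apply]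
      rw [hs, map_smul] at e1
      calc uinv s = μ' • μ'⁻¹ • uinv s := by rw [smul_smul, mul_inv_cancel₀ hμ'0, one_smul]
        _ = μ' • s := by rw [e1]
    have hfix := congrArg (fun T : H => (T : S →ₗ[K] V) s) hhe
    change x (h (uinv s)) = μ' • h s at hfix
    rw [hus, map_smul, map_smul] at hfix
    have h6 := smul_right_injective V hμ'0 hfix
    exact hs0 (hinj (by rw [hfpf _ h6, map_zero]))
  -- otherwise count
  push Not at hall
  obtain ⟨t0, ht0⟩ := hall
  have hsum : d ≤ ∑ t : Fin q, finrank K (St t) := by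
    let L : (∀ t, St t) →ₗ[K] S := ∑ t, (St t).subtype.comp (LinearMap.proj t)
    have hL : Function.Surjective L := fun s => by
      refine ⟨fun t => ⟨eigenProj u q (ζ ^ (t : ℕ)) s, hproj t s⟩, ?_⟩
      simp only [L, LinearMap.coe_sum, Finset.sum_apply, LinearMap.comp_apply, LinearMap.proj_apply,
        Submodule.subtype_apply]
      rw [Fin.sum_univ_eq_sum_range (fun t => eigenProj u q (ζ ^ t) s)]
      have := LinearMap.congr_fun (sum_eigenProj (u := u) hqK hζ) s
      simpa [LinearMap.coe_sum] using this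
    have := LinearMap.finrank_le_finrank_of_surjective (f := L) hL
    rwa [Module.finrank_pi_fintype] at this
  have hblocks : ∑ t : Fin q, finrank K (St t) * finrank K (St t) ≤ finrank K Fu := by
    let pr : ∀ t, S →ₗ[K] St t := fun t => (eigenProj u q (ζ ^ (t : ℕ))).codRestrict (St t) (hproj t)
    let Λ : (∀ t, End K (St t)) →ₗ[K] End K S :=
      { toFun := fun f => ∑ t, (St t).subtype.comp ((f t).comp (pr t))
        map_add' := fun f f' => by simp [LinearMap.add_comp, LinearMap.comp_add, Finset.sum_add_distrib]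
        map_smul' := fun c f => by simp [LinearMap.smul_comp, LinearMap.comp_smul, Finset.smul_sum] }
    have hprs : ∀ (t t' : Fin q) (s : St t'), (pr t (s : S) : S) = if t' = t then (s : S) else 0 := by
      intro t t' s
      show eigenProj u q (ζ ^ (t : ℕ)) (s : S) = _
      rw [eigenProj_apply_eigen hqK (hζpow t) (hζpow t') (Module.End.mem_eigenspace_iff.mp s.2)]
      refine if_congr ⟨fun e => Fin.ext (hζ.pow_inj t'.2 t.2 e), fun e => by rw [e]⟩ rfl rfl
    have hΛs : ∀ f (t : Fin q) (s : St t), Λ f (s : S) = (f t s : S) := by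
      intro f t s
      show (∑ t', (St t').subtype.comp ((f t').comp (pr t'))) (s : S) = _
      rw [LinearMap.coe_sum, Finset.sum_apply, Finset.sum_eq_single t]
      · show ((f t (pr t s) : St t) : S) = _
        rw [show pr t s = s from Subtype.ext ((hprs t t s).trans (if_pos rfl))]
      · intro t' _ hne
        show ((f t' (pr t' s) : St t') : S) = 0
        rw [show pr t' s = 0 from Subtype.ext ((hprs t' t s).trans (if_neg fun e => hne e.symm)), map_zero,
          ZeroMemClass.coe_zero]
      · exact fun h => absurd (Finset.mem_univ t) h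
    have hΛmem : ∀ f, Λ f ∈ Fu := fun f => (hFu _).mpr (LinearMap.ext fun s => by
      simp only [Module.End.mul_apply]
      show u ((∑ t', (St t').subtype.comp ((f t').comp (pr t'))) s) =
        (∑ t', (St t').subtype.comp ((f t').comp (pr t'))) (u s)
      simp only [LinearMap.coe_sum, Finset.sum_apply, map_sum]
      refine Finset.sum_congr rfl fun t _ => ?_
      simp only [LinearMap.comp_apply, Submodule.subtype_apply]
      rw [Module.End.mem_eigenspace_iff.mp (f t (pr t s)).2]
      have : pr t (u s) = ζ ^ (t : ℕ) • pr t s := Subtype.ext (by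
        show eigenProj u q (ζ ^ (t : ℕ)) (u s) = ζ ^ (t : ℕ) • eigenProj u q (ζ ^ (t : ℕ)) s
        rw [← apply_eigenProj hq.ne_zero huq (hζpow t), ← Module.End.mul_apply, ← Module.End.mul_apply]
        congr 1
        simp only [eigenProj, Finset.mul_sum, Finset.sum_mul, mul_smul_comm, smul_mul_assoc, ← pow_succ,
          ← pow_succ'])
      rw [this, map_smul, Submodule.coe_smul])
    have hinj : Function.Injective (Λ.codRestrict Fu hΛmem) := by
      intro f f' h
      funext t
      refine LinearMap.ext fun s => Subtype.ext ?_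
      rw [← hΛs, ← hΛs]
      exact congrArg (fun T : Fu => (T : End K S) s) h
    have := LinearMap.finrank_le_finrank_of_injective hinj
    rw [Module.finrank_pi_fintype] at this
    simpa [Module.finrank_linearMap] using this
  -- orbits of `σ` on the cosets of the centre
  let τ : Equiv.Perm (E ⧸ Z) := (QuotientGroup.congr Z Z σ (by
    ext z; simp only [Subgroup.mem_map]
    exact ⟨fun ⟨y, hy, e⟩ => e ▸ (hσmem y).mpr hy,
      fun hz => ⟨z, hz, hσZ z hz⟩⟩)).toEquiv
  have hτmk : ∀ e : E, τ (e : E ⧸ Z) = ((σ e : E) : E ⧸ Z) := fun e => rfl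
  have hτk : ∀ (k : ℕ) (e : E), (τ ^ k) (e : E ⧸ Z) = (((σ ^ k) e : E) : E ⧸ Z) := by
    intro k
    induction k with
    | zero => intro e; simp
    | succ k ih => intro e; rw [pow_succ', Equiv.Perm.mul_apply, ih, hτmk, pow_succ' σ, MulAut.mul_apply]
  have hτq : τ ^ q = 1 := Equiv.ext fun i => by
    induction i using QuotientGroup.induction_on with
    | _ e => rw [hτk, hσq, MulAut.one_apply, Equiv.Perm.one_apply]
  have hτfix : ∀ i, τ i = i → i = 1 := fun i hi => by
    induction i using QuotientGroup.induction_on with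
    | _ e =>
      rw [hτmk] at hi
      rw [QuotientGroup.eq_one_iff]
      refine hσfix e ?_
      have : (((σ e : E) : E ⧸ Z)) * (((e : E) : E ⧸ Z))⁻¹ = 1 := by rw [hi, mul_inv_cancel]
      rw [← QuotientGroup.eq_one_iff, QuotientGroup.mk_mul, QuotientGroup.mk_inv]
      exact this
  let O := MulAction.orbitRel.Quotient (Subgroup.zpowers τ) (E ⧸ Z)
  have := Fintype.ofFinite O
  have hτne : orderOf τ = q := by
    refine orderOf_eq_prime hτq fun h => hna ?_
    rw [Subgroup.eq_top_iff']
    intro e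
    rw [← QuotientGroup.eq_one_iff]
    exact hτfix _ (by rw [h]; rfl)
  have hsize : ∀ i : E ⧸ Z, i ≠ 1 → Nat.card (MulAction.orbit (Subgroup.zpowers τ) i) = q := by
    intro i hi
    have hdvd : Nat.card (MulAction.orbit (Subgroup.zpowers τ) i) ∣ q := by
      rw [Nat.card_congr (MulAction.orbitEquivQuotientStabilizer (Subgroup.zpowers τ) i),
        ← Subgroup.index_eq_card]
      exact (Subgroup.index_dvd_card _).trans (by rw [Nat.card_zpowers, hτne])
    refine (hq.eq_one_or_self_of_dvd _ hdvd).resolve_left fun h1 => hi (hτfix i ?_)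
    obtain ⟨hs, -⟩ := Nat.card_eq_one_iff_unique.mp h1
    exact congrArg Subtype.val (hs.elim
      ⟨τ i, ⟨⟨τ, Subgroup.mem_zpowers τ⟩, rfl⟩⟩ ⟨i, MulAction.mem_orbit_self i⟩)
  have hone : Nat.card (MulAction.orbit (Subgroup.zpowers τ) (1 : E ⧸ Z)) = 1 := by
    have hfix1 : τ (1 : E ⧸ Z) = 1 := (hτmk 1).trans (by rw [map_one]; rfl)
    rw [Nat.card_eq_one_iff_unique]
    refine ⟨⟨fun a b => Subtype.ext ?_⟩, ⟨⟨1, MulAction.mem_orbit_self _⟩⟩⟩
    have : ∀ a : MulAction.orbit (Subgroup.zpowers τ) (1 : E ⧸ Z), (a : E ⧸ Z) = 1 := by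
      rintro ⟨a, ⟨⟨t, ht⟩, rfl⟩⟩
      obtain ⟨k, rfl⟩ := Subgroup.mem_zpowers_iff.mp ht
      exact Equiv.Perm.zpow_apply_eq_self_of_apply_eq_self hfix1 k
    rw [this a, this b]
  have hcount : d * d + (q - 1) = q * Fintype.card O := by
    have h1 := Nat.card_congr (MulAction.selfEquivSigmaOrbits (Subgroup.zpowers τ) (E ⧸ Z))
    rw [Nat.card_eq_fintype_card, hdd, Nat.card_sigma] at h1
    let o1 : O := Quotient.mk'' (1 : E ⧸ Z)
    have hrest : ∀ o ∈ (Finset.univ : Finset O).erase o1,
        Nat.card (MulAction.orbit (Subgroup.zpowers τ) o.out) = q := fun o ho => hsize o.out fun h => by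
      refine (Finset.mem_erase.mp ho).1 ?_
      rw [← Quotient.out_eq o, h]
    have ho1 : Nat.card (MulAction.orbit (Subgroup.zpowers τ) o1.out) = 1 := by
      rw [show MulAction.orbit (Subgroup.zpowers τ) o1.out = MulAction.orbit (Subgroup.zpowers τ) (1 : E ⧸ Z) from
        MulAction.orbit_eq_iff.mpr (MulAction.orbitRel_apply.mp (Quotient.mk_out (s := MulAction.orbitRel _ _) (1 : E ⧸ Z)))]
      exact hone
    rw [← Finset.add_sum_erase _ _ (Finset.mem_univ o1), ho1, Finset.sum_congr rfl hrest,
      Finset.sum_const, Finset.card_erase_of_mem (Finset.mem_univ o1), Finset.card_univ, smul_eq_mul] at h1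
    have hpos : 0 < Fintype.card O := Fintype.card_pos_iff.mpr ⟨o1⟩
    have := hq.pos
    rw [h1]
    obtain ⟨m, hm⟩ : ∃ m, Fintype.card O = m + 1 := ⟨_, (Nat.sub_add_cancel hpos).symm⟩
    rw [hm, Nat.add_sub_cancel]
    nth_rw 3 [show q = (q - 1) + 1 by omega]
    nth_rw 1 [show q = (q - 1) + 1 by omega]
    ring
  have hFle : finrank K Fu ≤ Fintype.card O := by
    let ev : Fu →ₗ[K] (O → K) :=
      { toFun := fun f o => b.repr (f : End K S) o.out
        map_add' := fun f f' => by funext o; simp
        map_smul' := fun c f => by funext o; simp }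
    have hinj : Function.Injective ev := by
      rw [injective_iff_map_eq_zero]
      intro f hf
      refine Subtype.ext (b.repr.injective (Finsupp.ext fun i => ?_))
      rw [ZeroMemClass.coe_zero, map_zero, Finsupp.zero_apply]
      obtain ⟨t, ht⟩ := Quotient.mk_out (s := MulAction.orbitRel (Subgroup.zpowers τ) (E ⧸ Z)) i
      -- coefficients along an orbit are proportional
      have hstep : ∀ j, b.repr (f : End K S) j = 0 → b.repr (f : End K S) (τ j) = 0 := by
        intro j hj
        have hfu := (hFu _).mp f.2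
        have hexp : (f : End K S) = ∑ k, b.repr (f : End K S) k • b k := (b.sum_repr _).symm
        have hub : ∀ k, ∃ c : K, u * b k = c • (b (τ k) * u) := by
          intro k
          rw [hb, hb, huπ]
          have hz : (τ k).out⁻¹ * σ k.out ∈ Z := by
            refine QuotientGroup.eq.mp ?_
            rw [QuotientGroup.out_eq']
            conv_lhs => rw [← QuotientGroup.out_eq' k]
            exact hτmk _
          refine ⟨lam ((τ k).out⁻¹ * σ k.out), LinearMap.ext fun s => ?_⟩
          simp only [Module.End.mul_apply, LinearMap.smul_apply]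
          rw [← map_smul, ← hlam _ hz]
          conv_rhs => rw [← Module.End.mul_apply, ← map_mul, mul_inv_cancel_left]
        choose cc hcc using hub
        have h2 : u * (f : End K S) = (∑ k, (b.repr (f : End K S) k * cc k) • b (τ k)) * u := by
          conv_lhs => rw [hexp]
          simp only [Finset.mul_sum, Finset.sum_mul, mul_smul_comm, smul_mul_assoc, hcc, smul_smul]
        rw [hfu] at h2
        have h3 := congrArg (fun T => T * u ^ (q - 1)) h2
        simp only [mul_assoc, huq', mul_one] at h3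
        rw [h3, map_sum, Finsupp.finsetSum_apply]
        simp only [map_smul, Basis.repr_self, Finsupp.smul_single, smul_eq_mul, mul_one, Finsupp.single_apply]
        rw [Finset.sum_eq_single j]
        · rw [if_pos rfl, hj, zero_mul]
        · intro k _ hk
          rw [if_neg fun e => hk (τ.injective e)]
        · exact fun h => absurd (Finset.mem_univ j) h
      have h0 := congrFun hf (Quotient.mk'' i)
      change b.repr (f : End K S) (Quotient.mk'' i : O).out = 0 at h0
      have hpow : ∀ (k : ℕ) j, b.repr (f : End K S) j = 0 → b.repr (f : End K S) ((τ ^ k) j) = 0 := by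
        intro k
        induction k with
        | zero => intro j hj; simpa using hj
        | succ k ih => intro j hj; rw [pow_succ', Equiv.Perm.mul_apply]; exact hstep _ (ih j hj)
      obtain ⟨k, hk⟩ := (isOfFinOrder_of_finite τ).mem_zpowers_iff_mem_range_orderOf.mp (inv_mem t.2) |> fun h =>
        (Finset.mem_image.mp h).imp fun k h => h.2
      have := hpow k _ h0
      rw [hk] at this
      change b.repr (f : End K S) ((t⁻¹ : Subgroup.zpowers τ) • (Quotient.mk'' i : O).out) = 0 at this
      rwa [show (Quotient.mk'' i : O).out = t • i from ht.symm, inv_smul_smul] at this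
    have := LinearMap.finrank_le_finrank_of_injective hinj
    rwa [Module.finrank_fintype_fun_eq_card] at this
  have hcs : d * d ≤ (q - 1) * ∑ t : Fin q, finrank K (St t) * finrank K (St t) := by
    have h1 : ∑ t ∈ (Finset.univ : Finset (Fin q)).erase t0, finrank K (St t) = ∑ t, finrank K (St t) :=
      Finset.sum_erase _ (by rw [ht0, finrank_bot])
    have h2 := sq_sum_le_card_mul_sum_sq (s := (Finset.univ : Finset (Fin q)).erase t0)
      (f := fun t => finrank K (St t))
    rw [h1, Finset.card_erase_of_mem (Finset.mem_univ _), Finset.card_univ, Fintype.card_fin] at h2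
    calc d * d ≤ (∑ t, finrank K (St t)) ^ 2 := by rw [pow_two]; exact Nat.mul_le_mul hsum hsum
      _ ≤ (q - 1) * ∑ t ∈ (Finset.univ : Finset (Fin q)).erase t0, finrank K (St t) ^ 2 := h2
      _ ≤ _ := by
        refine Nat.mul_le_mul_left _ ?_
        simp only [pow_two]
        exact Finset.sum_le_sum_of_subset (Finset.erase_subset _ _)
  have hfin : q * (d * d) ≤ (q - 1) * (q - 1) + (q - 1) * (d * d) := by
    calc q * (d * d) ≤ q * ((q - 1) * Fintype.card O) :=
          Nat.mul_le_mul_left q (hcs.trans (Nat.mul_le_mul_left _ (hblocks.trans hFle)))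
      _ = (q - 1) * (q * Fintype.card O) := by ring
      _ = (q - 1) * (q - 1) + (q - 1) * (d * d) := by rw [← hcount]; ring
  have hd1 : 1 < d := by
    by_contra h
    apply hna
    rw [← Subgroup.index_eq_one, Subgroup.index_eq_card, Nat.card_eq_fintype_card, hdd,
      show d = 1 by omega]
  have hmod : q ∣ d ^ 2 - 1 := by
    refine ⟨Fintype.card O - 1, ?_⟩
    rw [pow_two, Nat.mul_sub_one, ← hcount]
    have := hq.pos
    omega
  rw [← pow_two] at hfin
  rw [Subgroup.index_eq_card, Nat.card_eq_fintype_card, hdd, ← eq_sub_one_of_sq_mul_le hq hd1 hmod hfin,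
    pow_two]

end Main

end Cfsg.Agent.FittingPQ
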