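import Cfsg.Agent.FittingPQ.Class2
import Cfsg.Agent.Core.Fitting

/-!
A nonabelian group of order `p q` acting on a solvable group without fixed points forces Fitting
height at most two.

* `Cfg.centralizes` : in a configuration `T` centralises `R`.
* `exists_bad_of_not_isNilpotent` : a criterion for nilpotency of a solvable group.
* `fitting_two` : the theorem, inside a group.
-/

set_option autoImplicit false

namespace Cfsg.Agent.FittingPQ

open Subgroup
open scoped commutatorElement Pointwise

universe u

variable {Γ : Type u} [Group Γ] [Finite Γ]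

theorem Cfg.centralizes {c b : Γ} {q p k l s : ℕ} {V : Subgroup Γ} :
    ∀ (n : ℕ) (R T : Subgroup Γ), Cfg c b q p k l s V R T → Nat.card R + Nat.card T ≤ n →
      T ≤ centralizer (R : Set Γ) := by
  intro n
  induction n with
  | zero => intro R T _ h; have := Nat.card_pos (α := R); omega
  | succ n ih =>
    intro R T h hn
    by_contra hnc
    have mkR : ∀ R' : Subgroup Γ, R' ≤ R → R' ≠ R → grp c b ≤ normalizer (R' : Set Γ) →
        T ≤ normalizer (R' : Set Γ) → T ≤ centralizer (R' : Set Γ) := by
      intro R' hle hne hA hT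
      refine ih R' T
        { pair := h.pair, hl := h.hl, hs := h.hs, ls := h.ls, lp := h.lp, lq := h.lq, sp := h.sp,
          sq := h.sq, commV := h.commV, notDvd := h.notDvd, qV := h.qV, pV := h.pV,
          hR := h.hR.to_le hle, hT := h.hT, AV := h.AV, AR := hA, AT := h.AT, RV := hle.trans h.RV,
          TV := h.TV, TR := hT, fV := h.fV,
          fR := le_bot_iff.mp ((inf_le_inf_right _ (inf_le_inf_right _ hle)).trans h.fR.le),
          fT := h.fT,
          faithful := le_bot_iff.mp ((inf_le_inf_right _ hle).trans h.faithful.le) } ?_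
      have := Core.card_lt_of_lt (lt_of_le_of_ne hle hne)
      omega
    have hTR := h.TR
    have hle : ⁅R, T⁆ ≤ R := Coprime.commutator_le_of_le_normalizer hTR
    have hcomm : ⁅R, T⁆ = R := by
      by_contra hne
      refine hnc ?_
      have h1 := mkR _ hle hne (FixedPointFree.le_normalizer_commutator' h.AR h.AT)
        (normalizer_commutator_ge_right R T)
      have h2 : ⁅⁅R, T⁆, T⁆ = ⊥ :=
        commutator_eq_bot_iff_le_centralizer.mpr (Subgroup.le_centralizer_iff.mp h1)
      rw [Coprime.commutator_commutator_eq hTR h.coprime_TR (Or.inl h.isSolvable_T)] at h2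
      exact Subgroup.le_centralizer_iff.mp (commutator_eq_bot_iff_le_centralizer.mp h2)
    have hmin : MinCfg c b q p k l s V R T :=
      { cfg := h, comm := hcomm, minR := mkR, nc := hnc
        minT := fun T' hle hne hA => by
          refine ih R T'
            { pair := h.pair, hl := h.hl, hs := h.hs, ls := h.ls, lp := h.lp, lq := h.lq, sp := h.sp,
              sq := h.sq, commV := h.commV, notDvd := h.notDvd, qV := h.qV, pV := h.pV,
              hR := h.hR, hT := h.hT.to_le hle, AV := h.AV, AR := h.AR, AT := hA, RV := h.RV,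
              TV := hle.trans h.TV, TR := hle.trans h.TR, fV := h.fV, fR := h.fR,
              fT := le_bot_iff.mp ((inf_le_inf_right _ (inf_le_inf_right _ hle)).trans h.fT.le),
              faithful := h.faithful } ?_
          have := Core.card_lt_of_lt (lt_of_le_of_ne hle hne)
          omega }
    by_cases hab : IsMulCommutative R
    · exact hmin.false_of_abelian hab
    · exact hmin.false_of_nonabelian hab

/-- A solvable group which is not nilpotent has an `s`-element not centralising some `O_l`, `l ≠ s`. -/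
theorem exists_bad_of_not_isNilpotent {Q : Type u} [Group Q] [Finite Q] [Group.IsSolvable Q]
    (h : ¬ Group.IsNilpotent Q) :
    ∃ l s : ℕ, l.Prime ∧ s.Prime ∧ s ≠ l ∧
      ∃ x : Q, (∃ i, x ^ s ^ i = 1) ∧ x ∉ centralizer (pCore l Q : Set Q) := by
  by_contra! hgood
  apply h
  set F := fittingSubgroup Q with hF
  have hmemC : ∀ y : Q, (∀ t : ℕ, t.Prime → y ∈ centralizer (pCore t Q : Set Q)) → y ∈ F := by
    intro y hy
    refine Core.centralizer_fittingSubgroup_le (mem_centralizer_iff.mpr fun a ha => ?_)
    have hle : F ≤ centralizer {y} := by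
      rw [hF, Core.fittingSubgroup_eq_iSup_pCore]
      exact iSup_le fun t a ha => mem_centralizer_singleton_iff.mpr
        (mem_centralizer_iff.mp (hy t t.2) a ha)
    exact mem_centralizer_singleton_iff.mp (hle ha)
  have hall : ∀ s : ℕ, s.Prime → ∀ x : Q, (∃ i, x ^ s ^ i = 1) → x ∈ F := by
    intro s hs x hx
    have := Fact.mk hs
    set Ks : Subgroup Q := ⨅ t : {t : ℕ // t.Prime ∧ t ≠ s}, centralizer (pCore (t : ℕ) Q : Set Q)
      with hKs
    have : Ks.Normal := normal_iInf_normal fun _ => inferInstance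
    have hxK : x ∈ Ks := mem_iInf.mpr fun t => hgood t s t.2.1 hs t.2.2.symm x hx
    have hnil : Group.IsNilpotent Ks := by
      have hcen : ∀ t : ℕ, t.Prime → t ≠ s → ¬ t ∣ (center Ks).index := by
        intro t ht hts hdvd
        have := Fact.mk ht
        obtain ⟨P⟩ := (inferInstance : Nonempty (Sylow t Ks))
        refine P.not_dvd_index (hdvd.trans (index_dvd_of_le fun y hy => ?_))
        obtain ⟨i, hi⟩ := P.isPGroup' ⟨y, hy⟩
        have hy' : (y : Q) ^ t ^ i = 1 :=
          congrArg (fun a : (P : Subgroup Ks) => ((a : Ks) : Q)) hi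
        have hyF : (y : Q) ∈ F := hmemC _ fun t' ht' => by
          by_cases he : t' = t
          · exact mem_iInf.mp y.2 ⟨t', ht', by rw [he]; exact hts⟩
          · exact hgood t' t ht' ht (fun e => he e.symm) _ ⟨i, hy'⟩
        have hyt : (y : Q) ∈ pCore t Q := by
          obtain ⟨P', hP'⟩ := (IsPGroup.of_pow (p := t) (FixedPointFree.isPGroup_zpowers (p := t ^ i)
            (c := (⟨y, hyF⟩ : F)) (Subtype.ext (by simpa using hy')))).exists_le_sylow
          have hnorm : (P' : Subgroup F).Normal := inferInstance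
          have h1 : (P' : Subgroup F).map F.subtype ≤ pCore t Q := by
            rw [show (P' : Subgroup F) = pCore t F from
              le_antisymm (Core.le_pCore P'.isPGroup') (Core.pCore_le_sylow P'), Core.map_pCore_normal]
            exact inf_le_left
          exact h1 (mem_map_of_mem F.subtype (hP' (mem_zpowers _)))
        exact mem_center_iff.mpr fun g => Subtype.ext
          (mem_centralizer_iff.mp (mem_iInf.mp g.2 ⟨t, ht, hts⟩) (y : Q) hyt).symm
      have hne0 : (center Ks).index ≠ 0 := Subgroup.index_ne_zero_of_finite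
      have hcard : Nat.card (Ks ⧸ center Ks) = s ^ ((center Ks).index.primeFactorsList.length) := by
        rw [← index_eq_card]
        exact Nat.eq_prime_pow_of_unique_prime_dvd hne0 fun {t} ht hdvd => by
          by_contra hts
          exact hcen t ht hts hdvd
      exact Group.of_quotient_center_nilpotent (IsPGroup.of_card hcard).isNilpotent
    exact Core.le_fittingSubgroup hnil hxK
  have htop : F = ⊤ := by
    by_contra hne
    obtain ⟨t, ht, hdvd⟩ := Nat.exists_prime_and_dvd (mt index_eq_one.mp hne)
    have := Fact.mk ht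
    obtain ⟨P⟩ := (inferInstance : Nonempty (Sylow t Q))
    refine P.not_dvd_index (hdvd.trans (index_dvd_of_le fun y hy => hall t ht y ?_))
    obtain ⟨i, hi⟩ := P.isPGroup' ⟨y, hy⟩
    exact ⟨i, congrArg (fun a : (P : Subgroup Q) => (a : Q)) hi⟩
  rw [hF] at htop
  have h1 := Core.fittingSubgroup_isNilpotent (G := Q)
  rw [htop] at h1
  exact Group.isNilpotent_top.mp h1

omit [Finite Γ] in
theorem normal_map_characteristic {H : Subgroup Γ} [H.Normal] (K : Subgroup H) [hK : K.Characteristic] :
    (K.map H.subtype).Normal := by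
  refine ⟨fun x hx g => ?_⟩
  obtain ⟨y, hy, rfl⟩ := hx
  have hg : g ∈ normalizer (H : Set Γ) := le_normalizer_of_normal (mem_top g)
  exact ⟨H.normalizerMonoidHom ⟨g, hg⟩ y,
    (Subgroup.characteristic_iff_map_eq.mp hK (H.normalizerMonoidHom ⟨g, hg⟩)).le
      (mem_map_of_mem _ hy), rfl⟩

/-- **Fitting height two**, inside a group. -/
theorem fitting_two (G : Subgroup Γ) [G.Normal] (hsolv : Group.IsSolvable G) {c b : Γ} {q p k : ℕ}
    (hA : Pair c b q p k) (hq : q.Coprime (Nat.card G)) (hp : p.Coprime (Nat.card G))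
    (hfix : Fpf c b G) : Group.IsNilpotent (G ⧸ fittingSubgroup G) := by
  set F := (fittingSubgroup G).map G.subtype with hF
  have hFG : F ≤ G := map_subtype_le _
  have hFn : F.Normal := normal_map_characteristic _
  have hFnil : Group.IsNilpotent F :=
    Core.isNilpotent_map Core.fittingSubgroup_isNilpotent _
  set π := QuotientGroup.mk' F with hπ
  set Gq := G.map π with hGq
  have hGqn : Gq.Normal := (inferInstance : G.Normal).map π (QuotientGroup.mk'_surjective F)
  let f : G →* Gq := π.subgroupMap G
  have hf : Function.Surjective f := π.subgroupMap_surjective G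
  have hkf : f.ker = fittingSubgroup G := by
    ext x
    rw [MonoidHom.mem_ker, Subtype.ext_iff]
    show π (x : Γ) = 1 ↔ _
    rw [← MonoidHom.mem_ker, hπ, QuotientGroup.ker_mk', hF]
    exact mem_map_iff_mem G.subtype_injective
  suffices hgoal : Group.IsNilpotent Gq from
    (Group.isNilpotent_congr ((QuotientGroup.quotientMulEquivOfEq hkf).symm.trans
      (QuotientGroup.quotientKerEquivOfSurjective f hf))).mpr hgoal
  have hQs : Group.IsSolvable Gq := Group.isSolvable_of_surjective (f := f) hf
  by_contra hnil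
  obtain ⟨l, s, hl, hs, hsl, x, ⟨i, hxs⟩, hxc⟩ := exists_bad_of_not_isNilpotent hnil
  have := Fact.mk hl
  have := Fact.mk hs
  set Rb := (pCore l Gq).map Gq.subtype with hRb
  have hRbn : Rb.Normal := normal_map_characteristic _
  have hRbl : IsPGroup l Rb := (Core.pCore_isPGroup (p := l)).map _
  have hker : π.ker = F := QuotientGroup.ker_mk' F
  set K := Rb.comap π with hK
  have hKn : K.Normal := hRbn.comap π
  have hKG : K ≤ G := by
    have h1 : K ≤ Gq.comap π := comap_mono (map_subtype_le _)
    rwa [hGq, comap_map_eq_self (hker.le.trans hFG)] at h1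
  set A := grp c b
  have hAcard : Nat.card A ∣ q * p := hA.card_grp_dvd
  have hAG : (Nat.card A).Coprime (Nat.card G) := (Nat.Coprime.mul_left hq hp).coprime_dvd_left hAcard
  -- an invariant Sylow subgroup of `K`
  obtain ⟨P, hAP⟩ := Coprime.exists_invariant_sylow (A := A) (K := K) le_normalizer_of_normal
    (hAG.coprime_dvd_right (card_dvd_of_le hKG)) (Or.inr (Coprime.isSolvable_of_le hKG hsolv)) l
  set R := (P : Subgroup K).map K.subtype with hR
  have hRK : R ≤ K := map_subtype_le _
  have hRl : IsPGroup l R := P.isPGroup'.map _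
  have hKmap : K.map π = Rb := map_comap_eq_self_of_surjective (QuotientGroup.mk'_surjective F) Rb
  have hRmap : R.map π = Rb := by
    have hKl : IsPGroup l (K.map π) := hKmap.symm ▸ hRbl
    have h1 : ((P.mapSurjective (π.subgroupMap_surjective K) : Sylow l (K.map π)) :
        Subgroup (K.map π)) = ⊤ := by
      have htop : IsPGroup l (⊤ : Subgroup (K.map π)) := hKl.to_subgroup ⊤
      exact ((P.mapSurjective (π.subgroupMap_surjective K)).is_maximal' htop le_top).symm
    have h2 := congrArg (Subgroup.map (K.map π).subtype) h1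
    rw [Sylow.coe_mapSurjective, Subgroup.map_map, ← MonoidHom.range_eq_map, range_subtype] at h2
    rw [← hKmap, ← h2, hR, Subgroup.map_map]
    rfl
  have hKFR : K ≤ F ⊔ R := by
    intro y hy
    have h1 : π y ∈ R.map π := hRmap.symm ▸ hy
    obtain ⟨r, hr, he⟩ := h1
    have h2 : y * r⁻¹ ∈ F := by
      rw [← hker, MonoidHom.mem_ker, map_mul, map_inv, he, mul_inv_cancel]
    have := mul_mem_sup h2 hr
    rwa [inv_mul_cancel_right] at this
  set N := G ⊓ normalizer (R : Set Γ) with hN
  have hNG : N ≤ G := inf_le_left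
  have hfrat : G ≤ F ⊔ N := by
    intro g hg
    have hgK : g ∈ normalizer (K : Set Γ) := le_normalizer_of_normal (mem_top g)
    have hRK' : MulAut.conj g • R ≤ K := Coprime.conj_smul_le_self hgK hRK
    obtain ⟨P', hP'⟩ : ∃ P' : Sylow l K, (P' : Subgroup K) = (MulAut.conj g • R).subgroupOf K :=
      ⟨Sylow.ofCard _ (by
        rw [Coprime.card_subgroupOf hRK', Coprime.card_conj_smul, hR,
          card_map_of_injective K.subtype_injective, P.card_eq_multiplicity]), Sylow.coe_ofCard _ _⟩
    obtain ⟨κ, hκ⟩ := MulAction.exists_smul_eq K P P'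
    have h1 : MulAut.conj (κ : Γ) • R = MulAut.conj g • R := by
      rw [hR, ← Coprime.conj_smul_map_subtype, ← Sylow.coe_subgroup_smul, hκ, hP',
        map_subgroupOf_eq_of_le hRK', hR]
    have h2 : (κ : Γ)⁻¹ * g ∈ N := by
      refine mem_inf.mpr ⟨G.mul_mem (G.inv_mem (hKG κ.2)) hg, Coprime.mem_normalizer_of_conj_smul_eq ?_⟩
      rw [Coprime.conj_mul_smul, ← h1, ← Coprime.conj_mul_smul, inv_mul_cancel, map_one, one_smul]
    have hRN : R ≤ F ⊔ N :=
      (le_inf (hRK.trans hKG) Subgroup.le_normalizer).trans le_sup_right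
    have := mul_mem ((sup_le le_sup_left hRN : F ⊔ R ≤ F ⊔ N) (hKFR κ.2)) (mem_sup_right h2)
    rwa [mul_inv_cancel_left] at this
  have hNmap : N.map π = Gq := by
    refine le_antisymm (map_mono hNG) ?_
    rw [hGq]
    refine (map_mono hfrat).trans ?_
    rw [Subgroup.map_sup, show F.map π = ⊥ from QuotientGroup.map_mk'_self F, bot_sup_eq]
  have hAN : A ≤ normalizer (N : Set Γ) := Coprime.le_normalizer_inf le_normalizer_of_normal
    (hAP.trans Subgroup.le_normalizer)
  obtain ⟨S, hAS⟩ := Coprime.exists_invariant_sylow hAN (hAG.coprime_dvd_right (card_dvd_of_le hNG))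
    (Or.inr (Coprime.isSolvable_of_le hNG hsolv)) s
  set T := (S : Subgroup N).map N.subtype with hT
  have hTN : T ≤ N := map_subtype_le _
  -- `[R, T]` does not lie in `F`
  have hRT : ¬ ⁅R, T⁆ ≤ F := by
    intro hle
    let fN : N →* Gq := f.comp (Subgroup.inclusion hNG)
    have hfN : Function.Surjective fN := fun y => by
      have h1 : (y : Γ ⧸ F) ∈ N.map π := hNmap.symm ▸ y.2
      obtain ⟨n, hn, he⟩ := h1
      exact ⟨⟨n, hn⟩, Subtype.ext he⟩
    have hC : (S.mapSurjective hfN : Subgroup Gq) ≤ centralizer (pCore l Gq : Set Gq) := by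
      rw [Sylow.coe_mapSurjective]
      rintro _ ⟨t, ht, rfl⟩
      refine mem_centralizer_iff.mpr fun y hy => Subtype.ext ?_
      have h1 : (y : Γ ⧸ F) ∈ R.map π := hRmap.symm ▸ mem_map_of_mem Gq.subtype hy
      obtain ⟨a, ha, he⟩ := h1
      show (y : Γ ⧸ F) * π (t : Γ) = π (t : Γ) * (y : Γ ⧸ F)
      rw [← he]
      refine commutatorElement_eq_one_iff_mul_comm.mp ?_
      rw [← map_commutatorElement, ← MonoidHom.mem_ker, hker]
      exact hle (commutator_mem_commutator ha (mem_map_of_mem _ ht))
    have hxp : IsPGroup s (zpowers x) := IsPGroup.of_pow (FixedPointFree.isPGroup_zpowers hxs)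
    obtain ⟨P', hP'⟩ := hxp.exists_le_sylow
    obtain ⟨g, hg⟩ := MulAction.exists_smul_eq Gq (S.mapSurjective hfN) P'
    have h3 : x ∈ (P' : Subgroup Gq) := hP' (mem_zpowers x)
    rw [← hg, Sylow.coe_subgroup_smul, Coprime.mem_conj_smul] at h3
    have h4 : g⁻¹ * x * g ∈ centralizer (pCore l Gq : Set Gq) := hC h3
    have := (inferInstance : (centralizer (pCore l Gq : Set Gq)).Normal).conj_mem _ h4 g
    exact hxc (by simpa [mul_assoc] using this)
  -- the configuration modulo `Φ(F) O_l(F)`
  set Φ := (frattini F).map F.subtype with hΦ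
  set O := (pCore l F).map F.subtype with hO
  have hΦn : Φ.Normal := normal_map_characteristic _
  have hOn : O.Normal := normal_map_characteristic _
  set Nk := Φ ⊔ O with hNk
  have hNkn : Nk.Normal := inferInstance
  have hNkF : Nk ≤ F := sup_le (map_subtype_le _) (map_subtype_le _)
  set π2 := QuotientGroup.mk' Nk with hπ2
  have hker2 : π2.ker = Nk := QuotientGroup.ker_mk' Nk
  have hlF : ¬ l ∣ O.relIndex F := by
    obtain ⟨P'⟩ := (inferInstance : Nonempty (Sylow l F))
    have hnP : (P' : Subgroup F).Normal := inferInstance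
    have h1 : O.subgroupOf F = (P' : Subgroup F) := by
      rw [hO, subgroupOf, comap_map_eq_self_of_injective F.subtype_injective]
      exact le_antisymm (Core.pCore_le_sylow P') (Core.le_pCore P'.isPGroup')
    rw [relIndex, h1]
    exact P'.not_dvd_index
  have hAGn : A ≤ normalizer (G : Set Γ) := le_normalizer_of_normal
  have hdvd : ∀ {L : Subgroup Γ}, L ≤ G → Nat.card (L.map π2) ∣ Nat.card G := fun hL =>
    (card_map_dvd _ π2).trans (card_dvd_of_le hL)
  have hpair : Pair (π2 c) (π2 b) q p k := by
    refine ⟨hA.hq, hA.hp, hA.ne, by rw [← map_pow, hA.cq, map_one], by rw [← map_pow, hA.bp, map_one],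
      by rw [← map_inv, ← map_mul, ← map_mul, hA.rel, map_pow], fun hc2 => hA.nc ?_⟩
    have h1 : b * c * b⁻¹ * c⁻¹ ∈ Nk := by
      rw [← hker2, MonoidHom.mem_ker, map_mul, map_mul, map_mul, map_inv, map_inv, hc2.eq,
        mul_inv_cancel_right, mul_inv_cancel]
    have h2 : b * c * b⁻¹ * c⁻¹ ∈ zpowers c := by
      rw [hA.rel]
      exact mul_mem (pow_mem (mem_zpowers c) k) (inv_mem (mem_zpowers c))
    have h3 : zpowers c ⊓ G = ⊥ := Coprime.inf_eq_bot_of_coprime (by
      rw [Nat.card_zpowers]; exact hq.coprime_dvd_left (orderOf_dvd_of_pow_eq_one hA.cq))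
    have h4 : b * c * b⁻¹ * c⁻¹ = 1 := mem_bot.mp (h3.le ⟨h2, hFG (hNkF h1)⟩)
    exact mul_inv_eq_iff_eq_mul.mp (mul_inv_eq_one.mp h4)
  have hgrp : grp (π2 c) (π2 b) = A.map π2 := by
    rw [Subgroup.map_sup, MonoidHom.map_zpowers, MonoidHom.map_zpowers]
  have hnorm : ∀ {L M : Subgroup Γ}, L ≤ normalizer (M : Set Γ) →
      L.map π2 ≤ normalizer ((M.map π2 : Subgroup _) : Set _) := fun {L M} h =>
    (map_mono h).trans (Subgroup.le_normalizer_map π2)
  have hfG : Fpf (π2 c) (π2 b) (G.map π2) := by
    have h1 := hpair.centralizer_grp (G.map π2)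
    rw [Fpf, ← h1, hgrp, ← Coprime.map_inf_centralizer π2 hAGn (hker2.le.trans (hNkF.trans hFG))
      (hAG.coprime_dvd_right (card_dvd_of_le (hker2.le.trans (hNkF.trans hFG))))
      (Or.inr (Coprime.isSolvable_of_le (hker2.le.trans (hNkF.trans hFG)) hsolv)),
      hA.centralizer_grp, show G ⊓ centralizer {c} ⊓ centralizer {b} = ⊥ from hfix, Subgroup.map_bot]
  have hfsub : ∀ {L : Subgroup Γ}, L ≤ G → Fpf (π2 c) (π2 b) (L.map π2) := fun hL =>
    le_bot_iff.mp ((inf_le_inf_right _ (inf_le_inf_right _ (map_mono hL))).trans hfG.le)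
  have hRG : R ≤ G := hRK.trans hKG
  have hTG : T ≤ G := hTN.trans hNG
  have hTR' : T ≤ normalizer (R : Set Γ) := hTN.trans inf_le_right
  obtain ⟨eR, hRc⟩ := hRl.exists_card_eq
  have hTs : IsPGroup s T := S.isPGroup'.map _
  -- `R` is faithful on `F / Φ(F) O_l(F)`
  have hfaith : (R.map π2) ⊓ centralizer ((F.map π2 : Subgroup _) : Set _) = ⊥ := by
    rw [eq_bot_iff]
    rintro _ ⟨⟨r, hr, rfl⟩, hrc⟩
    rw [mem_bot, ← MonoidHom.mem_ker, hker2]
    refine mem_sup_right ?_
    -- modulo `O`
    set π3 := QuotientGroup.mk' O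
    have hker3 : π3.ker = O := QuotientGroup.ker_mk' O
    set D := {a : Γ | ∀ y ∈ F, ⁅a, y⁆ ∈ Nk}
    set Rc : Subgroup Γ := R ⊓
      (centralizer ((F.map π2 : Subgroup _) : Set _)).comap π2 with hRcdef
    have hF3 : (F.map π3).Normal := hFn.map π3 (QuotientGroup.mk'_surjective O)
    have hcop3 : (Nat.card (Rc.map π3)).Coprime (Nat.card (F.map π3)) := by
      have h1 : Nat.card (F.map π3) = O.relIndex F := by rw [← relIndex_ker, hker3]
      rw [h1]
      refine Nat.Coprime.coprime_dvd_left ((card_map_dvd _ π3).trans (card_dvd_of_le inf_le_left)) ?_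
      rw [hRc]
      exact (hl.coprime_iff_not_dvd.mpr hlF).pow_left eR
    have hcent : Rc.map π3 ≤ centralizer ((F.map π3 : Subgroup _) : Set _) := by
      refine Coprime.le_centralizer_of_trivial_mod_frattini le_normalizer_of_normal
        (hcop3.coprime_dvd_right (card_subgroup_dvd_card _)) ?_
      rintro _ ⟨a, ⟨-, ha⟩, rfl⟩ _ ⟨y, hy, rfl⟩
      have h1 : a * y * a⁻¹ * y⁻¹ ∈ Nk := by
        rw [← hker2, MonoidHom.mem_ker, map_mul, map_mul, map_mul, map_inv, map_inv,
          ← mem_centralizer_iff.mp ha (π2 y) (mem_map_of_mem _ hy), mul_inv_cancel_right, mul_inv_cancel]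
      rw [← map_inv, ← map_inv, ← map_mul, ← map_mul, ← map_mul]
      have h2 : π3 (a * y * a⁻¹ * y⁻¹) ∈ Φ.map π3 := by
        have h3 := mem_map_of_mem π3 h1
        rwa [hNk, Subgroup.map_sup, show O.map π3 = ⊥ from QuotientGroup.map_mk'_self O, sup_bot_eq] at h3
      have h4 : Φ.map π3 ≤ (frattini (F.map π3)).map (F.map π3).subtype := by
        rw [hΦ, Subgroup.map_map, show π3.comp F.subtype = (F.map π3).subtype.comp (π3.subgroupMap F)
          from rfl, ← Subgroup.map_map]
        exact map_mono (Core.map_frattini_le_of_surjective (π3.subgroupMap_surjective F))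
      exact h4 h2
    -- hence `Rc` lies in `O_l(F)`
    let C0 : Subgroup Γ := K ⊓ (centralizer ((F.map π3 : Subgroup _) : Set _)).comap π3
    have : C0.Normal := inferInstance
    have hrC : r ∈ C0 := ⟨hRK hr, hcent (mem_map_of_mem π3 ⟨hr, hrc⟩)⟩
    -- `C0 ∩ F` is central modulo `O`, hence `C0` is nilpotent-by-`O`
    have hC0G : C0 ≤ G := inf_le_left.trans hKG
    set E3 := C0.map π3 with hE3
    have hE3n : E3.Normal := (inferInstance : C0.Normal).map π3 (QuotientGroup.mk'_surjective O)
    obtain ⟨P3, hP3⟩ : ∃ P3 : Sylow l E3, (π3 r) ∈ (P3 : Subgroup E3).map E3.subtype := by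
      obtain ⟨j, hj⟩ := hRl ⟨r, hr⟩
      have hj' : r ^ l ^ j = 1 := congrArg Subtype.val hj
      obtain ⟨P3, hP3⟩ := (IsPGroup.of_pow (p := l) (FixedPointFree.isPGroup_zpowers (p := l ^ j)
        (c := (⟨π3 r, mem_map_of_mem _ hrC⟩ : E3))
        (Subtype.ext (by simp only [SubmonoidClass.coe_pow, Subgroup.coe_one]; rw [← map_pow, hj', map_one])))).exists_le_sylow
      exact ⟨P3, mem_map_of_mem E3.subtype (hP3 (mem_zpowers _))⟩
    have hnormal3 : (P3 : Subgroup E3).Normal := by
      -- `E3` is nilpotent: central extension of an `l`-group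
      have hnil3 : Group.IsNilpotent E3 := by
        let Z3 : Subgroup E3 := (F.map π3).subgroupOf E3
        have hZ3 : Z3 ≤ center E3 := fun z hz => mem_center_iff.mpr fun g => by
          obtain ⟨a, ⟨-, ha⟩, hga⟩ := g.2
          refine Subtype.ext ?_
          show (g : Γ ⧸ O) * z = z * g
          rw [← hga]
          exact (mem_centralizer_iff.mp ha (z : Γ ⧸ O) hz).symm
        have hidx : ∃ j, (center E3).index = l ^ j := by
          have h1 : (center E3).index ∣ Z3.index := index_dvd_of_le hZ3
          have h2 : Z3.index ∣ Nat.card (K.map π) := by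
            have h3 : Z3.index ∣ (F.map π3).relIndex (K.map π3) := by
              show (F.map π3).relIndex E3 ∣ _
              have hFK : F.map π3 ≤ K.map π3 := map_mono (hker.ge.trans (ker_le_comap π Rb))
              rw [← relIndex_sup_right]
              exact ⟨_, (relIndex_mul_relIndex _ _ _ le_sup_right
                (sup_le (map_mono inf_le_left) hFK)).symm⟩
            refine h3.trans ?_
            rw [relIndex_map_map, hker3, sup_eq_left.mpr (map_subtype_le _ : O ≤ F),
              sup_eq_left.mpr ((map_subtype_le _ : O ≤ F).trans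
                (hker.ge.trans (ker_le_comap π Rb))), ← relIndex_ker, hker]
          rw [hKmap] at h2
          obtain ⟨eb, hb⟩ := hRbl.exists_card_eq
          rw [hb] at h2
          obtain ⟨j, -, hj⟩ := (Nat.dvd_prime_pow hl).mp (h1.trans h2)
          exact ⟨j, hj⟩
        obtain ⟨j, hj⟩ := hidx
        exact Group.of_quotient_center_nilpotent
          (IsPGroup.of_card (show Nat.card (E3 ⧸ center E3) = l ^ j by rw [← index_eq_card, hj])).isNilpotent
      infer_instance
    have hP3n : ((P3 : Subgroup E3).map E3.subtype).Normal := by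
      have := P3.characteristic_of_normal hnormal3
      exact normal_map_characteristic _
    -- the preimage is a normal `l`-subgroup of `G`
    set J := ((P3 : Subgroup E3).map E3.subtype).comap π3 with hJ
    have hJn : J.Normal := hP3n.comap π3
    have hOl : IsPGroup l O := (Core.pCore_isPGroup (p := l)).map _
    have hJl : IsPGroup l J :=
      (P3.isPGroup'.map E3.subtype).comap_of_ker_isPGroup π3 (by rw [hker3]; exact hOl)
    have hJG : J ≤ G := by
      refine (comap_mono (map_subtype_le _)).trans ?_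
      rw [hE3, comap_map_eq]
      exact sup_le hC0G (hker3.le.trans ((map_subtype_le _).trans hFG))
    have hrJ : r ∈ J := hP3
    have : (J.subgroupOf G).Normal := hJn.comap G.subtype
    have hJF : J ≤ F := by
      have h1 : J.subgroupOf G ≤ fittingSubgroup G :=
        Core.le_fittingSubgroup (hJl.comap_subtype (K := G)).isNilpotent
      have h2 := map_mono (f := G.subtype) h1
      rwa [map_subgroupOf_eq_of_le hJG] at h2
    have : (J.subgroupOf F).Normal := hJn.comap F.subtype
    have h1 : J.subgroupOf F ≤ pCore l F := Core.le_pCore (hJl.comap_subtype (K := F))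
    have h2 := map_mono (f := F.subtype) h1
    rw [map_subgroupOf_eq_of_le hJF] at h2
    exact h2 hrJ
  have hVc : IsMulCommutative (F.map π2) := ⟨⟨by
    rintro ⟨_, a, ha, rfl⟩ ⟨_, y, hy, rfl⟩
    refine Subtype.ext (commutatorElement_eq_one_iff_mul_comm.mp ?_)
    rw [← map_commutatorElement, ← MonoidHom.mem_ker, hker2]
    refine mem_sup_left ?_
    have h1 : ⁅F, F⁆ ≤ Φ := by
      rw [hΦ, ← map_subtype_commutator]
      exact map_mono Core.commutator_le_frattini
    exact h1 (commutator_mem_commutator ha hy)⟩⟩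
  have hRne : R ≠ ⊥ := fun h0 => hRT (by rw [h0, commutator_bot_left]; exact bot_le)
  have hTne : T ≠ ⊥ := fun h0 => hRT (by rw [h0, commutator_bot_right]; exact bot_le)
  have hprime : ∀ {L : Subgroup Γ} {t r : ℕ}, IsPGroup t L → L ≠ ⊥ → L ≤ G → t.Prime → r.Prime →
      r.Coprime (Nat.card G) → t ≠ r := by
    intro L t r hLt hne hLG ht hr hrG e
    subst e
    have := Fact.mk ht
    obtain ⟨j, hj⟩ := hLt.exists_card_eq
    have hj0 : j ≠ 0 := fun h0 => hne (Subgroup.card_eq_one.mp (by rw [hj, h0, pow_zero]))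
    exact ht.not_dvd_one (hrG ▸ Nat.dvd_gcd dvd_rfl
      ((dvd_pow_self t hj0).trans (hj ▸ card_dvd_of_le hLG)))
  have hcfg : Cfg (π2 c) (π2 b) q p k l s (F.map π2) (R.map π2) (T.map π2) :=
    { pair := hpair, hl := hl, hs := hs, ls := hsl
      lp := hprime hRl hRne hRG hl hA.hp hp
      lq := hprime hRl hRne hRG hl hA.hq hq
      sp := hprime hTs hTne hTG hs hA.hp hp
      sq := hprime hTs hTne hTG hs hA.hq hq
      commV := hVc
      notDvd := fun hd => hlF (hd.trans (by
        rw [← relIndex_ker, hker2]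
        exact relIndex_dvd_of_le_left F le_sup_right))
      qV := hq.coprime_dvd_right (hdvd hFG)
      pV := hp.coprime_dvd_right (hdvd hFG)
      hR := hRl.map _
      hT := hTs.map _
      AV := hgrp.le.trans (hnorm le_normalizer_of_normal)
      AR := hgrp.le.trans (hnorm hAP)
      AT := hgrp.le.trans (hnorm hAS)
      RV := hnorm le_normalizer_of_normal
      TV := hnorm le_normalizer_of_normal
      TR := hnorm hTR'
      fV := hfsub hFG
      fR := hfsub hRG
      fT := hfsub hTG
      faithful := hfaith }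
  have hres := Cfg.centralizes _ _ _ hcfg le_rfl
  refine hRT ((commutator_le.mpr fun a ha y hy => ?_).trans hNkF)
  rw [← hker2, MonoidHom.mem_ker, map_commutatorElement]
  exact commutatorElement_eq_one_iff_mul_comm.mpr
    (mem_centralizer_iff.mp (hres (mem_map_of_mem _ hy)) _ (mem_map_of_mem _ ha))

end Cfsg.Agent.FittingPQ
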