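import Cfsg.Agent.FixedPointFree.Prime
import Cfsg.Agent.Coprime.Elementary

/-!
An elementary abelian `M` acting on an abelian `V` of coprime order, acted on by a nonabelian group
`⟨c⟩ ⋊ ⟨b⟩` of order `q p` fixing only the identity.

* `IsPiece` : the hyperplanes `B` of `M` with fixed points on `V`.
* `ActData.fixed_eq_one_of_stab` : the orbit argument.
* `Pair.piece_fixed`, `Pair.piece_moved` : the position of a piece with respect to `c` and `b`.
* `triv` : the elements acting trivially on `R` modulo `B`.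
-/

set_option autoImplicit false

namespace Cfsg.Agent.FittingPQ

open Subgroup
open scoped commutatorElement Pointwise

universe u

variable {Γ : Type u} [Group Γ]

/-- Elements acting trivially on `R` modulo `B`. -/
def triv (R B : Subgroup Γ) : Subgroup Γ where
  carrier := {g | g ∈ normalizer (R : Set Γ) ∧ g ∈ normalizer (B : Set Γ) ∧ ∀ x ∈ R, ⁅g, x⁆ ∈ B}
  one_mem' := ⟨one_mem _, one_mem _, fun x _ => by simp⟩
  mul_mem' {g h} hg hh := ⟨mul_mem hg.1 hh.1, mul_mem hg.2.1 hh.2.1, fun x hx => by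
    have e : ⁅g * h, x⁆ = g * ⁅h, x⁆ * g⁻¹ * ⁅g, x⁆ := by simp only [commutatorElement_def]; group
    rw [e]
    exact mul_mem ((mem_normalizer_iff.mp hg.2.1 _).mp (hh.2.2 x hx)) (hg.2.2 x hx)⟩
  inv_mem' {g} hg := ⟨inv_mem hg.1, inv_mem hg.2.1, fun x hx => by
    have e : ⁅g⁻¹, x⁆ = g⁻¹ * ⁅g, x⁆⁻¹ * g⁻¹⁻¹ := by simp only [commutatorElement_def]; group
    rw [e]
    exact (mem_normalizer_iff.mp (inv_mem hg.2.1) _).mp (inv_mem (hg.2.2 x hx))⟩

theorem mem_triv {R B : Subgroup Γ} {g : Γ} : g ∈ triv R B ↔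
    g ∈ normalizer (R : Set Γ) ∧ g ∈ normalizer (B : Set Γ) ∧ ∀ x ∈ R, ⁅g, x⁆ ∈ B := Iff.rfl

theorem conj_mem_triv {R B : Subgroup Γ} {g n : Γ} (hnR : n ∈ normalizer (R : Set Γ))
    (hnB : n ∈ normalizer (B : Set Γ)) (hg : g ∈ triv R B) : n * g * n⁻¹ ∈ triv R B := by
  refine ⟨mul_mem (mul_mem hnR hg.1) (inv_mem hnR), mul_mem (mul_mem hnB hg.2.1) (inv_mem hnB),
    fun x hx => ?_⟩
  have e : ⁅n * g * n⁻¹, x⁆ = n * ⁅g, n⁻¹ * x * n⁆ * n⁻¹ := by
    simp only [commutatorElement_def]; group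
  rw [e]
  exact (mem_normalizer_iff.mp hnB _).mp (hg.2.2 _ ((mem_normalizer_iff''.mp hnR x).mp hx))

theorem commutator_le_of_le_triv {R B T : Subgroup Γ} (h : T ≤ triv R B) : ⁅R, T⁆ ≤ B := by
  rw [commutator_comm, commutator_le]
  exact fun t ht x hx => (h ht).2.2 x hx

/-- `T` acts trivially if `c` does and `T = [T, c]`. -/
theorem le_triv_of_commutator {R B T : Subgroup Γ} {c : Γ} (hc : c ∈ triv R B)
    (hTR : T ≤ normalizer (R : Set Γ)) (hTB : T ≤ normalizer (B : Set Γ))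
    (hT : ⁅T, zpowers c⁆ = T) : T ≤ triv R B := by
  conv_lhs => rw [← hT]
  rw [commutator_le]
  intro t ht y hy
  have hy' : y ∈ triv R B := zpowers_le.mpr hc hy
  rw [show ⁅t, y⁆ = t * y * t⁻¹ * y⁻¹ from rfl]
  exact mul_mem (conj_mem_triv (hTR ht) (hTB ht) hy') (inv_mem hy')

/-- A hyperplane of `M` with fixed points on `V`. -/
structure IsPiece (l : ℕ) (V M B : Subgroup Γ) : Prop where
  le : B ≤ M
  index : B.relIndex M = l
  ne_bot : V ⊓ centralizer (B : Set Γ) ≠ ⊥

/-- Coprime action of an elementary abelian group on an abelian group without fixed points. -/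
structure ActData (l : ℕ) (V M : Subgroup Γ) : Prop where
  prime : l.Prime
  commV : IsMulCommutative V
  ea : Cfsg.IsElementaryAbelian l M
  normal : M ≤ normalizer (V : Set Γ)
  notDvd : ¬ l ∣ Nat.card V
  fixed : V ⊓ centralizer (M : Set Γ) = ⊥

variable [Finite Γ] {l : ℕ} {V M B : Subgroup Γ}

theorem ActData.coprime (hd : ActData l V M) : (Nat.card M).Coprime (Nat.card V) := by
  have := Fact.mk hd.prime
  exact Coprime.ea_coprime hd.ea hd.notDvd

omit [Finite Γ] in
theorem ActData.comm (hd : ActData l V M) {x y : Γ} (hx : x ∈ M) (hy : y ∈ M) : x * y = y * x :=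
  Coprime.ea_comm hd.ea hx hy

omit [Finite Γ] in
theorem ActData.le_normalizer (hd : ActData l V M) {D : Subgroup Γ} (hD : D ≤ M) :
    M ≤ normalizer (D : Set Γ) := by
  refine le_trans ?_ (centralizer_le_normalizer _)
  exact fun x hx => mem_centralizer_iff.mpr fun y hy => hd.comm (hD hy) hx

theorem ActData.piece_sup (hd : ActData l V M) (hB : IsPiece l V M B) {D : Subgroup Γ} (hD : D ≤ M)
    (hDB : ¬ D ≤ B) : B ⊔ D = M := by
  have h := relIndex_mul_relIndex B (B ⊔ D) M le_sup_left (sup_le hB.le hD)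
  rw [hB.index] at h
  have h1 : B.relIndex (B ⊔ D) ≠ 1 := fun h1 =>
    hDB (le_sup_right.trans (relIndex_eq_one.mp h1))
  have h2 : B.relIndex (B ⊔ D) = l := (hd.prime.eq_one_or_self_of_dvd _ ⟨_, h.symm⟩).resolve_left h1
  rw [h2] at h
  have h3 : (B ⊔ D).relIndex M = 1 := (mul_right_eq_self₀.mp h).resolve_right hd.prime.ne_zero
  exact le_antisymm (sup_le hB.le hD) (relIndex_eq_one.mp h3)

theorem ActData.piece_ne (hd : ActData l V M) (hB : IsPiece l V M B) : B ≠ M := fun h => by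
  have := hB.index
  rw [h, relIndex_self] at this
  exact hd.prime.ne_one this.symm

/-- The kernel of `M` on fixed points of a piece. -/
theorem ActData.piece_kernel (hd : ActData l V M) (hB : IsPiece l V M B) {U : Subgroup Γ}
    (hU : U ≤ V ⊓ centralizer (B : Set Γ)) (hU1 : U ≠ ⊥) : M ⊓ centralizer (U : Set Γ) = B := by
  refine le_antisymm ?_ (le_inf hB.le fun x hx => mem_centralizer_iff.mpr fun u hu =>
    (mem_centralizer_iff.mp (hU hu).2 x hx).symm)
  by_contra hne
  have hsup := hd.piece_sup hB inf_le_left hne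
  refine hU1 (eq_bot_iff.mpr fun u hu => ?_)
  rw [← hd.fixed]
  refine ⟨(hU hu).1, ?_⟩
  have : M ≤ centralizer {u} := by
    rw [← hsup]
    refine sup_le (fun x hx => mem_centralizer_singleton_iff.mpr
      (mem_centralizer_iff.mp (hU hu).2 x hx)) fun x hx => mem_centralizer_singleton_iff.mpr
        (mem_centralizer_iff.mp hx.2 u hu).symm
  exact mem_centralizer_iff.mpr fun x hx => mem_centralizer_singleton_iff.mp (this hx)

theorem ActData.exists_piece (hd : ActData l V M) {U : Subgroup Γ} (hUV : U ≤ V)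
    (hMU : M ≤ normalizer (U : Set Γ)) (hU : U ≠ ⊥) :
    ∃ B, IsPiece l V M B ∧ U ⊓ centralizer (B : Set Γ) ≠ ⊥ := by
  have := Fact.mk hd.prime
  have := hd.ea.1
  by_contra! hcon
  refine hU (le_bot_iff.mp ?_)
  rw [← Coprime.iSup_cocyclic_centralizer_eq hMU (hd.coprime.coprime_dvd_right (card_dvd_of_le hUV))]
  refine iSup₂_le fun D hD => ?_
  by_contra hne
  rw [le_bot_iff] at hne
  refine hne (hcon D ⟨hD.1, ?_, fun h => hne (le_bot_iff.mp ((inf_le_inf_right _ hUV).trans h.le))⟩)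
  have hle := Coprime.ea_relIndex_le hd.ea hD
  obtain ⟨n, hn⟩ := Coprime.ea_card hd.ea
  have hdvd : D.relIndex M ∣ l ^ n := hn ▸ relIndex_dvd_card D M
  obtain ⟨i, -, hi⟩ := (Nat.dvd_prime_pow hd.prime).mp hdvd
  have hi0 : i ≠ 0 := fun h0 => by
    rw [h0, pow_zero, relIndex_eq_one] at hi
    refine hne (le_bot_iff.mp (le_trans (inf_le_inf hUV (centralizer_le ?_)) hd.fixed.le))
    exact hi
  rw [hi] at hle ⊢
  have : i ≤ 1 := by
    by_contra hlt
    have := Nat.pow_le_pow_right hd.prime.pos (show 2 ≤ i by omega)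
    have := hd.prime.two_le
    nlinarith
  rw [show i = 1 by omega, pow_one]

omit [Finite Γ] in
theorem centralizer_conj (g : Γ) (D : Subgroup Γ) :
    centralizer ((MulAut.conj g • D : Subgroup Γ) : Set Γ) = MulAut.conj g • centralizer (D : Set Γ) := by
  ext x
  rw [Coprime.mem_conj_smul, mem_centralizer_iff, mem_centralizer_iff]
  constructor
  · intro h d hd
    have h1 := congrArg (fun y => g⁻¹ * y * g) (h _ (Coprime.conj_mem_conj_smul (g := g) hd))
    simpa [mul_assoc] using h1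
  · intro h d hd
    rw [SetLike.mem_coe, Coprime.mem_conj_smul] at hd
    have h1 := congrArg (fun y => g * y * g⁻¹) (h _ hd)
    simpa [mul_assoc] using h1

theorem ActData.piece_conj (_hd : ActData l V M) (hB : IsPiece l V M B) {g : Γ}
    (hgV : g ∈ normalizer (V : Set Γ)) (hgM : g ∈ normalizer (M : Set Γ)) :
    IsPiece l V M (MulAut.conj g • B) := by
  refine ⟨Coprime.conj_smul_le_self hgM hB.le, ?_, ?_⟩
  · rw [← Coprime.conj_smul_eq_self_of_mem_normalizer hgM, Coprime.conj_smul_eq_map,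
      Coprime.conj_smul_eq_map, relIndex_map_map_of_injective _ _ (MulAut.conj g).injective]
    exact hB.index
  · rw [centralizer_conj, ← Coprime.conj_smul_eq_self_of_mem_normalizer hgV, ← smul_inf]
    intro h
    refine hB.ne_bot (card_eq_one.mp ?_)
    rw [← Coprime.card_conj_smul g, h, card_bot]

/-- The fixed subspaces of distinct pieces are independent. -/
theorem ActData.pieces_independent (hd : ActData l V M) {ι : Type*} [Fintype ι] (Bs : ι → Subgroup Γ)
    (hB : ∀ i, IsPiece l V M (Bs i)) (hinj : Function.Injective Bs) (w : ι → V)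
    (hw : ∀ i, (w i : Γ) ∈ centralizer (Bs i : Set Γ))
    (h1 : letI := hd.commV; open scoped IsMulCommutative in ∏ i, w i = 1) (j : ι) : w j = 1 := by
  have := hd.commV
  open scoped IsMulCommutative in
  have := Fintype.ofFinite (Bs j)
  open scoped IsMulCommutative in
  let φ : normalizer (V : Set Γ) →* MulAut V := V.normalizerMonoidHom
  let incl : Bs j → normalizer (V : Set Γ) := fun x => ⟨x, hd.normal ((hB j).le x.2)⟩
  open scoped IsMulCommutative in
  let e : V →* V :=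
    { toFun := fun v => ∏ x, φ (incl x) v
      map_one' := by simp
      map_mul' := fun a b => by rw [← Finset.prod_mul_distrib]; simp }
  have hfix : ∀ i, ∀ x : Bs i, ∀ v : V, (v : Γ) ∈ centralizer (Bs i : Set Γ) →
      (x : Γ) * v * (x : Γ)⁻¹ = v := fun i x v hv => by
    rw [mem_centralizer_iff.mp hv x x.2, mul_inv_cancel_right]
  open scoped IsMulCommutative in
  have hei : ∀ i, i ≠ j → e (w i) = 1 := by
    intro i hij
    have hne : ¬ Bs j ≤ Bs i := fun hle => by
      refine hij (hinj ?_).symm.symm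
      refine (le_antisymm ?_ hle)
      have h := relIndex_mul_relIndex (Bs j) (Bs i) M hle (hB i).le
      rw [(hB j).index, (hB i).index] at h
      exact relIndex_eq_one.mp ((mul_left_eq_self₀.mp h).resolve_right hd.prime.ne_zero)
    have hsup := hd.piece_sup (hB i) (hB j).le hne
    have hj : ∀ a : Bs j, φ (incl a) (e (w i)) = e (w i) := by
      intro a
      show φ (incl a) (∏ x, φ (incl x) (w i)) = ∏ x, φ (incl x) (w i)
      rw [map_prod]
      refine Fintype.prod_equiv (Equiv.mulLeft a) _ _ fun x => ?_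
      rw [← MulAut.mul_apply, ← map_mul]
      rfl
    have hi : ∀ x : Bs j, φ (incl x) (w i) ∈ (centralizer (Bs i : Set Γ)).subgroupOf V := by
      intro x
      refine mem_centralizer_iff.mpr fun y hy => ?_
      show y * ((x : Γ) * (w i : Γ) * (x : Γ)⁻¹) = ((x : Γ) * (w i : Γ) * (x : Γ)⁻¹) * y
      have hyx : Commute y (x : Γ) := hd.comm ((hB i).le hy) ((hB j).le x.2)
      exact ((hyx.mul_right (mem_centralizer_iff.mp (hw i) y hy)).mul_right hyx.inv_right).eq
    have hei2 : e (w i) ∈ (centralizer (Bs i : Set Γ)).subgroupOf V :=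
      Subgroup.prod_mem _ fun x _ => hi x
    have hM : M ≤ centralizer {((e (w i) : V) : Γ)} := by
      rw [← hsup]
      refine sup_le (fun y hy => mem_centralizer_singleton_iff.mpr
        (mem_centralizer_iff.mp hei2 y hy)) fun y hy => mem_centralizer_singleton_iff.mpr ?_
      have h2 : y * ((e (w i) : V) : Γ) * y⁻¹ = (e (w i) : V) := congrArg Subtype.val (hj ⟨y, hy⟩)
      exact mul_inv_eq_iff_eq_mul.mp h2
    refine Subtype.ext (mem_bot.mp (hd.fixed.le ⟨(e (w i)).2, ?_⟩))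
    exact mem_centralizer_iff.mpr fun y hy => mem_centralizer_singleton_iff.mp (hM hy)
  open scoped IsMulCommutative in
  have hej : e (w j) = w j ^ Nat.card (Bs j) := by
    show ∏ x, φ (incl x) (w j) = _
    rw [Finset.prod_congr rfl fun x _ => (show φ (incl x) (w j) = w j from
      Subtype.ext (hfix j x (w j) (hw j))), Finset.prod_const, Finset.card_univ, Nat.card_eq_fintype_card]
  open scoped IsMulCommutative in
  have h2 : w j ^ Nat.card (Bs j) = 1 := by
    rw [← hej, ← map_one e, ← h1, map_prod]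
    exact (Finset.prod_eq_single j (fun i _ hij => hei i hij)
      (fun h => absurd (Finset.mem_univ j) h)).symm
  have hcop : (Nat.card (Bs j)).Coprime (Nat.card V) :=
    hd.coprime.coprime_dvd_left (card_dvd_of_le (hB j).le)
  exact orderOf_eq_one_iff.mp (Nat.eq_one_of_dvd_coprimes hcop (orderOf_dvd_of_pow_eq_one h2)
    (orderOf_dvd_natCard _))

/-- A vector fixed by the stabiliser of its piece in a group without fixed points on `V` is
trivial. -/
theorem ActData.fixed_eq_one_of_stab (hd : ActData l V M) {H : Subgroup Γ}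
    (hHV : H ≤ normalizer (V : Set Γ)) (hHM : H ≤ normalizer (M : Set Γ))
    (hH : V ⊓ centralizer (H : Set Γ) = ⊥) (hB : IsPiece l V M B) {w : Γ} (hwV : w ∈ V)
    (hwB : w ∈ centralizer (B : Set Γ))
    (hst : ∀ h ∈ H, h ∈ normalizer (B : Set Γ) → h * w = w * h) : w = 1 := by
  have := hd.commV
  let S := (normalizer (B : Set Γ)).subgroupOf H
  have := Fintype.ofFinite (H ⧸ S)
  let Bs : H ⧸ S → Subgroup Γ := fun i => MulAut.conj ((i.out : H) : Γ) • B
  let ws : H ⧸ S → V := fun i => ⟨(i.out : Γ) * w * ((i.out : H) : Γ)⁻¹,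
    (mem_normalizer_iff.mp (hHV i.out.2) w).mp hwV⟩
  have hinj : Function.Injective Bs := fun i i' h => by
    rw [← QuotientGroup.out_eq' i, ← QuotientGroup.out_eq' i']
    refine QuotientGroup.eq.mpr (mem_subgroupOf.mpr (Coprime.mem_normalizer_of_conj_smul_eq ?_))
    have h' : MulAut.conj ((i.out : H) : Γ) • B = MulAut.conj ((i'.out : H) : Γ) • B := h
    rw [Subgroup.coe_mul, InvMemClass.coe_inv, Coprime.conj_mul_smul, ← h',
      ← Coprime.conj_mul_smul, inv_mul_cancel, map_one, one_smul]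
  have hws : ∀ i, (ws i : Γ) ∈ centralizer (Bs i : Set Γ) := fun i => by
    rw [centralizer_conj]
    exact Coprime.conj_mem_conj_smul hwB
  open scoped IsMulCommutative in
  have hP : ∏ i, ws i = 1 := by
    refine Subtype.ext (mem_bot.mp (hH.le ⟨(∏ i, ws i).2, mem_centralizer_iff.mpr fun a ha => ?_⟩))
    have h2 : V.normalizerMonoidHom ⟨a, hHV ha⟩ (∏ i, ws i) = ∏ i, ws i := by
      rw [map_prod]
      refine Fintype.prod_equiv (MulAction.toPerm (⟨a, ha⟩ : H)) _ _ fun i => ?_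
      refine Subtype.ext ?_
      show a * ((i.out : Γ) * w * ((i.out : H) : Γ)⁻¹) * a⁻¹ =
        (((⟨a, ha⟩ : H) • i).out : Γ) * w * ((((⟨a, ha⟩ : H) • i).out : H) : Γ)⁻¹
      set j := (⟨a, ha⟩ : H) • i with hj
      have hs : ((j.out)⁻¹ * ((⟨a, ha⟩ : H) * i.out)) ∈ S := by
        refine QuotientGroup.eq.mp ?_
        rw [QuotientGroup.out_eq', hj]
        conv_lhs => rw [← QuotientGroup.out_eq' i]
        rfl
      have h3 := hst _ (j.out⁻¹ * ((⟨a, ha⟩ : H) * i.out) : H).2 hs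
      simp only [Subgroup.coe_mul, InvMemClass.coe_inv] at h3
      generalize ((j.out : H) : Γ) = g at h3 ⊢
      generalize ((i.out : H) : Γ) = g' at h3 ⊢
      calc a * (g' * w * g'⁻¹) * a⁻¹ = g * (g⁻¹ * (a * g') * w) * (g⁻¹ * (a * g'))⁻¹ * g⁻¹ := by group
        _ = g * (w * (g⁻¹ * (a * g'))) * (g⁻¹ * (a * g'))⁻¹ * g⁻¹ := by rw [h3]
        _ = g * w * g⁻¹ := by group
    exact mul_inv_eq_iff_eq_mul.mp (congrArg Subtype.val h2)
  have h1 := hd.pieces_independent Bs (fun i => hd.piece_conj hB (hHV i.out.2) (hHM i.out.2)) hinj ws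
    hws hP (QuotientGroup.mk (1 : H))
  have h2 := congrArg (fun v : V => (v : Γ)) h1
  exact conj_eq_one_iff.mp h2

/-- A nonabelian group of order `p q` given by generators. -/
structure Pair (c b : Γ) (q p k : ℕ) : Prop where
  hq : q.Prime
  hp : p.Prime
  ne : p ≠ q
  cq : c ^ q = 1
  bp : b ^ p = 1
  rel : b * c * b⁻¹ = c ^ k
  nc : ¬ Commute b c

/-- The group generated by `c` and `b`. -/
abbrev grp (c b : Γ) : Subgroup Γ := zpowers c ⊔ zpowers b

/-- `L` has no nontrivial element fixed by both `c` and `b`. -/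
abbrev Fpf (c b : Γ) (L : Subgroup Γ) : Prop := L ⊓ centralizer {c} ⊓ centralizer {b} = ⊥

variable {c b : Γ} {q p k : ℕ}

theorem Pair.zpowers_b_le (h : Pair c b q p k) : zpowers b ≤ normalizer (zpowers c : Set Γ) := by
  rw [zpowers_le]
  apply Coprime.mem_normalizer_of_conj_smul_eq
  refine eq_of_le_of_card_ge ?_ (Coprime.card_conj_smul b (zpowers c)).ge
  rw [Coprime.conj_smul_eq_map, MonoidHom.map_zpowers, zpowers_le]
  show b * c * b⁻¹ ∈ zpowers c
  rw [h.rel]
  exact pow_mem (mem_zpowers c) k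

theorem Pair.eq_one_of_commute (h : Pair c b q p k) {y : Γ} (hy : y ∈ zpowers c) (hby : Commute b y) :
    y = 1 := by
  obtain ⟨i, rfl⟩ := mem_powers_iff_mem_zpowers.mpr hy
  by_contra hne
  refine h.nc ?_
  have hqi : ¬ q ∣ i := fun ⟨d, hd⟩ => hne (show c ^ i = 1 by rw [hd, pow_mul, h.cq, one_pow])
  obtain ⟨e, he⟩ := exists_pow_eq_self_of_coprime (x := c) (n := i)
    ((h.hq.coprime_iff_not_dvd.mpr hqi).symm.coprime_dvd_right (orderOf_dvd_of_pow_eq_one h.cq))
  exact he ▸ hby.pow_right e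

theorem Pair.orderOf_c (h : Pair c b q p k) : orderOf c = q := by
  have := Fact.mk h.hq
  exact orderOf_eq_prime h.cq fun h1 => h.nc (h1 ▸ Commute.one_right b)

theorem Pair.inf_eq_bot (h : Pair c b q p k) : zpowers c ⊓ zpowers b = ⊥ := by
  refine Coprime.inf_eq_bot_of_coprime ?_
  rw [Nat.card_zpowers, Nat.card_zpowers, h.orderOf_c]
  exact ((Nat.coprime_primes h.hq h.hp).mpr h.ne.symm).coprime_dvd_right
    (orderOf_dvd_of_pow_eq_one h.bp)

theorem Pair.card_grp_dvd (h : Pair c b q p k) : Nat.card (grp c b) ∣ q * p := by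
  rw [Coprime.card_sup_eq_mul h.zpowers_b_le h.inf_eq_bot, Nat.card_zpowers, Nat.card_zpowers]
  exact Nat.mul_dvd_mul (orderOf_dvd_of_pow_eq_one h.cq) (orderOf_dvd_of_pow_eq_one h.bp)

theorem Pair.centralizer_grp (_h : Pair c b q p k) (L : Subgroup Γ) :
    L ⊓ centralizer (grp c b : Set Γ) = L ⊓ centralizer {c} ⊓ centralizer {b} := by
  rw [inf_assoc, ← FixedPointFree.centralizer_zpowers c, ← FixedPointFree.centralizer_zpowers b]
  refine le_antisymm (le_inf inf_le_left (le_inf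
    (inf_le_right.trans (centralizer_le (SetLike.coe_subset_coe.mpr le_sup_left)))
    (inf_le_right.trans (centralizer_le (SetLike.coe_subset_coe.mpr le_sup_right)))))
    (le_inf inf_le_left ?_)
  rintro x ⟨-, h1, h2⟩
  refine mem_centralizer_iff.mpr fun y hy => ?_
  have hle : grp c b ≤ centralizer {x} := sup_le
    (fun z hz => mem_centralizer_singleton_iff.mpr (mem_centralizer_iff.mp h1 z hz))
    (fun z hz => mem_centralizer_singleton_iff.mpr (mem_centralizer_iff.mp h2 z hz))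
  exact mem_centralizer_singleton_iff.mp (hle hy)

/-- A nontrivial stabiliser not containing `c` contains a conjugate of `b`. -/
theorem Pair.exists_conj_b (h : Pair c b q p k) {S : Subgroup Γ} (hcS : c ∉ S) {s : Γ}
    (hs : s ∈ grp c b) (hsS : s ∈ S) (hs1 : s ≠ 1) :
    ∃ y ∈ zpowers c, y * b * y⁻¹ ∈ S := by
  obtain ⟨z, hz, b', hb', rfl⟩ := (Coprime.mem_sup_of_le_normalizer h.zpowers_b_le).mp hs
  obtain ⟨j, rfl⟩ := mem_powers_iff_mem_zpowers.mpr hb'
  have hpj : ¬ p ∣ j := by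
    rintro ⟨d, rfl⟩
    simp only [pow_mul, h.bp, one_pow, mul_one] at hsS hs1
    obtain ⟨i, rfl⟩ := mem_powers_iff_mem_zpowers.mpr hz
    have hqi : ¬ q ∣ i := fun ⟨d, hd⟩ => hs1 (show c ^ i = 1 by rw [hd, pow_mul, h.cq, one_pow])
    obtain ⟨e, he⟩ := exists_pow_eq_self_of_coprime (x := c) (n := i)
      ((h.hq.coprime_iff_not_dvd.mpr hqi).symm.coprime_dvd_right (orderOf_dvd_of_pow_eq_one h.cq))
    exact hcS (he ▸ pow_mem hsS e)
  obtain ⟨e, he⟩ := exists_pow_eq_self_of_coprime (x := b) (n := j)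
    ((h.hp.coprime_iff_not_dvd.mpr hpj).symm.coprime_dvd_right (orderOf_dvd_of_pow_eq_one h.bp))
  have key : ∀ m : ℕ, ∃ z' ∈ zpowers c, (z * b ^ j) ^ m = z' * (b ^ j) ^ m := by
    intro m
    induction m with
    | zero => exact ⟨1, one_mem _, by simp⟩
    | succ m ih =>
      obtain ⟨z', hz', he'⟩ := ih
      refine ⟨z' * ((b ^ j) ^ m * z * ((b ^ j) ^ m)⁻¹), mul_mem hz'
        ((mem_normalizer_iff.mp (h.zpowers_b_le (pow_mem (pow_mem (mem_zpowers b) j) m)) z).mp hz), ?_⟩
      rw [pow_succ, he', pow_succ (b ^ j)]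
      group
  obtain ⟨z', hz', he'⟩ := key e
  rw [he] at he'
  have hmem : z' * b ∈ S := he' ▸ pow_mem hsS e
  let g : zpowers c → zpowers c := fun y => ⟨⁅(y : Γ), b⁆, by
    rw [commutatorElement_def, mul_assoc, mul_assoc, ← mul_assoc b]
    exact mul_mem y.2 ((mem_normalizer_iff.mp (h.zpowers_b_le (mem_zpowers b)) _).mp (inv_mem y.2))⟩
  have hg : Function.Injective g := by
    intro y y' he2
    have he3 : (y : Γ) * b * (y : Γ)⁻¹ * b⁻¹ = (y' : Γ) * b * (y' : Γ)⁻¹ * b⁻¹ := congrArg Subtype.val he2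
    have hc2 : Commute b ((y' : Γ)⁻¹ * (y : Γ)) := by
      show b * ((y' : Γ)⁻¹ * (y : Γ)) = (y' : Γ)⁻¹ * (y : Γ) * b
      calc b * ((y' : Γ)⁻¹ * (y : Γ)) = (y' : Γ)⁻¹ * ((y' : Γ) * b * (y' : Γ)⁻¹ * b⁻¹) * b * y := by group
        _ = (y' : Γ)⁻¹ * ((y : Γ) * b * (y : Γ)⁻¹ * b⁻¹) * b * y := by rw [he3]
        _ = (y' : Γ)⁻¹ * (y : Γ) * b := by group
    exact Subtype.ext (inv_mul_eq_one.mp (h.eq_one_of_commute (mul_mem (inv_mem y'.2) y.2) hc2)).symm
  obtain ⟨y, hy⟩ := (Finite.injective_iff_surjective.mp hg) ⟨z', hz'⟩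
  refine ⟨y, y.2, ?_⟩
  have hy' : (y : Γ) * b * (y : Γ)⁻¹ * b⁻¹ = z' := congrArg Subtype.val hy
  rw [mul_inv_eq_iff_eq_mul.mp hy']
  exact hmem

/-- The stabiliser in `⟨c, b⟩` when `b` but not `c` belongs to it. -/
theorem Pair.inf_eq_zpowers_b (h : Pair c b q p k) {S : Subgroup Γ} (hbS : b ∈ S) (hcS : c ∉ S) :
    grp c b ⊓ S = zpowers b := by
  refine le_antisymm ?_ (le_inf le_sup_right (zpowers_le.mpr hbS))
  rintro s ⟨hs, hsS⟩
  obtain ⟨z, hz, b', hb', rfl⟩ := (Coprime.mem_sup_of_le_normalizer h.zpowers_b_le).mp hs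
  suffices hz1 : z = 1 by rw [hz1, one_mul]; exact hb'
  have hzS : z ∈ S := (S.mul_mem_cancel_right (zpowers_le.mpr hbS hb')).mp hsS
  obtain ⟨i, rfl⟩ := mem_powers_iff_mem_zpowers.mpr hz
  by_contra hne
  have hqi : ¬ q ∣ i := fun ⟨d, hd⟩ => hne (show c ^ i = 1 by rw [hd, pow_mul, h.cq, one_pow])
  obtain ⟨e, he⟩ := exists_pow_eq_self_of_coprime (x := c) (n := i)
    ((h.hq.coprime_iff_not_dvd.mpr hqi).symm.coprime_dvd_right (orderOf_dvd_of_pow_eq_one h.cq))
  exact hcS (he ▸ pow_mem hzS e)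

/-- The stabiliser in `⟨c, b⟩` when `c` but not `b` belongs to it. -/
theorem Pair.inf_eq_zpowers_c (h : Pair c b q p k) {S : Subgroup Γ} (hcS : c ∈ S) (hbS : b ∉ S) :
    grp c b ⊓ S = zpowers c := by
  refine le_antisymm ?_ (le_inf le_sup_left (zpowers_le.mpr hcS))
  rintro s ⟨hs, hsS⟩
  obtain ⟨z, hz, b', hb', rfl⟩ := (Coprime.mem_sup_of_le_normalizer h.zpowers_b_le).mp hs
  suffices hb1 : b' = 1 by rw [hb1, mul_one]; exact hz
  have hzS : b' ∈ S := (S.mul_mem_cancel_left (zpowers_le.mpr hcS hz)).mp hsS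
  obtain ⟨i, rfl⟩ := mem_powers_iff_mem_zpowers.mpr hb'
  by_contra hne
  have hpi : ¬ p ∣ i := fun ⟨d, hd⟩ => hne (show b ^ i = 1 by rw [hd, pow_mul, h.bp, one_pow])
  obtain ⟨e, he⟩ := exists_pow_eq_self_of_coprime (x := b) (n := i)
    ((h.hp.coprime_iff_not_dvd.mpr hpi).symm.coprime_dvd_right (orderOf_dvd_of_pow_eq_one h.bp))
  exact hbS (he ▸ pow_mem hzS e)

/-- An element acting on a piece without fixed vectors acts trivially modulo it. -/
theorem ActData.commutator_le_piece (hd : ActData l V M) {r : ℕ} (hr : r.Prime) {g : Γ}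
    (hg : g ^ r = 1) (hgV : g ∈ normalizer (V : Set Γ)) (hgM : g ∈ normalizer (M : Set Γ))
    (hrM : r.Coprime (Nat.card M)) (hB : IsPiece l V M B) (hgB : g ∈ normalizer (B : Set Γ))
    (hfix : V ⊓ centralizer (B : Set Γ) ⊓ centralizer {g} = ⊥) : ⁅M, zpowers g⁆ ≤ B := by
  have := hd.ea.1
  have := hd.commV
  set W := V ⊓ centralizer (B : Set Γ) with hW
  have : IsMulCommutative W := ⟨⟨fun x y => Subtype.ext (setLike_mul_comm x.2.1 y.2.1)⟩⟩
  have hgz : zpowers g ≤ normalizer (M : Set Γ) := zpowers_le.mpr hgM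
  have hle : ⁅M, zpowers g⁆ ≤ M := Coprime.commutator_le_of_le_normalizer hgz
  have hgzc : (Nat.card (zpowers g)).Coprime (Nat.card M) := by
    rw [Nat.card_zpowers]
    exact hrM.coprime_dvd_left (orderOf_dvd_of_pow_eq_one hg)
  have hMW : M ≤ normalizer (W : Set Γ) :=
    Coprime.le_normalizer_inf hd.normal (Coprime.le_normalizer_centralizer (hd.le_normalizer hB.le))
  have hgW : g ∈ normalizer (W : Set Γ) :=
    Coprime.le_normalizer_inf (zpowers_le.mpr hgV)
      (Coprime.le_normalizer_centralizer (zpowers_le.mpr hgB)) (mem_zpowers g)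
  have key : ⁅M, zpowers g⁆ ≤ centralizer (W : Set Γ) := by
    refine FixedPointFree.le_centralizer_of_frobenius hr hg (hle.trans hMW) hgW
      (normalizer_commutator_ge_right M (zpowers g) (mem_zpowers g))
      ((hd.coprime.coprime_dvd_left (card_dvd_of_le hle)).coprime_dvd_right
        (card_dvd_of_le inf_le_left)) hfix ?_
    rw [← FixedPointFree.centralizer_zpowers, eq_bot_iff]
    rintro y ⟨hy, hyc⟩
    exact (Coprime.centralizer_inf_commutator_eq_bot hgz hgzc).le ⟨⟨hle hy, hyc⟩, hy⟩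
  exact (le_inf hle key).trans (hd.piece_kernel hB le_rfl hB.ne_bot).le

/-- Two elements normalising `M` and a hyperplane `B` commute modulo the action on `M / B`. -/
theorem ActData.commutator_mem_piece (hd : ActData l V M) (hB : IsPiece l V M B) {g h : Γ}
    (hgM : g ∈ normalizer (M : Set Γ)) (hgB : g ∈ normalizer (B : Set Γ))
    (hhM : h ∈ normalizer (M : Set Γ)) (hhB : h ∈ normalizer (B : Set Γ)) {x : Γ} (hx : x ∈ M) :
    (g * h) * x * (g * h)⁻¹ * ((h * g) * x * (h * g)⁻¹)⁻¹ ∈ B := by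
  have := hd.ea.1
  by_cases hxB : x ∈ B
  · exact mul_mem ((mem_normalizer_iff.mp (mul_mem hgB hhB) x).mp hxB)
      (inv_mem ((mem_normalizer_iff.mp (mul_mem hhB hgB) x).mp hxB))
  have hsup : B ⊔ zpowers x = M := hd.piece_sup hB (zpowers_le.mpr hx) fun hle => hxB (hle (mem_zpowers x))
  have hxn : zpowers x ≤ normalizer (B : Set Γ) := (zpowers_le.mpr hx).trans (hd.le_normalizer hB.le)
  have key : ∀ {f : Γ}, f ∈ normalizer (M : Set Γ) → ∃ a : ℤ, ∃ β ∈ B, f * x * f⁻¹ = β * x ^ a := by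
    intro f hf
    have hm : f * x * f⁻¹ ∈ B ⊔ zpowers x := hsup.symm ▸ (mem_normalizer_iff.mp hf x).mp hx
    obtain ⟨β, hβ, z, hz, he⟩ := (Coprime.mem_sup_of_le_normalizer hxn).mp hm
    obtain ⟨a, rfl⟩ := mem_zpowers_iff.mp hz
    exact ⟨a, β, hβ, he.symm⟩
  obtain ⟨a, β, hβ, hg1⟩ := key hgM
  obtain ⟨e, γ, hγ, hh1⟩ := key hhM
  have hM : ∀ z ∈ B, z ∈ M := fun z hz => hB.le hz
  have expand : ∀ (f f' : Γ) (u w : ℤ) (β γ : Γ), f ∈ normalizer (B : Set Γ) → β ∈ B → γ ∈ B →
      f * x * f⁻¹ = β * x ^ u → f' * x * f'⁻¹ = γ * x ^ w →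
      ∃ δ ∈ B, (f * f') * x * (f * f')⁻¹ = δ * x ^ (u * w) := by
    intro f f' u w β γ hfB hβ hγ h1 h2
    have hc : Commute β (x ^ u) := hd.comm (hM β hβ) (zpow_mem hx u)
    refine ⟨(f * γ * f⁻¹) * β ^ w, mul_mem ((mem_normalizer_iff.mp hfB γ).mp hγ) (zpow_mem hβ w), ?_⟩
    calc (f * f') * x * (f * f')⁻¹ = f * (f' * x * f'⁻¹) * f⁻¹ := by group
      _ = f * (γ * x ^ w) * f⁻¹ := by rw [h2]
      _ = (f * γ * f⁻¹) * (f * x * f⁻¹) ^ w := by rw [conj_zpow]; group
      _ = (f * γ * f⁻¹) * β ^ w * x ^ (u * w) := by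
        rw [h1, hc.mul_zpow, ← zpow_mul]; simp only [mul_assoc]
  obtain ⟨δ, hδ, h1⟩ := expand g h a e β γ hgB hβ hγ hg1 hh1
  obtain ⟨ε, hε, h2⟩ := expand h g e a γ β hhB hγ hβ hh1 hg1
  rw [h1, h2, mul_comm e a, mul_inv_rev, mul_assoc, mul_inv_cancel_left]
  exact mul_mem hδ (inv_mem hε)

/-- The position of a piece: either `c` fixes it, or it contains `C_M(c)`. -/
theorem Pair.piece_position (hA : Pair c b q p k) (hd : ActData l V M)
    (hAV : grp c b ≤ normalizer (V : Set Γ)) (hAM : grp c b ≤ normalizer (M : Set Γ))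
    (hfV : Fpf c b V) (hfM : Fpf c b M) (hlq : q.Coprime (Nat.card M)) (hB : IsPiece l V M B) :
    (c ∈ normalizer (B : Set Γ) ∧ ¬ M ⊓ centralizer {c} ≤ B ∧
      V ⊓ centralizer (B : Set Γ) ⊓ centralizer {c} = ⊥ ∧ ⁅M, zpowers c⁆ ≤ B) ∨
    (c ∉ normalizer (B : Set Γ) ∧ M ⊓ centralizer {c} ≤ B) := by
  have := hd.ea.1
  have := hd.commV
  have hcV : c ∈ normalizer (V : Set Γ) := hAV (mem_sup_left (mem_zpowers c))
  have hbV : b ∈ normalizer (V : Set Γ) := hAV (mem_sup_right (mem_zpowers b))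
  have hcM : c ∈ normalizer (M : Set Γ) := hAM (mem_sup_left (mem_zpowers c))
  have hbM : b ∈ normalizer (M : Set Γ) := hAM (mem_sup_right (mem_zpowers b))
  have hzM : zpowers c ≤ normalizer (M : Set Γ) := zpowers_le.mpr hcM
  set M0 := M ⊓ centralizer {c} with hM0
  set M1 := ⁅M, zpowers c⁆ with hM1
  have hM1M : M1 ≤ M := Coprime.commutator_le_of_le_normalizer hzM
  have hzc : (Nat.card (zpowers c)).Coprime (Nat.card M) := by
    rw [Nat.card_zpowers, hA.orderOf_c]; exact hlq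
  have hM01 : M1 ⊔ M0 = M := by
    have h := Coprime.commutator_sup_centralizer hzM hzc
      (Or.inl (Group.isSolvable_of_comm fun x y => IsMulCommutative.is_comm.comm x y))
    rwa [FixedPointFree.centralizer_zpowers] at h
  have hbC : b ∈ normalizer (centralizer {c} : Set Γ) := by
    rw [← FixedPointFree.centralizer_zpowers]
    exact Coprime.le_normalizer_centralizer hA.zpowers_b_le (mem_zpowers b)
  set W := V ⊓ centralizer (B : Set Γ) with hW
  by_cases hM0B : M0 ≤ B
  · refine Or.inr ⟨fun hcB => ?_, hM0B⟩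
    have hM1B : ¬ M1 ≤ B := fun h => hd.piece_ne hB (le_antisymm hB.le (hM01 ▸ sup_le h hM0B))
    have hW1 : W ⊓ centralizer {c} ≠ ⊥ := fun h =>
      hM1B (hd.commutator_le_piece hA.hq hA.cq hcV hcM hlq hB hcB h)
    obtain ⟨⟨w, hw⟩, hw1⟩ := Subgroup.ne_bot_iff_exists_ne_one.mp hW1
    by_cases hbB : b ∈ normalizer (B : Set Γ)
    · refine hM1B (commutator_le.mpr fun x hx y hy => ?_)
      have hk : c ^ k * c⁻¹ ∈ zpowers c := mul_mem (pow_mem (mem_zpowers c) k) (inv_mem (mem_zpowers c))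
      have hk1 : c ^ k * c⁻¹ ≠ 1 := fun h1 => hA.nc (by
        have h2 := hA.rel
        rw [mul_inv_eq_one.mp h1] at h2
        exact mul_inv_eq_iff_eq_mul.mp h2)
      obtain ⟨i, hi⟩ := mem_powers_iff_mem_zpowers.mpr hk
      obtain ⟨j, rfl⟩ := mem_powers_iff_mem_zpowers.mpr hy
      change c ^ i = c ^ k * c⁻¹ at hi
      have hqi : ¬ q ∣ i := fun ⟨d, hd⟩ => hk1 (by rw [← hi, hd, pow_mul, hA.cq, one_pow])
      obtain ⟨e, he⟩ := exists_pow_eq_self_of_coprime (x := c) (n := i)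
        ((hA.hq.coprime_iff_not_dvd.mpr hqi).symm.coprime_dvd_right (orderOf_dvd_of_pow_eq_one hA.cq))
      have hu : c ^ k * c⁻¹ ∈ triv M B := by
        refine ⟨mul_mem (pow_mem hcM k) (inv_mem hcM), mul_mem (pow_mem hcB k) (inv_mem hcB),
          fun z hz => ?_⟩
        have h3 := hd.commutator_mem_piece hB hbM hbB hcM hcB
          (x := (c * b)⁻¹ * z * (c * b)) ((mem_normalizer_iff''.mp (mul_mem hcM hbM) z).mp hz)
        have e3 : ⁅c ^ k * c⁻¹, z⁆ = (b * c) * ((c * b)⁻¹ * z * (c * b)) * (b * c)⁻¹ *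
            ((c * b) * ((c * b)⁻¹ * z * (c * b)) * (c * b)⁻¹)⁻¹ := by
          rw [← hA.rel]; simp only [commutatorElement_def]; group
        rw [e3]
        exact h3
      have hcy : c ^ j ∈ triv M B := pow_mem (he ▸ pow_mem (hi ▸ hu) e) j
      rw [← commutatorElement_inv]
      exact inv_mem (hcy.2.2 x hx)
    · refine hw1 (Subtype.ext (hd.fixed_eq_one_of_stab hAV hAM (hA.centralizer_grp V ▸ hfV) hB
        hw.1.1 hw.1.2 fun g hg hgB => ?_))
      have hgc : g ∈ zpowers c := (hA.inf_eq_zpowers_c hcB hbB).le ⟨hg, hgB⟩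
      exact mem_centralizer_iff.mp ((FixedPointFree.centralizer_zpowers c).symm ▸ hw.2) g hgc
  · refine Or.inl ?_
    have hsup : B ⊔ M0 = M := hd.piece_sup hB inf_le_left hM0B
    -- `C_M(c)` centralises `C_V(c)`
    set V0 := V ⊓ centralizer {c} with hV0
    have : IsMulCommutative V0 := ⟨⟨fun x y => Subtype.ext (setLike_mul_comm x.2.1 y.2.1)⟩⟩
    have hM0V0 : M0 ≤ centralizer (V0 : Set Γ) := by
      refine FixedPointFree.le_centralizer_of_frobenius hA.hp hA.bp ?_ ?_ ?_ ?_ hfV hfM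
      · exact Coprime.le_normalizer_inf (inf_le_left.trans hd.normal)
          (inf_le_right.trans Subgroup.le_normalizer)
      · exact Coprime.le_normalizer_inf (zpowers_le.mpr hbV) (zpowers_le.mpr hbC) (mem_zpowers b)
      · exact Coprime.le_normalizer_inf (zpowers_le.mpr hbM) (zpowers_le.mpr hbC) (mem_zpowers b)
      · exact (hd.coprime.coprime_dvd_left (card_dvd_of_le inf_le_left)).coprime_dvd_right
          (card_dvd_of_le inf_le_left)
    -- `[M, c]` centralises `[V, C_M(c)]`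
    set U := ⁅V, M0⁆ with hU
    have hM0V : M0 ≤ normalizer (V : Set Γ) := inf_le_left.trans hd.normal
    have hUV : U ≤ V := Coprime.commutator_le_of_le_normalizer hM0V
    have : IsMulCommutative U := ⟨⟨fun x y => Subtype.ext (setLike_mul_comm (hUV x.2) (hUV y.2))⟩⟩
    have hcop0 : (Nat.card M0).Coprime (Nat.card V) :=
      hd.coprime.coprime_dvd_left (card_dvd_of_le inf_le_left)
    have hUc : U ⊓ centralizer {c} = ⊥ := by
      rw [eq_bot_iff]
      rintro v ⟨hv, hvc⟩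
      refine (Coprime.centralizer_inf_commutator_eq_bot hM0V hcop0).le ⟨⟨hUV hv, ?_⟩, hv⟩
      exact mem_centralizer_iff.mpr fun x hx =>
        (mem_centralizer_iff.mp (hM0V0 hx) v ⟨hUV hv, hvc⟩).symm
    have hcM0 : c ∈ normalizer (M0 : Set Γ) :=
      Coprime.le_normalizer_inf hzM ((zpowers_le.mpr (mem_centralizer_singleton_iff.mpr rfl)).trans
        Subgroup.le_normalizer) (mem_zpowers c)
    have hM1U : M1 ≤ centralizer (U : Set Γ) := by
      refine FixedPointFree.le_centralizer_of_frobenius hA.hq hA.cq ?_ ?_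
        (normalizer_commutator_ge_right M (zpowers c) (mem_zpowers c)) ?_ hUc ?_
      · exact FixedPointFree.le_normalizer_commutator' (hM1M.trans hd.normal)
          (hM1M.trans (hd.le_normalizer inf_le_left))
      · exact FixedPointFree.mem_normalizer_commutator hcV hcM0
      · exact (hd.coprime.coprime_dvd_left (card_dvd_of_le hM1M)).coprime_dvd_right (card_dvd_of_le hUV)
      · rw [← FixedPointFree.centralizer_zpowers, eq_bot_iff]
        rintro y ⟨hy, hyc⟩
        exact (Coprime.centralizer_inf_commutator_eq_bot hzM hzc).le ⟨⟨hM1M hy, hyc⟩, hy⟩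
    -- `W ≤ [V, C_M(c)]`
    have hWM : M0 ≤ normalizer (W : Set Γ) := Coprime.le_normalizer_inf hM0V
      (Coprime.le_normalizer_centralizer (inf_le_left.trans (hd.le_normalizer hB.le)))
    have hWU : W ≤ U := by
      have : IsMulCommutative W := ⟨⟨fun x y => Subtype.ext (setLike_mul_comm x.2.1 y.2.1)⟩⟩
      have hdec := (Coprime.abelian_decomposition (V := W) hWM
        (hcop0.coprime_dvd_right (card_dvd_of_le inf_le_left))).2
      have hbot : W ⊓ centralizer (M0 : Set Γ) = ⊥ := by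
        rw [eq_bot_iff]
        rintro v ⟨⟨hv, hvB⟩, hv0⟩
        refine hd.fixed.le ⟨hv, ?_⟩
        have hle : B ⊔ M0 ≤ centralizer {v} := sup_le
          (fun z hz => mem_centralizer_singleton_iff.mpr (mem_centralizer_iff.mp hvB z hz))
          (fun z hz => mem_centralizer_singleton_iff.mpr (mem_centralizer_iff.mp hv0 z hz))
        exact mem_centralizer_iff.mpr fun z hz => mem_centralizer_singleton_iff.mp (hle (hsup.symm ▸ hz))
      rw [hbot, bot_sup_eq] at hdec
      rw [← hdec]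
      exact commutator_mono inf_le_left le_rfl
    have hM1B : M1 ≤ B := by
      rw [← hd.piece_kernel hB le_rfl hB.ne_bot]
      exact le_inf hM1M (hM1U.trans (centralizer_le hWU))
    refine ⟨?_, hM0B, le_bot_iff.mp ((inf_le_inf_right _ hWU).trans hUc.le), hM1B⟩
    apply Coprime.mem_normalizer_of_conj_smul_eq
    refine eq_of_le_of_card_ge (fun y hy => ?_) (Coprime.card_conj_smul c B).ge
    obtain ⟨x, hx, rfl⟩ : ∃ x ∈ B, c * x * c⁻¹ = y :=
      ⟨c⁻¹ * y * c, Coprime.mem_conj_smul.mp hy, by group⟩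
    have h1 : ⁅x, c⁆ ∈ B := hM1B (commutator_mem_commutator (hB.le hx) (mem_zpowers c))
    have e1 : c * x * c⁻¹ = ⁅x, c⁆⁻¹ * x := by simp only [commutatorElement_def]; group
    rw [e1]
    exact mul_mem (inv_mem h1) hx

/-- A moved piece has a conjugate under `⟨c⟩` fixed by `b`. -/
theorem Pair.exists_fixed_conj (hA : Pair c b q p k) (hd : ActData l V M)
    (hAV : grp c b ≤ normalizer (V : Set Γ)) (hAM : grp c b ≤ normalizer (M : Set Γ))
    (hfV : Fpf c b V) (hB : IsPiece l V M B) (hcB : c ∉ normalizer (B : Set Γ)) :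
    ∃ y ∈ zpowers c, b ∈ normalizer ((MulAut.conj y • B : Subgroup Γ) : Set Γ) := by
  obtain ⟨⟨w, hw⟩, hw1⟩ := Subgroup.ne_bot_iff_exists_ne_one.mp hB.ne_bot
  obtain ⟨s, hs, hs1⟩ : ∃ s ∈ grp c b ⊓ normalizer (B : Set Γ), s ≠ 1 := by
    by_contra! hcon
    refine hw1 (Subtype.ext (hd.fixed_eq_one_of_stab hAV hAM (hA.centralizer_grp V ▸ hfV) hB hw.1 hw.2
      fun g hg hgB => ?_))
    rw [hcon g ⟨hg, hgB⟩, one_mul, mul_one]
  obtain ⟨y, hy, hyb⟩ := hA.exists_conj_b hcB hs.1 hs.2 hs1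
  refine ⟨y⁻¹, inv_mem hy, Coprime.mem_normalizer_of_conj_smul_eq ?_⟩
  have h1 := Coprime.conj_smul_eq_self_of_mem_normalizer hyb
  conv_rhs => rw [← h1]
  rw [← Coprime.conj_mul_smul, ← Coprime.conj_mul_smul]
  congr 2
  group

/-- A moved piece fixed by `b`: no fixed vectors, and `b` is trivial on `M` modulo it. -/
theorem Pair.piece_moved (hA : Pair c b q p k) (hd : ActData l V M)
    (hAV : grp c b ≤ normalizer (V : Set Γ)) (hAM : grp c b ≤ normalizer (M : Set Γ))
    (hfV : Fpf c b V) (hlp : p.Coprime (Nat.card M)) (hB : IsPiece l V M B)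
    (hcB : c ∉ normalizer (B : Set Γ)) (hbB : b ∈ normalizer (B : Set Γ)) :
    V ⊓ centralizer (B : Set Γ) ⊓ centralizer {b} = ⊥ ∧ ⁅M, zpowers b⁆ ≤ B := by
  have hW : V ⊓ centralizer (B : Set Γ) ⊓ centralizer {b} = ⊥ := by
    rw [eq_bot_iff]
    rintro w ⟨hw, hwb⟩
    refine hd.fixed_eq_one_of_stab hAV hAM (hA.centralizer_grp V ▸ hfV) hB hw.1 hw.2
      fun g hg hgB => ?_
    have hgb : g ∈ zpowers b := (hA.inf_eq_zpowers_b hbB hcB).le ⟨hg, hgB⟩
    exact mem_centralizer_iff.mp ((FixedPointFree.centralizer_zpowers b).symm ▸ hwb) g hgb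
  exact ⟨hW, hd.commutator_le_piece hA.hp hA.bp (hAV (mem_sup_right (mem_zpowers b)))
    (hAM (mem_sup_right (mem_zpowers b))) hlp hB hbB hW⟩

end Cfsg.Agent.FittingPQ
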